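import Groth.Agent.Lib.SiteCoh.Shift
import Mathlib.Algebra.Homology.DerivedCategory.Ext.Map
import Mathlib.CategoryTheory.Adjunction.Additive

/-! `Ext` and exact adjoint functors. -/

universe w w' v v' u u'

open CategoryTheory CategoryTheory.Limits Abelian

set_option linter.style.haveILetI false

namespace Groth.Agent.SiteCoh

variable {A : Type u} [Category.{v} A] [Abelian A] [HasExt.{w} A] [EnoughInjectives A]
  {B : Type u'} [Category.{v'} B] [Abelian B] [HasExt.{w'} B]
  {L : B ⥤ A} {R : A ⥤ B} (adj : L ⊣ R)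
  [R.Additive] [PreservesFiniteLimits R] [PreservesFiniteColimits R]

/-- comparison of Ext groups -/
noncomputable def extAdjHom (P : B) (Y : A) (n : ℕ) : Ext (L.obj P) Y n →+ Ext P (R.obj Y) n :=
  AddMonoidHom.mk' (fun x => (Ext.mk₀ (adj.unit.app P)).comp (x.mapExactFunctor R) (zero_add n)) fun x y => by
    rw [Ext.mapExactFunctor_add, Ext.comp_add]

lemma extAdjHom_apply (P : B) (Y : A) (n : ℕ) (x : Ext (L.obj P) Y n) :
    extAdjHom adj P Y n x = (Ext.mk₀ (adj.unit.app P)).comp (x.mapExactFunctor R) (zero_add n) := rfl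

lemma extAdjHom_mk₀ (P : B) (Y : A) (f : L.obj P ⟶ Y) :
    extAdjHom adj P Y 0 (Ext.mk₀ f) = Ext.mk₀ (adj.homEquiv P Y f) := by
  rw [extAdjHom_apply, Ext.mapExactFunctor_mk₀, Ext.mk₀_comp_mk₀, Adjunction.homEquiv_unit]

lemma extAdjHom_comp (P : B) {Y Z : A} {n m k : ℕ} (x : Ext (L.obj P) Y n) (y : Ext Y Z m) (h : n + m = k) :
    extAdjHom adj P Z k (x.comp y h) = (extAdjHom adj P Y n x).comp (y.mapExactFunctor R) h := by
  rw [extAdjHom_apply, extAdjHom_apply, Ext.mapExactFunctor_comp]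
  exact (Ext.comp_assoc _ _ _ (zero_add n) h (by lia)).symm

variable (hR : ∀ I : A, Injective I → Injective (R.obj I))
include hR

theorem bijective_extAdjHom : ∀ (n : ℕ) (P : B) (Y : A), Function.Bijective (extAdjHom adj P Y n)
  | 0, P, Y => by
    constructor
    · intro x y h
      obtain ⟨f, rfl⟩ := (Ext.mk₀_bijective _ _).2 x
      obtain ⟨g, rfl⟩ := (Ext.mk₀_bijective _ _).2 y
      rw [extAdjHom_mk₀, extAdjHom_mk₀] at h
      rw [(adj.homEquiv P Y).injective ((Ext.mk₀_bijective _ _).1 h)]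
    · intro x
      obtain ⟨f, rfl⟩ := (Ext.mk₀_bijective _ _).2 x
      exact ⟨Ext.mk₀ ((adj.homEquiv P Y).symm f), by rw [extAdjHom_mk₀, Equiv.apply_symm_apply]⟩
  | n + 1, P, Y => by
    obtain ⟨I, Q, i, p, w, hI, hS⟩ := exists_inj_seq Y
    have hS' := hS.map_of_exact R
    have ih := bijective_extAdjHom n P
    constructor
    · refine (injective_iff_map_eq_zero _).2 fun x hx => ?_
      obtain ⟨y, rfl⟩ := Ext.covariant_sequence_exact₁ _ hS x (Ext.eq_zero_of_injective _) (n₀ := n) rfl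
      dsimp at y
      rw [extAdjHom_comp, Ext.mapExactFunctor_extClass] at hx
      obtain ⟨z, hz⟩ := Ext.covariant_sequence_exact₃ _ hS' _ rfl hx
      obtain ⟨z', rfl⟩ := (ih I).2 z
      dsimp at hz
      erw [← Ext.mapExactFunctor_mk₀, ← extAdjHom_comp] at hz
      rw [← (ih Q).1 hz]
      exact (Ext.comp_assoc_of_second_deg_zero _ _ _ _).trans (by rw [hS.comp_extClass, Ext.comp_zero])
    · intro x
      haveI : Injective ((ShortComplex.mk i p w).map R).X₂ := hR I hI
      obtain ⟨y, rfl⟩ := Ext.covariant_sequence_exact₁ _ hS' x (Ext.eq_zero_of_injective _) (n₀ := n) rfl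
      obtain ⟨y', rfl⟩ := (ih Q).2 y
      exact ⟨y'.comp hS.extClass rfl, by rw [extAdjHom_comp, Ext.mapExactFunctor_extClass]; rfl⟩

/-- the comparison isomorphism -/
noncomputable def extAdjEquiv (P : B) (Y : A) (n : ℕ) : Ext (L.obj P) Y n ≃+ Ext P (R.obj Y) n :=
  AddEquiv.ofBijective _ (bijective_extAdjHom adj hR n P Y)

omit adj hR in
/-- comparison of Ext groups along a universal map -/
noncomputable def extCompHom {P : B} {P' : A} (η : P ⟶ R.obj P') (Y : A) (n : ℕ) :
    Ext P' Y n →+ Ext P (R.obj Y) n :=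
  AddMonoidHom.mk' (fun x => (Ext.mk₀ η).comp (x.mapExactFunctor R) (zero_add n)) fun x y => by
    rw [Ext.mapExactFunctor_add, Ext.comp_add]

omit adj hR in
lemma extCompHom_comp {P : B} {P' : A} (η : P ⟶ R.obj P') {Y Z : A} {n m k : ℕ} (x : Ext P' Y n) (y : Ext Y Z m)
    (h : n + m = k) :
    extCompHom η Z k (x.comp y h) = (extCompHom η Y n x).comp (y.mapExactFunctor R) h := by
  show (Ext.mk₀ η).comp ((x.comp y h).mapExactFunctor R) (zero_add k) =
    ((Ext.mk₀ η).comp (x.mapExactFunctor R) (zero_add n)).comp (y.mapExactFunctor R) h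
  rw [Ext.mapExactFunctor_comp]
  exact (Ext.comp_assoc _ _ _ (zero_add n) h (by lia)).symm

omit adj hR in
/-- the comparison is bijective when images of injectives are acyclic -/
theorem bijective_extCompHom {P : B} {P' : A} (η : P ⟶ R.obj P')
    (h0 : ∀ Y, Function.Bijective fun f : P' ⟶ Y => η ≫ R.map f)
    (hI : ∀ I : A, Injective I → ∀ k, Subsingleton (Ext P (R.obj I) (k + 1))) :
    ∀ (n : ℕ) (Y : A), Function.Bijective (extCompHom η Y n)
  | 0, Y => by
    have e : ∀ f : P' ⟶ Y, extCompHom η Y 0 (Ext.mk₀ f) = Ext.mk₀ (η ≫ R.map f) := fun f => by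
      show (Ext.mk₀ η).comp ((Ext.mk₀ f).mapExactFunctor R) (zero_add 0) = _
      rw [Ext.mapExactFunctor_mk₀, Ext.mk₀_comp_mk₀]
    constructor
    · intro x y h
      obtain ⟨f, rfl⟩ := (Ext.mk₀_bijective _ _).2 x
      obtain ⟨g, rfl⟩ := (Ext.mk₀_bijective _ _).2 y
      rw [e, e] at h
      rw [(h0 Y).1 ((Ext.mk₀_bijective _ _).1 h)]
    · intro x
      obtain ⟨f, rfl⟩ := (Ext.mk₀_bijective _ _).2 x
      obtain ⟨g, rfl⟩ := (h0 Y).2 f
      exact ⟨Ext.mk₀ g, e g⟩
  | n + 1, Y => by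
    obtain ⟨I, Q, i, p, w, hIj, hS⟩ := exists_inj_seq Y
    have hS' := hS.map_of_exact R
    have ih := bijective_extCompHom η h0 hI n
    constructor
    · refine (injective_iff_map_eq_zero _).2 fun x hx => ?_
      obtain ⟨y, rfl⟩ := Ext.covariant_sequence_exact₁ _ hS x (Ext.eq_zero_of_injective _) (n₀ := n) rfl
      dsimp at y
      rw [extCompHom_comp, Ext.mapExactFunctor_extClass] at hx
      obtain ⟨z, hz⟩ := Ext.covariant_sequence_exact₃ _ hS' _ rfl hx
      obtain ⟨z', rfl⟩ := (ih I).2 z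
      dsimp at hz
      erw [← Ext.mapExactFunctor_mk₀, ← extCompHom_comp] at hz
      rw [← (ih Q).1 hz]
      exact (Ext.comp_assoc_of_second_deg_zero _ _ _ _).trans (by rw [hS.comp_extClass, Ext.comp_zero])
    · intro x
      obtain ⟨y, rfl⟩ := Ext.covariant_sequence_exact₁ _ hS' x ((hI I hIj n).elim _ _) (n₀ := n) rfl
      obtain ⟨y', rfl⟩ := (ih Q).2 y
      exact ⟨y'.comp hS.extClass rfl, by rw [extCompHom_comp, Ext.mapExactFunctor_extClass]; rfl⟩

end Groth.Agent.SiteCoh
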