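import Groth.Agent.Lib.SiteCoh.Shift
import Mathlib.Algebra.Homology.QuasiIso
import Mathlib.Algebra.Homology.SingleHomology

/-! Maps out of an augmented chain complex which is a resolution. -/

universe w v u

open CategoryTheory CategoryTheory.Limits Abelian

set_option linter.style.haveILetI false
set_option backward.isDefEq.respectTransparency false

namespace Groth.Agent.SiteCoh

variable {A : Type u} [Category.{v} A] [Abelian A] {P : A} {K : ChainComplex A ℕ}

/-- cocycles in degree `q + 1` of maps into `F` are coboundaries -/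
def HomExactAt (K : ChainComplex A ℕ) (F : A) (q : ℕ) : Prop :=
  ∀ x : K.X (q + 1) ⟶ F, K.d (q + 2) (q + 1) ≫ x = 0 → ∃ y : K.X q ⟶ F, K.d (q + 1) q ≫ y = x

variable (ε : K ⟶ (ChainComplex.single₀ A).obj P) [QuasiIso ε]

include ε in
lemma exact_of_resolution (q : ℕ) : (K.sc' (q + 2) (q + 1) q).Exact := by
  rw [← K.exactAt_iff' (q + 2) (q + 1) q (by simp) (by simp)]
  exact (quasiIsoAt_iff_exactAt' ε (q + 1) (ChainComplex.exactAt_succ_single_obj P q)).1 inferInstance

include ε in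
/-- resolutions are exact against injectives -/
lemma homExactAt_injective (I : A) [Injective I] (q : ℕ) : HomExactAt K I q := fun x hx =>
  ⟨(exact_of_resolution ε q).descToInjective x hx, (exact_of_resolution ε q).comp_descToInjective x hx⟩

/-- the augmentation -/
noncomputable abbrev aug : K.X 0 ⟶ P := ε.f 0

omit [QuasiIso ε] in
lemma d_comp_aug : K.d 1 0 ≫ aug ε = 0 := by
  show K.d 1 0 ≫ ε.f 0 = 0
  rw [← ε.comm 1 0]
  simp

/-- the augmentation is a cokernel of the first differential -/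
lemma exists_desc_aug {F : A} (g : K.X 0 ⟶ F) (hg : K.d 1 0 ≫ g = 0) : ∃ c : P ⟶ F, aug ε ≫ c = g := by
  have h := (ChainComplex.quasiIsoAt₀_iff ε).1 inferInstance
  rw [ShortComplex.quasiIso_iff_isIso_descOpcycles _ (by simp) (by rfl) (by rfl)] at h
  let S := K.sc' 1 0 0
  let φ := (HomologicalComplex.shortComplexFunctor' A (ComplexShape.down ℕ) 1 0 0).map ε
  let o : S.opcycles ⟶ P := S.descOpcycles (k := aug ε) (d_comp_aug ε)
  haveI : IsIso o := h
  refine ⟨inv o ≫ S.descOpcycles (k := g) hg, ?_⟩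
  have e : S.pOpcycles ≫ o = aug ε := S.p_descOpcycles _ _
  rw [← e, Category.assoc, IsIso.hom_inv_id_assoc]
  exact S.p_descOpcycles _ _

lemma epi_aug : Epi (aug ε) := by
  refine Preadditive.epi_of_cancel_zero _ fun {Z} g hg => ?_
  have h := (ChainComplex.quasiIsoAt₀_iff ε).1 inferInstance
  rw [ShortComplex.quasiIso_iff_isIso_descOpcycles _ (by simp) (by rfl) (by rfl)] at h
  let S := K.sc' 1 0 0
  let o : S.opcycles ⟶ P := S.descOpcycles (k := aug ε) (d_comp_aug ε)
  haveI : IsIso o := h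
  haveI : Epi (S.pOpcycles ≫ o) := inferInstance
  have e : S.pOpcycles ≫ o = aug ε := S.p_descOpcycles _ _
  rw [← cancel_epi (S.pOpcycles ≫ o), e, hg, comp_zero]

section Acyclic

variable [HasExt.{w} A] [EnoughInjectives A]

include ε

/-- acyclic objects are exact against resolutions -/
theorem homExactAt_of_acyclic : ∀ (q : ℕ) (F : A), (∀ n k, Subsingleton (Ext (K.X n) F (k + 1))) →
    (∀ k, Subsingleton (Ext P F (k + 1))) → HomExactAt K F q
  | q, F, hK, hP => fun x hx => by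
    obtain ⟨I, Q, i, p, w, hI, hS⟩ := exists_inj_seq F
    haveI : Mono i := hS.mono_f
    obtain ⟨b, hb⟩ := homExactAt_injective ε I q (x ≫ i) (by rw [← Category.assoc, hx, zero_comp])
    have hb0 : K.d (q + 1) q ≫ b ≫ p = 0 := by
      rw [← Category.assoc, hb, Category.assoc, w, comp_zero]
    suffices h : ∃ b' : K.X q ⟶ I, K.d (q + 1) q ≫ b' = x ≫ i ∧ b' ≫ p = 0 by
      obtain ⟨b', hb', hb''⟩ := h
      refine ⟨hS.fIsKernel.lift (KernelFork.ofι b' hb''), ?_⟩
      rw [← cancel_mono i, Category.assoc]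
      refine Eq.trans ?_ hb'
      exact congrArg (K.d (q + 1) q ≫ ·) (Fork.IsLimit.lift_ι hS.fIsKernel)
    cases q with
    | zero =>
      obtain ⟨c, hc⟩ := exists_desc_aug ε (b ≫ p) hb0
      obtain ⟨c', hc'⟩ := exists_lift_of_ext P hS (hP 0) c
      dsimp at hc'
      refine ⟨b - aug ε ≫ c', ?_, ?_⟩
      · rw [Preadditive.comp_sub, hb, reassoc_of% (d_comp_aug ε), zero_comp, sub_zero]
      · rw [Preadditive.sub_comp, Category.assoc, hc', hc, sub_self]
    | succ k =>
      obtain ⟨z, hz⟩ := homExactAt_of_acyclic k Q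
        (fun n j => ext_shift₃ _ hS (j + 1) (subsingleton_ext_injective _ I j) (hK n (j + 1)))
        (fun j => ext_shift₃ _ hS (j + 1) (subsingleton_ext_injective _ I j) (hP (j + 1))) (b ≫ p) hb0
      obtain ⟨z', hz'⟩ := exists_lift_of_ext (K.X k) hS (hK k 0) z
      dsimp at hz'
      refine ⟨b - K.d (k + 1) k ≫ z', ?_, ?_⟩
      · rw [Preadditive.comp_sub, hb, ← Category.assoc (K.d _ _) (K.d _ _), K.d_comp_d, zero_comp, sub_zero]
      · rw [Preadditive.sub_comp, Category.assoc, hz', hz, sub_self]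

end Acyclic

/-- lifting through an epimorphism along a resolution -/
theorem exists_lift_of_resolution {S : ShortComplex A} (hS : S.ShortExact) (h : HomExactAt K S.X₁ 0) (φ : P ⟶ S.X₃)
    (ψ₀ : K.X 0 ⟶ S.X₂) (h0 : ψ₀ ≫ S.g = aug ε ≫ φ) : ∃ ψ : P ⟶ S.X₂, ψ ≫ S.g = φ := by
  haveI := hS.mono_f
  have hd : (K.d 1 0 ≫ ψ₀) ≫ S.g = 0 := by
    rw [Category.assoc, h0, reassoc_of% (d_comp_aug ε), zero_comp]
  obtain ⟨z, hz⟩ : ∃ z, z ≫ S.f = K.d 1 0 ≫ ψ₀ :=
    ⟨hS.fIsKernel.lift (KernelFork.ofι _ hd), Fork.IsLimit.lift_ι hS.fIsKernel⟩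
  obtain ⟨y, hy⟩ := h z (by rw [← cancel_mono S.f, Category.assoc, hz, ← Category.assoc, K.d_comp_d,
    zero_comp, zero_comp])
  obtain ⟨c, hc⟩ := exists_desc_aug ε (ψ₀ - y ≫ S.f) (by
    rw [Preadditive.comp_sub, ← hz, ← hy, Category.assoc, sub_self])
  haveI := epi_aug ε
  refine ⟨c, (cancel_epi (aug ε)).1 ?_⟩
  rw [← Category.assoc, hc, Preadditive.sub_comp, Category.assoc, S.zero, comp_zero, sub_zero, h0]

omit [QuasiIso ε] in
/-- exactness passes to cokernels -/
theorem homExactAt_of_shortExact {S : ShortComplex A} (hS : S.ShortExact) (q : ℕ)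
    (h₁ : HomExactAt K S.X₁ (q + 1)) (h₂ : HomExactAt K S.X₂ q)
    (hl : ∀ g : K.X (q + 1) ⟶ S.X₃, ∃ g' : K.X (q + 1) ⟶ S.X₂, g' ≫ S.g = g) : HomExactAt K S.X₃ q :=
  fun x hx => by
    haveI := hS.mono_f
    obtain ⟨x', rfl⟩ := hl x
    have h0 : (K.d (q + 2) (q + 1) ≫ x') ≫ S.g = 0 := by rw [Category.assoc, hx]
    obtain ⟨z, hz⟩ : ∃ z, z ≫ S.f = K.d (q + 2) (q + 1) ≫ x' :=
      ⟨hS.fIsKernel.lift (KernelFork.ofι _ h0), Fork.IsLimit.lift_ι hS.fIsKernel⟩
    obtain ⟨y, hy⟩ := h₁ z (by rw [← cancel_mono S.f, Category.assoc, hz, ← Category.assoc, K.d_comp_d,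
      zero_comp, zero_comp])
    obtain ⟨b, hb⟩ := h₂ (x' - y ≫ S.f) (by rw [Preadditive.comp_sub, ← hz, ← hy, Category.assoc, sub_self])
    refine ⟨b ≫ S.g, ?_⟩
    rw [← Category.assoc, hb, Preadditive.sub_comp, Category.assoc, S.zero, comp_zero, sub_zero]

end Groth.Agent.SiteCoh
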