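import Groth.Agent.Lib.SiteCoh.CechFree
import Groth.Agent.Lib.SiteCoh.Resolution
import Mathlib.Algebra.Homology.ShortComplex.Ab

/-! Čech cohomology of epimorphisms of sheaves of sets and total acyclicity. -/

universe u

open CategoryTheory CategoryTheory.Functor CategoryTheory.Limits Opposite Abelian AlgebraicTopology Simplicial

set_option linter.style.haveILetI false
set_option backward.isDefEq.respectTransparency false
set_option backward.isDefEq.respectTransparency.types false

namespace Groth.Agent.SiteCoh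

variable {C : Type u} [SmallCategory C] {J : GrothendieckTopology C} {K' K : Sheaf J (Type u)} (f : K' ⟶ K)

/-- the augmented nerve of free sheaves -/
noncomputable abbrev frNerve : SimplicialObject.Augmented (Sheaf J AddCommGrpCat.{u}) :=
  ((SimplicialObject.Augmented.whiskering _ _).obj (Sheaf.composeAndSheafify J AddCommGrpCat.free.{u})).obj
    (Arrow.mk f).augmentedCechNerve

/-- the chain complex of free sheaves -/
noncomputable abbrev frCx : ChainComplex (Sheaf J AddCommGrpCat.{u}) ℕ :=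
  (alternatingFaceMapComplex _).obj (frNerve f).left

lemma sum_apply {G H : AddCommGrpCat.{u}} {ι : Type*} (s : Finset ι) (g : ι → (G ⟶ H)) (x : G) :
    (∑ i ∈ s, g i) x = ∑ i ∈ s, g i x := by
  classical
  induction s using Finset.induction_on with
  | empty => rfl
  | insert a s ha ih =>
    rw [Finset.sum_insert ha, Finset.sum_insert ha, ← ih]
    rfl

lemma cechNerveCx_d_apply (F : Sheaf J AddCommGrpCat.{u}) (q : ℕ) (x : (frCx f).X q ⟶ F) :
    (CohCx.cechNerveCx F f).d q (q + 1) x = (frCx f).d (q + 1) q ≫ x := by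
  rw [alternatingFaceMapComplex_obj_d]
  simp only [AlternatingFaceMapComplex.objD, Preadditive.sum_comp, Preadditive.zsmul_comp]
  simp only [CohCx.cechNerveCx, alternatingCofaceMapComplex, AlternatingCofaceMapComplex.obj, CochainComplex.of_d,
    AlternatingCofaceMapComplex.objD]
  erw [sum_apply]
  refine Finset.sum_congr rfl fun i _ => ?_
  rfl

lemma isZero_homology_iff (F : Sheaf J AddCommGrpCat.{u}) (q : ℕ) :
    IsZero ((CohCx.cechNerveCx F f).homology (q + 1)) ↔ HomExactAt (frCx f) F q := by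
  rw [← HomologicalComplex.exactAt_iff_isZero_homology,
    HomologicalComplex.exactAt_iff' _ q (q + 1) (q + 2) (by simp) (by simp), ShortComplex.ab_exact_iff]
  constructor
  · intro h x hx
    obtain ⟨y, hy⟩ := h x ((cechNerveCx_d_apply f F (q + 1) x).trans hx)
    exact ⟨y, (cechNerveCx_d_apply f F q y).symm.trans hy⟩
  · intro h x hx
    obtain ⟨y, hy⟩ := h x ((cechNerveCx_d_apply f F (q + 1) x).symm.trans hx)
    exact ⟨y, (cechNerveCx_d_apply f F q y).trans hy⟩

variable [Epi f]

theorem homExactAt_frCx (F : Sheaf J AddCommGrpCat.{u}) (hF : CohCx.IsTotallyAcyclic F) (q : ℕ) :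
    HomExactAt (frCx f) F q := by
  haveI := quasiIso_cech f
  exact homExactAt_of_acyclic (AlternatingFaceMapComplex.ε.app (frNerve f)) q F
    (fun n k => hF _ k) (fun k => hF _ k)

omit f

/-- lifting maps out of free sheaves when degree one Čech cocycles are coboundaries -/
lemma exists_lift_of_cech {S : ShortComplex (Sheaf J AddCommGrpCat.{u})} (hS : S.ShortExact)
    (h : ∀ (K' K : Sheaf J (Type u)) (f : K' ⟶ K), Epi f → HomExactAt (frCx f) S.X₁ 0)
    (K : Sheaf J (Type u)) (φ : (frP J).obj K.obj ⟶ S.X₃) : ∃ ψ : (frP J).obj K.obj ⟶ S.X₂, ψ ≫ S.g = φ := by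
  let adj := Sheaf.adjunction J AddCommGrpCat.adj
  haveI := hS.mono_f
  haveI := hS.epi_g
  haveI hls : Sheaf.IsLocallySurjective S.g := (Sheaf.isLocallySurjective_iff_epi' _ S.g).2 inferInstance
  let φ' : K ⟶ (und J).obj S.X₃ := adj.homEquiv K S.X₃ φ
  let π : pullback φ' ((und J).map S.g) ⟶ K := pullback.fst _ _
  let t : pullback φ' ((und J).map S.g) ⟶ (und J).obj S.X₂ := pullback.snd _ _
  haveI : Epi π := by
    suffices Sheaf.IsLocallySurjective π from inferInstance
    constructor
    intro U s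
    refine J.superset_covering ?_ (Presheaf.imageSieve_mem J S.g.hom (U := op U) (φ'.hom.app (op U) s))
    rintro V g ⟨y, hy⟩
    let ev := sheafToPresheaf J (Type u) ⋙ (evaluation Cᵒᵖ (Type u)).obj (op V)
    have hpb : IsPullback (ev.map π) (ev.map t) (ev.map φ') (ev.map ((und J).map S.g)) :=
      (IsPullback.of_hasPullback φ' ((und J).map S.g)).map ev
    obtain ⟨z, hz, -⟩ := Types.exists_of_isPullback hpb (K.obj.map g.op s) y
      ((NatTrans.naturality_apply φ'.hom g.op s).trans hy.symm)
    exact ⟨z, hz⟩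
  let ψ₀ : (frCx π).X 0 ⟶ S.X₂ :=
    (adj.homEquiv _ _).symm (WidePullback.π (fun _ : Fin (0 + 1) => (Arrow.mk π).hom) 0 ≫ t)
  have h0 : ψ₀ ≫ S.g = aug (AlternatingFaceMapComplex.ε.app (frNerve π)) ≫ φ := by
    rw [show aug (AlternatingFaceMapComplex.ε.app (frNerve π)) = (frNerve π).hom.app (op ⦋0⦌) from
      AlternatingFaceMapComplex.ε_app_f_zero _]
    apply (adj.homEquiv _ _).injective
    rw [Adjunction.homEquiv_naturality_right]
    erw [Equiv.apply_symm_apply, adj.homEquiv_naturality_left]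
    show (WidePullback.π (fun _ : Fin (0 + 1) => (Arrow.mk π).hom) 0 ≫ t) ≫ (und J).map S.g =
      WidePullback.base (fun _ : Fin (0 + 1) => (Arrow.mk π).hom) ≫ φ'
    rw [Category.assoc, ← pullback.condition, ← Category.assoc]
    exact congrArg (· ≫ φ') (WidePullback.π_arrow (fun _ : Fin (0 + 1) => (Arrow.mk π).hom) 0)
  haveI := quasiIso_cech π
  let ε := AlternatingFaceMapComplex.ε.app (frNerve π)
  have hd : ((frCx π).d 1 0 ≫ ψ₀) ≫ S.g = 0 := by
    rw [Category.assoc, h0]
    erw [← Category.assoc, d_comp_aug ε, zero_comp]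
  obtain ⟨z, hz⟩ : ∃ z, z ≫ S.f = (frCx π).d 1 0 ≫ ψ₀ :=
    ⟨hS.fIsKernel.lift (KernelFork.ofι _ hd), Fork.IsLimit.lift_ι hS.fIsKernel⟩
  obtain ⟨y, hy⟩ := h _ _ π inferInstance z (by
    rw [← cancel_mono S.f, Category.assoc, hz, ← Category.assoc, (frCx π).d_comp_d, zero_comp, zero_comp])
  obtain ⟨c, hc⟩ := exists_desc_aug ε (ψ₀ - y ≫ S.f) (by
    erw [Preadditive.comp_sub, ← hz, ← hy, Category.assoc, sub_self])
  haveI := epi_aug ε
  refine ⟨c, (cancel_epi (aug ε)).1 ?_⟩
  rw [← Category.assoc, hc, Preadditive.sub_comp, Category.assoc, S.zero, comp_zero, sub_zero, h0]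

/-- Čech acyclicity for all epimorphisms gives total acyclicity -/
theorem isTotallyAcyclic_of_homExactAt :
    ∀ (p : ℕ) (F : Sheaf J AddCommGrpCat.{u}),
      (∀ (K' K : Sheaf J (Type u)) (f : K' ⟶ K), Epi f → ∀ q, HomExactAt (frCx f) F q) →
      ∀ K : Sheaf J (Type u), Subsingleton (CohCx.HK K F (p + 1))
  | 0, F, h, K => by
    obtain ⟨I, Q, i, p, w, hI, hS⟩ := exists_inj_seq F
    exact ext_one_eq_zero _ hS (exists_lift_of_cech hS (fun K' K f hf => h K' K f hf 0) K)
      (subsingleton_ext_injective _ I 0)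
  | p + 1, F, h, K => by
    obtain ⟨I, Q, i, π, w, hI, hS⟩ := exists_inj_seq F
    have hl : ∀ (L : Sheaf J (Type u)) (g : (frP J).obj L.obj ⟶ Q), ∃ g', g' ≫ π = g :=
      fun L g => exists_lift_of_cech hS (fun K' K f hf => h K' K f hf 0) L g
    have hQ : ∀ (K' K : Sheaf J (Type u)) (f : K' ⟶ K), Epi f → ∀ q, HomExactAt (frCx f) Q q :=
      fun K' K f hf q => by
        haveI := quasiIso_cech f
        exact homExactAt_of_shortExact hS q (h K' K f hf (q + 1))
          (homExactAt_injective (AlternatingFaceMapComplex.ε.app (frNerve f)) I q) (fun g => hl _ g)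
    exact ext_shift₁ _ hS (p + 1) (isTotallyAcyclic_of_homExactAt p Q hQ K) (subsingleton_ext_injective _ I (p + 1))

end Groth.Agent.SiteCoh
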