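import Groth.Agent.Lib.SiteCoh.Basic
import Mathlib.CategoryTheory.Sites.SheafCohomology.Basic
import Mathlib.CategoryTheory.Sites.ConstantSheaf
import Mathlib.CategoryTheory.Sites.PreservesSheafification

/-! Constant abelian sheaves: surjections stay surjective on sections and compatible families. -/

universe u

open CategoryTheory CategoryTheory.Functor CategoryTheory.Limits Opposite Abelian

set_option linter.style.haveILetI false
set_option backward.isDefEq.respectTransparency false
set_option backward.isDefEq.respectTransparency.types false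

namespace Groth.Agent.SiteCoh

variable {C : Type u} [SmallCategory C] {J : GrothendieckTopology C}

/-- a surjection of groups gives a split surjection of constant sheaves of sets -/
lemma exists_section_constant {B B' : AddCommGrpCat.{u}} (g : B ⟶ B') (hg : Function.Surjective g) :
    ∃ τ : (und J).obj ((constantSheaf J AddCommGrpCat.{u}).obj B') ⟶
        (und J).obj ((constantSheaf J AddCommGrpCat.{u}).obj B),
      τ ≫ (und J).map ((constantSheaf J AddCommGrpCat.{u}).map g) = 𝟙 _ := by
  let i := constantCommuteCompose J (forget AddCommGrpCat.{u})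
  let σ : (forget AddCommGrpCat.{u}).obj B' ⟶ (forget AddCommGrpCat.{u}).obj B :=
    ↾fun b => Function.surjInv hg b
  have hσ : σ ≫ (forget AddCommGrpCat.{u}).map g = 𝟙 _ := by
    ext b
    exact Function.surjInv_eq hg b
  refine ⟨i.hom.app B' ≫ (constantSheaf J (Type u)).map σ ≫ i.inv.app B, ?_⟩
  have := i.inv.naturality g
  simp only [Functor.comp_map] at this
  rw [Category.assoc, Category.assoc, ← this, ← Category.assoc ((constantSheaf J (Type u)).map σ),
    ← CategoryTheory.Functor.map_comp, hσ, CategoryTheory.Functor.map_id, Category.id_comp, i.hom_inv_id_app]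
  rfl

lemma surjective_constantSheaf_map {B B' : AddCommGrpCat.{u}} (g : B ⟶ B') (hg : Function.Surjective g)
    (U : Cᵒᵖ) : Function.Surjective (((constantSheaf J AddCommGrpCat.{u}).map g).hom.app U) := fun s => by
  obtain ⟨τ, hτ⟩ := exists_section_constant (J := J) g hg
  have e := congr_arg (fun f => f.hom.app U) hτ
  exact ⟨τ.hom.app U s, ConcreteCategory.congr_hom e s⟩

/-- maps out of the constant sheaf of the integers lift along surjections -/
lemma exists_lift_constant {B B' : AddCommGrpCat.{u}} (g : B ⟶ B') (hg : Function.Surjective g)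
    (φ : (constantSheaf J AddCommGrpCat.{u}).obj (AddCommGrpCat.of (ULift.{u} ℤ)) ⟶
      (constantSheaf J AddCommGrpCat.{u}).obj B') :
    ∃ ψ, ψ ≫ (constantSheaf J AddCommGrpCat.{u}).map g = φ := by
  obtain ⟨τ, hτ⟩ := exists_section_constant (J := J) g hg
  let adj := sheafificationAdjunction J AddCommGrpCat.{u}
  let φ' := adj.homEquiv _ _ φ
  let t : ∀ U : Cᵒᵖ, ((constantSheaf J AddCommGrpCat.{u}).obj B).obj.obj U :=
    fun U => τ.hom.app U (φ'.app U (ULift.up.{u} 1))
  let ψ' : (Functor.const Cᵒᵖ).obj (AddCommGrpCat.of (ULift.{u} ℤ)) ⟶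
      ((constantSheaf J AddCommGrpCat.{u}).obj B).obj :=
    { app := fun U => AddCommGrpCat.ofHom
        ((zmultiplesHom _ (t U)).comp (AddEquiv.ulift.{0, u}).toAddMonoidHom)
      naturality := fun U V r => by
        apply AddCommGrpCat.hom_ext
        ext ⟨n⟩
        show n • t V = ((constantSheaf J AddCommGrpCat.{u}).obj B).obj.map r (n • t U)
        rw [_root_.map_zsmul]
        congr 1
        refine Eq.trans ?_ (NatTrans.naturality_apply τ.hom r _)
        exact congrArg (τ.hom.app V) (NatTrans.naturality_apply φ' r (ULift.up.{u} 1)) }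
  refine ⟨(adj.homEquiv _ _).symm ψ', (adj.homEquiv _ _).injective ?_⟩
  rw [Adjunction.homEquiv_naturality_right]
  erw [Equiv.apply_symm_apply]
  ext U ⟨n⟩
  show ((constantSheaf J AddCommGrpCat.{u}).map g).hom.app U (n • t U) = φ'.app U (ULift.up n)
  rw [_root_.map_zsmul]
  have h : ((constantSheaf J AddCommGrpCat.{u}).map g).hom.app U (t U) = φ'.app U (ULift.up.{u} 1) :=
    have e := congr_arg (fun f => f.hom.app U) hτ
    ConcreteCategory.congr_hom e _
  refine (congrArg (fun z => n • z) h).trans ((_root_.map_zsmul (φ'.app U).hom n (ULift.up.{u} 1)).symm.trans ?_)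
  congr 1
  exact ULift.ext _ _ (mul_one n)

/-- constant sheaves preserve short exact sequences -/
lemma shortExact_constantSheaf [(constantSheaf J AddCommGrpCat.{u}).PreservesZeroMorphisms]
    {S : ShortComplex AddCommGrpCat.{u}} (hS : S.ShortExact) :
    (S.map (constantSheaf J AddCommGrpCat.{u})).ShortExact := by
  haveI : PreservesFiniteLimits (constantSheaf J AddCommGrpCat.{u}) := comp_preservesFiniteLimits _ _
  haveI : PreservesFiniteColimits (constantSheaf J AddCommGrpCat.{u}) := comp_preservesFiniteColimits _ _
  exact hS.map_of_exact _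

end Groth.Agent.SiteCoh
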