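import Groth.Agent.Lib.SiteCoh.CechNerve
import Mathlib.Algebra.Category.ModuleCat.Presheaf.Free
import Mathlib.Algebra.Category.ModuleCat.Presheaf.Sheafification
import Mathlib.Algebra.Category.ModuleCat.Presheaf.Abelian
import Mathlib.Algebra.Category.ModuleCat.Presheaf.EpiMono
import Mathlib.Algebra.Category.ModuleCat.Sheaf.Abelian
import Mathlib.Algebra.Category.ModuleCat.Sheaf.Localization
import Mathlib.Algebra.Category.ModuleCat.Presheaf.Colimits
import Mathlib.Algebra.Category.ModuleCat.Presheaf.Limits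
import Mathlib.CategoryTheory.Adjunction.Additive

/-! Injective modules over a sheaf of rings are totally acyclic. -/

universe u v w

open CategoryTheory CategoryTheory.Functor CategoryTheory.Limits Opposite Abelian AlgebraicTopology Simplicial

set_option linter.style.haveILetI false
set_option backward.isDefEq.respectTransparency false
set_option backward.isDefEq.respectTransparency.types false

namespace Groth.Agent.SiteCoh

variable {C : Type u} [SmallCategory C] {J : GrothendieckTopology C}

section Criterion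

variable {A : Type w} [Category.{v} A] [Abelian A] (T : (Cᵒᵖ ⥤ Type u) ⥤ A) {M : Sheaf J AddCommGrpCat.{u}}
  {I : A} [Injective I] (e : ∀ P, (T.obj P ⟶ I) ≃+ ((frP J).obj P ⟶ M))
  (he : ∀ {P Q : Cᵒᵖ ⥤ Type u} (η : P ⟶ Q) (x : T.obj Q ⟶ I), e P (T.map η ≫ x) = (frP J).map η ≫ e Q x)

include e he in
/-- a sheaf represented by an injective object is totally acyclic -/
theorem isTotallyAcyclic_of_equiv
    (hres : ∀ (K' K : Sheaf J (Type u)) (f : K' ⟶ K), Epi f →
      QuasiIso (AlternatingFaceMapComplex.ε.app (((SimplicialObject.Augmented.whiskering _ _).obj T).obj (augP f)))) :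
    CohCx.IsTotallyAcyclic M := fun K p => by
  refine isTotallyAcyclic_of_homExactAt p M (fun K' K f hf q => ?_) K
  haveI := hres K' K f hf
  let X := ((SimplicialObject.Augmented.whiskering _ _).obj T).obj (augP f)
  let L := (alternatingFaceMapComplex A).obj X.left
  have hd : ∀ (n : ℕ) (x : L.X n ⟶ I), e _ (L.d (n + 1) n ≫ x) = (frCx f).d (n + 1) n ≫ e _ x := fun n x => by
    rw [alternatingFaceMapComplex_obj_d, alternatingFaceMapComplex_obj_d]
    simp only [AlternatingFaceMapComplex.objD, Preadditive.sum_comp, Preadditive.zsmul_comp]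
    erw [_root_.map_sum]
    refine Finset.sum_congr rfl fun i _ => ?_
    erw [_root_.map_zsmul]
    exact congrArg (fun z => (-1 : ℤ) ^ (i : ℕ) • z) (he ((nerveP f).δ i) x)
  intro x hx
  obtain ⟨y, hy⟩ := homExactAt_injective (AlternatingFaceMapComplex.ε.app X) I q ((e _).symm x)
    ((e _).injective (by
      refine (hd (q + 1) ((e _).symm x)).trans ?_
      erw [AddEquiv.apply_symm_apply, _root_.map_zero]
      exact hx))
  exact ⟨e _ y, (hd q y).symm.trans ((congrArg (e _) hy).trans ((e _).apply_symm_apply x))⟩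

end Criterion

variable (R : Sheaf J RingCat.{u})

/-- free modules on presheaves of sets -/
noncomputable abbrev frM : (Cᵒᵖ ⥤ Type u) ⥤ SheafOfModules.{u} R :=
  PresheafOfModules.free R.obj ⋙ PresheafOfModules.sheafification.{u} (𝟙 R.obj)

/-- maps out of free modules, as maps of presheaves of sets -/
noncomputable def frMHom (P : Cᵒᵖ ⥤ Type u) (M : SheafOfModules.{u} R) :
    ((frM R).obj P ⟶ M) ≃ (P ⟶ (undP J).obj ((SheafOfModules.toSheaf R).obj M)) :=
  (PresheafOfModules.sheafificationHomEquiv (𝟙 R.obj)).trans PresheafOfModules.freeHomEquiv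

lemma frMHom_app (P : Cᵒᵖ ⥤ Type u) (M : SheafOfModules.{u} R) (z : (frM R).obj P ⟶ M) (V : Cᵒᵖ) (t : P.obj V) :
    (frMHom R P M z).app V t = ((PresheafOfModules.toPresheaf R.obj).map z.val).app V
      ((CategoryTheory.toSheafify J ((PresheafOfModules.free R.obj).obj P).presheaf).app V
        ((PresheafOfModules.freeAdjunctionUnit R.obj P).app V t)) :=
  rfl

lemma frMHom_natural {P Q : Cᵒᵖ ⥤ Type u} (η : P ⟶ Q) (M : SheafOfModules.{u} R) (x : (frM R).obj Q ⟶ M) :
    frMHom R P M ((frM R).map η ≫ x) = η ≫ frMHom R Q M x := by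
  have h₁ := (PresheafOfModules.sheafificationAdjunction.{u} (𝟙 R.obj)).homEquiv_naturality_left
    ((PresheafOfModules.free R.obj).map η) x
  have h₂ := (PresheafOfModules.freeAdjunction R.obj).homEquiv_naturality_left η
    (PresheafOfModules.sheafificationHomEquiv (𝟙 R.obj) x)
  simp only [PresheafOfModules.sheafificationAdjunction, Adjunction.mkOfHomEquiv_homEquiv,
    PresheafOfModules.freeAdjunction_homEquiv] at h₁ h₂
  exact (congrArg PresheafOfModules.freeHomEquiv h₁).trans h₂

lemma frAdj_add (P : Cᵒᵖ ⥤ Type u) (F : Sheaf J AddCommGrpCat.{u}) (a b : (frP J).obj P ⟶ F) (V : Cᵒᵖ) (t : P.obj V) :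
    ((frAdj J).homEquiv P F (a + b)).app V t =
      (show F.obj.obj V from ((frAdj J).homEquiv P F a).app V t) + (show F.obj.obj V from ((frAdj J).homEquiv P F b).app V t) := by
  simp only [Adjunction.homEquiv_unit]
  rfl

lemma frMHom_add (P : Cᵒᵖ ⥤ Type u) (M : SheafOfModules.{u} R) (x y : (frM R).obj P ⟶ M) (V : Cᵒᵖ) (t : P.obj V) :
    (frMHom R P M (x + y)).app V t =
      (show ((SheafOfModules.toSheaf R).obj M).obj.obj V from (frMHom R P M x).app V t) +
        (show ((SheafOfModules.toSheaf R).obj M).obj.obj V from (frMHom R P M y).app V t) := by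
  rw [frMHom_app, frMHom_app, frMHom_app]
  rfl

lemma frEquiv_add {A : Type*} [AddCommGroup A] (P : Cᵒᵖ ⥤ Type u) (F : Sheaf J AddCommGrpCat.{u})
    (e : A ≃ (P ⟶ (undP J).obj F))
    (h : ∀ x y V t, (e (x + y)).app V t = (show F.obj.obj V from (e x).app V t) + (show F.obj.obj V from (e y).app V t))
    (x y : A) : ((frAdj J).homEquiv P F).symm (e (x + y)) =
      ((frAdj J).homEquiv P F).symm (e x) + ((frAdj J).homEquiv P F).symm (e y) := by
  apply ((frAdj J).homEquiv P F).injective
  rw [Equiv.apply_symm_apply]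
  ext V t
  refine (h x y V t).trans (Eq.trans ?_ (frAdj_add P F _ _ V t).symm)
  rw [Equiv.apply_symm_apply, Equiv.apply_symm_apply]

/-- maps out of free modules -/
noncomputable def frMEquiv (P : Cᵒᵖ ⥤ Type u) (M : SheafOfModules.{u} R) :
    ((frM R).obj P ⟶ M) ≃+ ((frP J).obj P ⟶ (SheafOfModules.toSheaf R).obj M) :=
  { (frMHom R P M).trans ((frAdj J).homEquiv P ((SheafOfModules.toSheaf R).obj M)).symm with
    map_add' := fun x y => frEquiv_add P _ (frMHom R P M) (frMHom_add R P M) x y }

lemma frMEquiv_natural {P Q : Cᵒᵖ ⥤ Type u} (η : P ⟶ Q) (M : SheafOfModules.{u} R) (x : (frM R).obj Q ⟶ M) :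
    frMEquiv R P M ((frM R).map η ≫ x) = (frP J).map η ≫ frMEquiv R Q M x :=
  (congrArg ((frAdj J).homEquiv P ((SheafOfModules.toSheaf R).obj M)).symm (frMHom_natural R η M x)).trans
    ((frAdj J).homEquiv_naturality_left_symm η (frMHom R Q M x))

instance additive_sheafification : (PresheafOfModules.sheafification.{u} (𝟙 R.obj)).Additive :=
  Functor.additive_of_preserves_binary_products _

/-- pointwise homotopy trivial augmented presheaves give resolutions after sheafification -/
theorem quasiIso_sheafification (T₀ : (Cᵒᵖ ⥤ Type u) ⥤ PresheafOfModules.{u} R.obj)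
    (G : Cᵒᵖ → Type u ⥤ AddCommGrpCat.{u})
    (g : ∀ c, T₀ ⋙ PresheafOfModules.toPresheaf R.obj ⋙ (evaluation Cᵒᵖ AddCommGrpCat.{u}).obj c ≅
      (evaluation Cᵒᵖ (Type u)).obj c ⋙ G c)
    (X : SimplicialObject.Augmented (Cᵒᵖ ⥤ Type u))
    (ed : ∀ c, SimplicialObject.Augmented.ExtraDegeneracy
      (((SimplicialObject.Augmented.whiskering _ _).obj ((evaluation Cᵒᵖ (Type u)).obj c)).obj X)) :
    QuasiIso (AlternatingFaceMapComplex.ε.app (((SimplicialObject.Augmented.whiskering _ _).obj
      (T₀ ⋙ PresheafOfModules.sheafification.{u} (𝟙 R.obj))).obj X)) := by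
  let P := ((SimplicialObject.Augmented.whiskering _ _).obj T₀).obj X
  haveI : QuasiIso (AlternatingFaceMapComplex.ε.app P) := by
    rw [← HomologicalComplex.quasiIso_map_iff_of_preservesHomology _ (PresheafOfModules.toPresheaf R.obj),
      quasiIso_map_ε_iff, HomologicalComplex.quasiIso_iff_evaluation]
    intro c
    rw [quasiIso_map_ε_iff]
    haveI : QuasiIso (AlternatingFaceMapComplex.ε.app
        (((SimplicialObject.Augmented.whiskering _ _).obj ((evaluation Cᵒᵖ (Type u)).obj c ⋙ G c)).obj X)) :=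
      inferInstanceAs (QuasiIso ((ed c).map (G c)).homotopyEquiv.hom)
    exact quasiIso_ε_of_iso
      (((SimplicialObject.Augmented.whiskering _ _).mapIso (g c)).symm.app X)
  exact (quasiIso_map_ε_iff (PresheafOfModules.sheafification.{u} (𝟙 R.obj)) P).1 inferInstance

/-- sections of a free presheaf of modules -/
noncomputable def freeEvalIso (c : Cᵒᵖ) :
    PresheafOfModules.free R.obj ⋙ PresheafOfModules.toPresheaf R.obj ⋙ (evaluation Cᵒᵖ AddCommGrpCat.{u}).obj c ≅
      (evaluation Cᵒᵖ (Type u)).obj c ⋙ ModuleCat.free (R.obj.obj c) ⋙ forget₂ _ AddCommGrpCat.{u} :=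
  Iso.refl _

lemma quasiIso_frM_augP {K' K : Sheaf J (Type u)} (f : K' ⟶ K) :
    QuasiIso (AlternatingFaceMapComplex.ε.app (((SimplicialObject.Augmented.whiskering _ _).obj (frM R)).obj (augP f))) :=
  quasiIso_sheafification R (PresheafOfModules.free R.obj) _ (freeEvalIso R) (augP f) (extraAt f)

/-- injective modules are totally acyclic -/
theorem isTotallyAcyclic_injective (I : SheafOfModules.{u} R) [Injective I] :
    CohCx.IsTotallyAcyclic ((SheafOfModules.toSheaf R).obj I) :=
  isTotallyAcyclic_of_equiv (frM R) (fun P => frMEquiv R P I) (fun η x => frMEquiv_natural R η I x)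
    fun _ _ f _ => quasiIso_frM_augP R f

end Groth.Agent.SiteCoh
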