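import Mathlib.CategoryTheory.Sites.Pullback
import Mathlib.CategoryTheory.Sites.Whiskering
import Mathlib.CategoryTheory.Limits.Types.Products
import Mathlib.CategoryTheory.Limits.Shapes.BinaryProducts
import Mathlib.Algebra.Category.Grp.Limits
import Mathlib.Algebra.Category.Grp.Colimits
import Mathlib.Algebra.Category.Grp.FilteredColimits
import Mathlib.CategoryTheory.Sites.Limits

/-! Exact pullback of sheaves of sets gives exact pullback of abelian sheaves. -/

universe u

open CategoryTheory CategoryTheory.Functor CategoryTheory.Limits Opposite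

set_option backward.isDefEq.respectTransparency false
set_option backward.isDefEq.respectTransparency.types false

namespace Groth.Agent.SiteCoh

section Points

variable {ℰ : Type (u + 1)} [Category.{u} ℰ] [HasBinaryProducts ℰ] (F : ℰ ⥤ Type u) [PreservesFiniteLimits F]

/-- a pair of elements comes from the product -/
lemma exists_pair {X Y : ℰ} (a : F.obj X) (b : F.obj Y) :
    ∃ t : F.obj (X ⨯ Y), F.map Limits.prod.fst t = a ∧ F.map Limits.prod.snd t = b := by
  let p : F.obj X ⨯ F.obj Y := (Types.binaryProductIso _ _).inv (a, b)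
  refine ⟨(PreservesLimitPair.iso F X Y).inv p, ?_, ?_⟩
  · rw [← ConcreteCategory.comp_apply, PreservesLimitPair.iso_inv_fst, ← ConcreteCategory.comp_apply,
      Types.binaryProductIso_inv_comp_fst]
    rfl
  · rw [← ConcreteCategory.comp_apply, PreservesLimitPair.iso_inv_snd, ← ConcreteCategory.comp_apply,
      Types.binaryProductIso_inv_comp_snd]
    rfl

lemma pair_ext {X Y : ℰ} {t t' : F.obj (X ⨯ Y)} (h₁ : F.map Limits.prod.fst t = F.map Limits.prod.fst t')
    (h₂ : F.map Limits.prod.snd t = F.map Limits.prod.snd t') : t = t' := by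
  let i := PreservesLimitPair.iso F X Y ≪≫ Types.binaryProductIso _ _
  apply i.toEquiv.injective
  have e₁ : ∀ s : F.obj (X ⨯ Y), (i.hom s).1 = F.map Limits.prod.fst s := fun s => by
    have h : i.hom ≫ ↾_root_.Prod.fst = F.map Limits.prod.fst := by simp [i]
    exact ConcreteCategory.congr_hom h s
  have e₂ : ∀ s : F.obj (X ⨯ Y), (i.hom s).2 = F.map Limits.prod.snd s := fun s => by
    have h : i.hom ≫ ↾_root_.Prod.snd = F.map Limits.prod.snd := by simp [i]
    exact ConcreteCategory.congr_hom h s
  exact Prod.ext ((e₁ t).trans (h₁.trans (e₁ t').symm)) ((e₂ t).trans (h₂.trans (e₂ t').symm))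

end Points

variable {C D : Type u} [SmallCategory C] [SmallCategory D] {J : GrothendieckTopology C} {K : GrothendieckTopology D}

/-- the sheaf of sets underlying an abelian sheaf -/
abbrev und (K : GrothendieckTopology D) : Sheaf K AddCommGrpCat.{u} ⥤ Sheaf K (Type u) :=
  sheafCompose K (forget AddCommGrpCat.{u})

lemma preservesLimitsOfShape_und (I : Type) [SmallCategory I] [FinCategory I] :
    PreservesLimitsOfShape I (und K) := by
  have : PreservesLimitsOfShape I (und K ⋙ sheafToPresheaf K (Type u)) :=
    inferInstanceAs (PreservesLimitsOfShape I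
      (sheafToPresheaf K AddCommGrpCat.{u} ⋙ (Functor.whiskeringRight Dᵒᵖ _ _).obj (forget AddCommGrpCat.{u})))
  exact preservesLimitsOfShape_of_reflects_of_preserves (und K) (sheafToPresheaf K (Type u))

instance preservesFiniteLimits_und : PreservesFiniteLimits (und K) :=
  ⟨fun I _ _ => preservesLimitsOfShape_und I⟩

variable {A B : Sheaf K AddCommGrpCat.{u}} {Y Z : Sheaf K (Type u)}

/-- sum of two sections -/
def addH (f g : Y ⟶ (und K).obj A) : Y ⟶ (und K).obj A :=
  ⟨{ app := fun c => ↾fun y => show A.obj.obj c from
        (show A.obj.obj c from f.hom.app c y) + (show A.obj.obj c from g.hom.app c y)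
     naturality := fun c c' r => by
      ext y
      have hf := NatTrans.naturality_apply f.hom r y
      have hg := NatTrans.naturality_apply g.hom r y
      show (show A.obj.obj c' from f.hom.app c' (Y.obj.map r y)) + (show A.obj.obj c' from g.hom.app c' (Y.obj.map r y)) =
        A.obj.map r ((show A.obj.obj c from f.hom.app c y) + (show A.obj.obj c from g.hom.app c y))
      rw [hf, hg, map_add]
      rfl }⟩

/-- the zero section -/
def zeroH : Y ⟶ (und K).obj A :=
  ⟨{ app := fun c => ↾fun _ => (0 : A.obj.obj c)
     naturality := fun c c' r => by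
      ext y
      exact (map_zero (A.obj.map r).hom).symm }⟩

/-- minus a section -/
def negH (f : Y ⟶ (und K).obj A) : Y ⟶ (und K).obj A :=
  ⟨{ app := fun c => ↾fun y => show A.obj.obj c from -(show A.obj.obj c from f.hom.app c y)
     naturality := fun c c' r => by
      ext y
      show -(show A.obj.obj c' from f.hom.app c' (Y.obj.map r y)) = A.obj.map r (-(show A.obj.obj c from f.hom.app c y))
      rw [NatTrans.naturality_apply f.hom r y, map_neg]
      rfl }⟩

lemma hom_ext' {f g : Y ⟶ (und K).obj A} (h : ∀ c y, f.hom.app c y = g.hom.app c y) : f = g := by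
  apply ObjectProperty.hom_ext
  ext c y
  exact h c y

lemma addH_assoc (f g h : Y ⟶ (und K).obj A) : addH (addH f g) h = addH f (addH g h) :=
  hom_ext' fun c y => add_assoc (G := A.obj.obj c) _ _ _

lemma addH_comm (f g : Y ⟶ (und K).obj A) : addH f g = addH g f :=
  hom_ext' fun c y => add_comm (G := A.obj.obj c) _ _

lemma zeroH_addH (f : Y ⟶ (und K).obj A) : addH zeroH f = f :=
  hom_ext' fun c y => zero_add (M := A.obj.obj c) _

lemma negH_addH (f : Y ⟶ (und K).obj A) : addH (negH f) f = zeroH :=
  hom_ext' fun c y => neg_add_cancel (G := A.obj.obj c) _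

lemma comp_addH (h : Z ⟶ Y) (f g : Y ⟶ (und K).obj A) : h ≫ addH f g = addH (h ≫ f) (h ≫ g) := rfl

lemma comp_zeroH (h : Z ⟶ Y) : h ≫ (zeroH : Y ⟶ (und K).obj A) = zeroH := rfl

lemma addH_map (f g : Y ⟶ (und K).obj A) (φ : A ⟶ B) :
    addH f g ≫ (und K).map φ = addH (f ≫ (und K).map φ) (g ≫ (und K).map φ) :=
  hom_ext' fun c y => map_add (φ.hom.app c).hom _ _

section Group

variable (F : Sheaf K (Type u) ⥤ Type u) [PreservesFiniteLimits F]

/-- sum of two values -/
noncomputable def addF (a b : F.obj ((und K).obj A)) : F.obj ((und K).obj A) :=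
  F.map (addH Limits.prod.fst Limits.prod.snd) (exists_pair F a b).choose

lemma addF_eq {a b : F.obj ((und K).obj A)} (f g : Y ⟶ (und K).obj A) (t : F.obj Y) (ha : F.map f t = a)
    (hb : F.map g t = b) : F.map (addH f g) t = addF F a b := by
  have hc := (exists_pair F a b).choose_spec
  have e : F.map (Limits.prod.lift f g) t = (exists_pair F a b).choose := by
    apply pair_ext F
    · rw [hc.1, ← ConcreteCategory.comp_apply, ← F.map_comp, Limits.prod.lift_fst, ha]
    · rw [hc.2, ← ConcreteCategory.comp_apply, ← F.map_comp, Limits.prod.lift_snd, hb]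
  have e' : Limits.prod.lift f g ≫ addH Limits.prod.fst Limits.prod.snd = addH f g := by
    rw [comp_addH, Limits.prod.lift_fst, Limits.prod.lift_snd]
  rw [← e', F.map_comp, ConcreteCategory.comp_apply, e]
  rfl

/-- zero value -/
noncomputable def zeroF : F.obj ((und K).obj A) :=
  F.map (zeroH : ⊤_ (Sheaf K (Type u)) ⟶ (und K).obj A)
    ((PreservesTerminal.iso F ≪≫ Types.terminalIso).inv PUnit.unit)

lemma map_zeroH (t : F.obj Y) : F.map (zeroH : Y ⟶ (und K).obj A) t = zeroF F := by
  rw [← comp_zeroH (Limits.terminal.from Y), F.map_comp, ConcreteCategory.comp_apply]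
  exact congrArg _ ((PreservesTerminal.iso F ≪≫ Types.terminalIso).toEquiv.injective rfl)

/-- the group of values -/
@[reducible] noncomputable def grpF : AddCommGroup (F.obj ((und K).obj A)) where
  add := addF F
  zero := zeroF F
  neg a := F.map (negH (𝟙 _)) a
  nsmul := @nsmulRec _ ⟨zeroF F⟩ ⟨addF F⟩
  zsmul := @zsmulRec _ ⟨zeroF F⟩ ⟨addF F⟩ ⟨fun a => F.map (negH (𝟙 _)) a⟩
    (@nsmulRec _ ⟨zeroF F⟩ ⟨addF F⟩)
  add_assoc a b c := by
    show addF F (addF F a b) c = addF F a (addF F b c)
    obtain ⟨s, hs₁, hs₂⟩ := exists_pair F b c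
    obtain ⟨t, ht₁, ht₂⟩ := exists_pair F a s
    let p₂ : ((und K).obj A) ⨯ ((und K).obj A ⨯ (und K).obj A) ⟶ (und K).obj A :=
      Limits.prod.snd ≫ Limits.prod.fst
    let p₃ : ((und K).obj A) ⨯ ((und K).obj A ⨯ (und K).obj A) ⟶ (und K).obj A :=
      Limits.prod.snd ≫ Limits.prod.snd
    have hb : F.map p₂ t = b := by simp [p₂, ht₂, hs₁]
    have hc : F.map p₃ t = c := by simp [p₃, ht₂, hs₂]
    rw [← addF_eq F (addH Limits.prod.fst p₂) p₃ t (addF_eq F _ _ t ht₁ hb) hc, addH_assoc,
      addF_eq F _ _ t ht₁ (addF_eq F _ _ t hb hc)]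
  zero_add a := by
    show addF F (zeroF F) a = a
    rw [← addF_eq F zeroH (𝟙 _) a (map_zeroH F a) (by simp), zeroH_addH]
    simp
  add_zero a := by
    show addF F a (zeroF F) = a
    rw [← addF_eq F (𝟙 _) zeroH a (by simp) (map_zeroH F a), addH_comm, zeroH_addH]
    simp
  neg_add_cancel a := by
    show addF F (F.map (negH (𝟙 _)) a) a = zeroF F
    rw [← addF_eq F (negH (𝟙 _)) (𝟙 _) a rfl (by simp), negH_addH, map_zeroH]
  add_comm a b := by
    show addF F a b = addF F b a
    obtain ⟨t, ht₁, ht₂⟩ := exists_pair F a b
    rw [← addF_eq F _ _ t ht₁ ht₂, addH_comm, addF_eq F _ _ t ht₂ ht₁]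

end Group

section Pullback

variable (J K) (u : D ⥤ C) [u.IsContinuous K J] [PreservesFiniteLimits (u.sheafPullback (Type u) K J)]

/-- sections over `c` of the pullback of sets -/
noncomputable abbrev evT (c : Cᵒᵖ) : Sheaf K (Type u) ⥤ Type u :=
  u.sheafPullback (Type u) K J ⋙ sheafToPresheaf J (Type u) ⋙ (evaluation Cᵒᵖ (Type u)).obj c

instance (c : Cᵒᵖ) : PreservesFiniteLimits (evT J K u c) :=
  haveI : PreservesFiniteLimits (sheafToPresheaf J (Type u) ⋙ (evaluation Cᵒᵖ (Type u)).obj c) :=
    comp_preservesFiniteLimits _ _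
  comp_preservesFiniteLimits _ _

noncomputable instance instGrpEv (A : Sheaf K AddCommGrpCat.{u}) (c : Cᵒᵖ) :
    AddCommGroup ((evT J K u c).obj ((und K).obj A)) := grpF _

/-- naturality of the sum in the object -/
lemma res_addF (A : Sheaf K AddCommGrpCat.{u}) {c c' : Cᵒᵖ} (r : c ⟶ c')
    (a b : (evT J K u c).obj ((und K).obj A)) :
    ((u.sheafPullback (Type u) K J).obj ((und K).obj A)).obj.map r (a + b) =
      (show (evT J K u c').obj ((und K).obj A) from ((u.sheafPullback (Type u) K J).obj ((und K).obj A)).obj.map r a) +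
      (show (evT J K u c').obj ((und K).obj A) from ((u.sheafPullback (Type u) K J).obj ((und K).obj A)).obj.map r b) := by
  obtain ⟨t, ht₁, ht₂⟩ := exists_pair (evT J K u c) a b
  let t' := ((u.sheafPullback (Type u) K J).obj ((und K).obj A ⨯ (und K).obj A)).obj.map r t
  have key : ∀ f : (und K).obj A ⨯ (und K).obj A ⟶ (und K).obj A,
      (evT J K u c').map f t' =
        ((u.sheafPullback (Type u) K J).obj ((und K).obj A)).obj.map r ((evT J K u c).map f t) := fun f =>
    NatTrans.naturality_apply ((u.sheafPullback (Type u) K J).map f).hom r t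
  change ((u.sheafPullback (Type u) K J).obj ((und K).obj A)).obj.map r (addF (evT J K u c) a b) =
    addF (evT J K u c') _ _
  rw [← addF_eq (evT J K u c) _ _ t ht₁ ht₂, ← key]
  exact addF_eq (evT J K u c') _ _ t' ((key _).trans (congrArg _ ht₁)) ((key _).trans (congrArg _ ht₂))

/-- the pullback of an abelian sheaf, as a presheaf -/
noncomputable def pullPsh (A : Sheaf K AddCommGrpCat.{u}) : Cᵒᵖ ⥤ AddCommGrpCat.{u} where
  obj c := AddCommGrpCat.of ((evT J K u c).obj ((und K).obj A))
  map {c c'} r := AddCommGrpCat.ofHom (AddMonoidHom.mk'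
    (fun a => ((u.sheafPullback (Type u) K J).obj ((und K).obj A)).obj.map r a) (res_addF J K u A r))
  map_id c := by
    ext a
    exact ConcreteCategory.congr_hom (((u.sheafPullback (Type u) K J).obj ((und K).obj A)).obj.map_id c) a
  map_comp r r' := by
    ext a
    exact ConcreteCategory.congr_hom (((u.sheafPullback (Type u) K J).obj ((und K).obj A)).obj.map_comp r r') a

/-- the pullback of abelian sheaves, computed on sets -/
noncomputable def pullAb : Sheaf K AddCommGrpCat.{u} ⥤ Sheaf J AddCommGrpCat.{u} where
  obj A := ⟨pullPsh J K u A, (Presheaf.isSheaf_iff_isSheaf_forget J _ (forget AddCommGrpCat.{u})).2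
    ((u.sheafPullback (Type u) K J).obj ((und K).obj A)).property⟩
  map {A B} φ := ⟨{
    app := fun c => AddCommGrpCat.ofHom (AddMonoidHom.mk'
      (fun a => (evT J K u c).map ((und K).map φ) a) (fun a b => by
        obtain ⟨t, ht₁, ht₂⟩ := exists_pair (evT J K u c) a b
        change (evT J K u c).map ((und K).map φ) (addF (evT J K u c) a b) = addF (evT J K u c) _ _
        rw [← addF_eq (evT J K u c) _ _ t ht₁ ht₂, ← ConcreteCategory.comp_apply, ← (evT J K u c).map_comp,
          addH_map]
        exact addF_eq (evT J K u c) _ _ t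
          (by rw [(evT J K u c).map_comp, ConcreteCategory.comp_apply, ht₁])
          (by rw [(evT J K u c).map_comp, ConcreteCategory.comp_apply, ht₂])))
    naturality := fun c c' r => by
      ext a
      exact NatTrans.naturality_apply ((u.sheafPullback (Type u) K J).map ((und K).map φ)).hom r a }⟩
  map_id A := by
    apply ObjectProperty.hom_ext
    ext c a
    show (evT J K u c).map ((und K).map (𝟙 A)) a = a
    simp
  map_comp φ ψ := by
    apply ObjectProperty.hom_ext
    ext c a
    show (evT J K u c).map ((und K).map (φ ≫ ψ)) a = (evT J K u c).map ((und K).map ψ) ((evT J K u c).map ((und K).map φ) a)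
    simp

/-- the underlying sheaf of sets of the pullback -/
noncomputable def pullAbUnd : pullAb J K u ⋙ und J ≅ und K ⋙ u.sheafPullback (Type u) K J :=
  NatIso.ofComponents (fun A => (fullyFaithfulSheafToPresheaf J (Type u)).preimageIso
    (NatIso.ofComponents (fun _ => Iso.refl _)))

/-- the hom bijection -/
noncomputable def pullAbEquiv (A : Sheaf K AddCommGrpCat.{u}) (B : Sheaf J AddCommGrpCat.{u}) :
    ((pullAb J K u).obj A ⟶ B) ≃ (A ⟶ (u.sheafPushforwardContinuous AddCommGrpCat.{u} K J).obj B) where
  toFun φ := ⟨{
    app := fun d => AddCommGrpCat.ofHom (AddMonoidHom.mk'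
      (fun a => φ.hom.app (op (u.obj d.unop))
        (((u.sheafAdjunctionContinuous (Type u) K J).unit.app ((und K).obj A)).hom.app d a)) (fun a b => by
        refine (congrArg (φ.hom.app (op (u.obj d.unop))) ?_).trans (map_add _ _ _)
        obtain ⟨t, ht₁, ht₂⟩ := exists_pair (sheafToPresheaf K (Type u) ⋙ (evaluation Dᵒᵖ (Type u)).obj d)
          (X := (und K).obj A) (Y := (und K).obj A) a b
        let η := (u.sheafAdjunctionContinuous (Type u) K J).unit
        have key : ∀ f : (und K).obj A ⨯ (und K).obj A ⟶ (und K).obj A,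
            (η.app ((und K).obj A)).hom.app d (f.hom.app d t) =
              (evT J K u (op (u.obj d.unop))).map f ((η.app _).hom.app d t) := fun f => by
          have e := η.naturality f
          have e' := congrArg (fun g => g.hom.app d) e
          exact ConcreteCategory.congr_hom e' t
        have hab : (addH Limits.prod.fst Limits.prod.snd : (und K).obj A ⨯ (und K).obj A ⟶ _).hom.app d t =
            (show A.obj.obj d from a + b) := by
          show (show A.obj.obj d from Limits.prod.fst (X := (und K).obj A) (Y := (und K).obj A) |>.hom.app d t) +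
            (show A.obj.obj d from Limits.prod.snd (X := (und K).obj A) (Y := (und K).obj A) |>.hom.app d t) = _
          exact congrArg₂ (fun x y : A.obj.obj d => x + y) ht₁ ht₂
        refine (congrArg ((η.app ((und K).obj A)).hom.app d) hab.symm).trans ((key _).trans ?_)
        exact addF_eq _ _ _ _ ((key _).symm.trans (congrArg _ ht₁)) ((key _).symm.trans (congrArg _ ht₂))))
    naturality := fun d d' r => by
      ext a
      refine (congrArg (φ.hom.app (op (u.obj d'.unop)))
        (NatTrans.naturality_apply ((u.sheafAdjunctionContinuous (Type u) K J).unit.app ((und K).obj A)).hom r a)).trans ?_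
      exact NatTrans.naturality_apply φ.hom (u.op.map r) _ }⟩
  invFun ψ := ⟨{
    app := fun c => AddCommGrpCat.ofHom (AddMonoidHom.mk'
      (fun a => (show B.obj.obj c from
        ((u.sheafAdjunctionContinuous (Type u) K J).counit.app ((und J).obj B)).hom.app c
          ((evT J K u c).map ((und K).map ψ) a))) (fun a b => by
        let ε := (u.sheafAdjunctionContinuous (Type u) K J).counit
        let P := u.sheafPushforwardContinuous (Type u) K J
        let A' := (und K).obj A
        obtain ⟨t, ht₁, ht₂⟩ := exists_pair (evT J K u c) a b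
        let W : Sheaf J (Type u) := (und J).obj B ⨯ (und J).obj B
        have : IsRightAdjoint P := ⟨_, ⟨u.sheafAdjunctionContinuous (Type u) K J⟩⟩
        let w : A' ⨯ A' ⟶ P.obj W := Limits.prod.lift (X := P.obj ((und J).obj B)) (Y := P.obj ((und J).obj B))
          (Limits.prod.fst ≫ (und K).map ψ) (Limits.prod.snd ≫ (und K).map ψ) ≫ (PreservesLimitPair.iso P _ _).inv
        let t' := (evT J K u c).map w t
        have key : ∀ f : W ⟶ (und J).obj B,
            (ε.app ((und J).obj B)).hom.app c ((evT J K u c).map (P.map f) t') = f.hom.app c ((ε.app W).hom.app c t') :=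
          fun f => by
            have e := ε.naturality f
            have e' := congrArg (fun g => g.hom.app c) e
            exact ConcreteCategory.congr_hom e' t'
        have h₁ : w ≫ P.map Limits.prod.fst = Limits.prod.fst ≫ (und K).map ψ := by simp [w]; rfl
        have h₂ : w ≫ P.map Limits.prod.snd = Limits.prod.snd ≫ (und K).map ψ := by simp [w]; rfl
        have hp : ∀ (f : W ⟶ (und J).obj B) (g : A' ⨯ A' ⟶ A'), w ≫ P.map f = g ≫ (und K).map ψ →
            (evT J K u c).map ((und K).map ψ) ((evT J K u c).map g t) = (evT J K u c).map (P.map f) t' :=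
          fun f g hfg => by
            rw [← ConcreteCategory.comp_apply, ← (evT J K u c).map_comp, ← hfg, (evT J K u c).map_comp,
              ConcreteCategory.comp_apply]
            rfl
        have h₃ : w ≫ P.map (addH Limits.prod.fst Limits.prod.snd) =
            addH Limits.prod.fst Limits.prod.snd ≫ (und K).map ψ := by
          rw [addH_map, ← h₁, ← h₂]
          rfl
        change (ε.app ((und J).obj B)).hom.app c ((evT J K u c).map ((und K).map ψ) (addF (evT J K u c) a b)) = _
        rw [← addF_eq (evT J K u c) _ _ t ht₁ ht₂, hp _ _ h₃, key]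
        have e₁ := (key Limits.prod.fst).symm.trans (congrArg _ ((hp _ _ h₁).symm.trans (congrArg _ ht₁)))
        have e₂ := (key Limits.prod.snd).symm.trans (congrArg _ ((hp _ _ h₂).symm.trans (congrArg _ ht₂)))
        exact congrArg₂ (fun x y : B.obj.obj c => x + y) e₁ e₂))
    naturality := fun c c' r => by
      ext a
      refine (congrArg (((u.sheafAdjunctionContinuous (Type u) K J).counit.app ((und J).obj B)).hom.app c')
        (NatTrans.naturality_apply ((u.sheafPullback (Type u) K J).map ((und K).map ψ)).hom r a)).trans ?_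
      exact NatTrans.naturality_apply ((u.sheafAdjunctionContinuous (Type u) K J).counit.app ((und J).obj B)).hom r _ }⟩
  left_inv φ := by
    apply ObjectProperty.hom_ext
    ext c a
    have e := ((u.sheafAdjunctionContinuous (Type u) K J).homEquiv ((und K).obj A) ((und J).obj B)).symm_apply_apply
        ((pullAbUnd J K u).inv.app A ≫ (und J).map φ)
    rw [Adjunction.homEquiv_unit, Adjunction.homEquiv_counit] at e
    have e' := congrArg (fun g => g.hom.app c) e
    exact ConcreteCategory.congr_hom e' a
  right_inv ψ := by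
    apply ObjectProperty.hom_ext
    ext d a
    have e := ((u.sheafAdjunctionContinuous (Type u) K J).homEquiv ((und K).obj A) ((und J).obj B)).apply_symm_apply
        ((und K).map ψ)
    rw [Adjunction.homEquiv_unit, Adjunction.homEquiv_counit] at e
    have e' := congrArg (fun g => g.hom.app d) e
    exact ConcreteCategory.congr_hom e' a

/-- the adjunction -/
noncomputable def pullAbAdj : pullAb J K u ⊣ u.sheafPushforwardContinuous AddCommGrpCat.{u} K J :=
  Adjunction.mkOfHomEquiv
    { homEquiv := pullAbEquiv J K u
      homEquiv_naturality_left_symm := fun {A' A B} f g => by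
        apply ObjectProperty.hom_ext
        ext c a
        show ((u.sheafAdjunctionContinuous (Type u) K J).counit.app ((und J).obj B)).hom.app c
            ((evT J K u c).map ((und K).map (f ≫ g)) a) =
          ((u.sheafAdjunctionContinuous (Type u) K J).counit.app ((und J).obj B)).hom.app c
            ((evT J K u c).map ((und K).map g) ((evT J K u c).map ((und K).map f) a))
        rw [(und K).map_comp, (evT J K u c).map_comp, ConcreteCategory.comp_apply]
      homEquiv_naturality_right := fun {A B B'} f g => rfl }

lemma preservesFiniteLimits_pullAb : PreservesFiniteLimits (pullAb J K u) := by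
  have : PreservesFiniteLimits (pullAb J K u ⋙ und J) := by
    have : PreservesFiniteLimits (und K ⋙ u.sheafPullback (Type u) K J) := comp_preservesFiniteLimits _ _
    exact preservesFiniteLimits_of_natIso (pullAbUnd J K u).symm
  refine ⟨fun I _ _ => ?_⟩
  haveI := preservesLimitsOfShape_und (K := J) I
  haveI : ReflectsLimitsOfShape I (und J) := reflectsLimitsOfShape_of_reflectsIsomorphisms
  exact preservesLimitsOfShape_of_reflects_of_preserves (pullAb J K u) (und J)

theorem preservesFiniteLimits_sheafPullback :
    PreservesFiniteLimits (u.sheafPullback AddCommGrpCat.{u} K J) :=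
  haveI := preservesFiniteLimits_pullAb J K u
  preservesFiniteLimits_of_natIso
    (Adjunction.leftAdjointUniq (pullAbAdj J K u) (u.sheafAdjunctionContinuous AddCommGrpCat.{u} K J))

end Pullback

end Groth.Agent.SiteCoh
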