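import Groth.Prelude.Def_CohSite
import Groth.Agent.Lib.SiteCoh.AbPull
import Mathlib.Algebra.Homology.DerivedCategory.Ext.EnoughInjectives
import Mathlib.Algebra.Homology.DerivedCategory.Ext.ExactSequences
import Mathlib.Algebra.Homology.ShortComplex.ShortExact
import Mathlib.Algebra.Category.Grp.Adjunctions

/-! Cohomology of abelian sheaves on a small site: sections, long exact sequence, direct images. -/

universe u

open CategoryTheory CategoryTheory.Functor CategoryTheory.Limits Opposite Abelian

set_option linter.style.haveILetI false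
set_option backward.isDefEq.respectTransparency false
set_option backward.isDefEq.respectTransparency.types false

namespace Groth.Agent.SiteCoh

variable {C : Type u} [SmallCategory C] {J : GrothendieckTopology C}

/-- the free abelian sheaf of an object -/
noncomputable abbrev fr (J : GrothendieckTopology C) (U : C) : Sheaf J AddCommGrpCat.{u} :=
  (presheafToSheaf J AddCommGrpCat.{u}).obj (yoneda.obj U ⋙ AddCommGrpCat.free.{u})

/-- maps out of the free sheaf of an object are sections -/
noncomputable def secEquiv (U : C) (F : Sheaf J AddCommGrpCat.{u}) : (fr J U ⟶ F) ≃ F.obj.obj (op U) :=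
  (((sheafificationAdjunction J AddCommGrpCat.{u}).homEquiv _ _).trans
    ((AddCommGrpCat.adj.whiskerRight Cᵒᵖ).homEquiv (yoneda.obj U) F.obj)).trans yonedaEquiv

lemma secEquiv_comp (U : C) {F G : Sheaf J AddCommGrpCat.{u}} (x : fr J U ⟶ F) (φ : F ⟶ G) :
    secEquiv U G (x ≫ φ) = φ.hom.app (op U) (secEquiv U F x) := by
  simp only [secEquiv, Equiv.trans_apply]
  erw [Adjunction.homEquiv_naturality_right]
  erw [Adjunction.homEquiv_naturality_right, yonedaEquiv_comp]

lemma secEquiv_symm_comp (U : C) {F G : Sheaf J AddCommGrpCat.{u}} (s : F.obj.obj (op U)) (φ : F ⟶ G) :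
    (secEquiv U F).symm s ≫ φ = (secEquiv U G).symm (φ.hom.app (op U) s) :=
  (secEquiv U G).injective (by rw [secEquiv_comp, Equiv.apply_symm_apply, Equiv.apply_symm_apply])

variable (U : C)

lemma subsingleton_HU_of_injective (I : Sheaf J AddCommGrpCat.{u}) [Injective I] (n : ℕ) :
    Subsingleton (CohSite.HU I (n + 1) U) :=
  ⟨fun (x y : Ext (fr J U) I (n + 1)) => (Ext.eq_zero_of_injective x).trans (Ext.eq_zero_of_injective y).symm⟩

variable {S : ShortComplex (Sheaf J AddCommGrpCat.{u})} (hS : S.ShortExact)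
include hS

/-- sections are right exact when the kernel has no first cohomology -/
lemma surjective_sections (h : Subsingleton (CohSite.HU S.X₁ 1 U)) : Function.Surjective (S.g.hom.app (op U)) :=
    fun s => by
  let x : Ext (fr J U) S.X₃ 0 := Ext.mk₀ ((secEquiv U S.X₃).symm s)
  obtain ⟨y, hy⟩ := Ext.covariant_sequence_exact₃ _ hS x (n₁ := 1) rfl (h.elim _ _)
  obtain ⟨f, rfl⟩ := (Ext.mk₀_bijective _ _).2 y
  rw [Ext.mk₀_comp_mk₀] at hy
  refine ⟨secEquiv U S.X₂ f, ?_⟩
  rw [← secEquiv_comp, (Ext.mk₀_bijective _ _).1 hy, Equiv.apply_symm_apply]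

/-- first cohomology of the kernel vanishes when sections are right exact -/
lemma subsingleton_HU_one (h : Function.Surjective (S.g.hom.app (op U)))
    (h₂ : Subsingleton (CohSite.HU S.X₂ 1 U)) : Subsingleton (CohSite.HU S.X₁ 1 U) := by
  refine subsingleton_of_forall_eq 0 fun (x : Ext (fr J U) S.X₁ 1) => ?_
  obtain ⟨y, rfl⟩ := Ext.covariant_sequence_exact₁ _ hS x (h₂.elim _ _) (n₀ := 0) rfl
  obtain ⟨f, rfl⟩ := (Ext.mk₀_bijective _ _).2 y
  obtain ⟨t, ht⟩ := h (secEquiv U S.X₃ f)
  have : f = (secEquiv U S.X₂).symm t ≫ S.g := by rw [secEquiv_symm_comp, ht, Equiv.symm_apply_apply]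
  rw [this, ← Ext.mk₀_comp_mk₀, Ext.comp_assoc_of_second_deg_zero, hS.comp_extClass, Ext.comp_zero]

/-- dimension shift -/
lemma subsingleton_HU₁ (n : ℕ) (h₃ : Subsingleton (CohSite.HU S.X₃ n U))
    (h₂ : Subsingleton (CohSite.HU S.X₂ (n + 1) U)) : Subsingleton (CohSite.HU S.X₁ (n + 1) U) := by
  refine subsingleton_of_forall_eq 0 fun (x : Ext (fr J U) S.X₁ (n + 1)) => ?_
  obtain ⟨y, rfl⟩ := Ext.covariant_sequence_exact₁ _ hS x (h₂.elim _ _) (n₀ := n) rfl
  have : y = 0 := h₃.elim _ _
  rw [this, Ext.zero_comp]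

/-- dimension shift -/
lemma subsingleton_HU₃ (n : ℕ) (h₂ : Subsingleton (CohSite.HU S.X₂ n U))
    (h₁ : Subsingleton (CohSite.HU S.X₁ (n + 1) U)) : Subsingleton (CohSite.HU S.X₃ n U) := by
  refine subsingleton_of_forall_eq 0 fun (x : Ext (fr J U) S.X₃ n) => ?_
  obtain ⟨y, rfl⟩ := Ext.covariant_sequence_exact₃ _ hS x (n₁ := n + 1) rfl (h₁.elim _ _)
  have : y = 0 := h₂.elim _ _
  rw [this, Ext.zero_comp]

omit hS

/-- an injective embedding -/
lemma exists_injSeq (F : Sheaf J AddCommGrpCat.{u}) :
    ∃ (I Q : Sheaf J AddCommGrpCat.{u}) (i : F ⟶ I) (p : I ⟶ Q) (w : i ≫ p = 0),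
      Injective I ∧ (ShortComplex.mk i p w).ShortExact :=
  ⟨Injective.under F, cokernel (Injective.ι F), Injective.ι F, cokernel.π _, cokernel.condition _, inferInstance,
    ShortComplex.ShortExact.mk' (ShortComplex.exact_of_g_is_cokernel _ (cokernelIsCokernel _)) inferInstance
      inferInstance⟩

lemma epi_of_surjective_sections {F G : Sheaf J AddCommGrpCat.{u}} (φ : F ⟶ G)
    (h : ∀ V : C, Function.Surjective (φ.hom.app (op V))) : Epi φ := by
  have : Epi φ.hom :=
    haveI : ∀ T, Epi (φ.hom.app T) := fun T => (AddCommGrpCat.epi_iff_surjective _).2 (h T.unop)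
    NatTrans.epi_of_epi_app _
  exact (sheafToPresheaf J AddCommGrpCat.{u}).epi_of_epi_map this

section Push

variable {D : Type u} [SmallCategory D] {K : GrothendieckTopology D} (u : D ⥤ C) [u.IsContinuous K J]

/-- direct image preserves injectives for morphisms of topoi -/
theorem injective_push [PreservesFiniteLimits (u.sheafPullback (Type u) K J)] (I : Sheaf J AddCommGrpCat.{u})
    [Injective I] : Injective ((CohSite.push J K u).obj I) :=
  haveI := preservesFiniteLimits_sheafPullback J K u
  Injective.injective_of_adjoint (u.sheafAdjunctionContinuous AddCommGrpCat.{u} K J) I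

/-- the direct image of a sequence exact on sections -/
lemma shortExact_push (hS : S.ShortExact) (h : ∀ V : D, Function.Surjective (S.g.hom.app (op (u.obj V)))) :
    (S.map (CohSite.push J K u)).ShortExact := by
  haveI : IsRightAdjoint (CohSite.push J K u) := ⟨_, ⟨u.sheafAdjunctionContinuous AddCommGrpCat.{u} K J⟩⟩
  haveI := hS.mono_f
  haveI : Mono (S.map (CohSite.push J K u)).f := inferInstanceAs (Mono ((CohSite.push J K u).map S.f))
  haveI : Epi (S.map (CohSite.push J K u)).g := epi_of_surjective_sections _ fun V => h V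
  exact ShortComplex.ShortExact.mk' (hS.exact.map_of_mono_of_preservesKernel _ inferInstance inferInstance)
    inferInstance inferInstance

/-- direct images of sheaves without higher cohomology have none -/
theorem subsingleton_HU_push [PreservesFiniteLimits (u.sheafPullback (Type u) K J)] (V : D) :
    ∀ (q : ℕ) (F : Sheaf J AddCommGrpCat.{u}), (∀ (U : C) (q : ℕ), Subsingleton (CohSite.HU F (q + 1) U)) →
      Subsingleton (CohSite.HU ((CohSite.push J K u).obj F) (q + 1) V)
  | 0, F, hF => by
    obtain ⟨I, Q, i, p, w, hI, hS⟩ := exists_injSeq F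
    have hs := fun U : C => surjective_sections U hS (hF U 0)
    have hI' := injective_push (K := K) u I
    exact subsingleton_HU_one V (shortExact_push u hS fun W => hs (u.obj W)) (hs (u.obj V))
      (subsingleton_HU_of_injective V ((CohSite.push J K u).obj I) 0)
  | q + 1, F, hF => by
    obtain ⟨I, Q, i, p, w, hI, hS⟩ := exists_injSeq F
    have hs := fun U : C => surjective_sections U hS (hF U 0)
    have hI' := injective_push (K := K) u I
    have hQ : ∀ (U : C) (q : ℕ), Subsingleton (CohSite.HU Q (q + 1) U) := fun U q =>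
      subsingleton_HU₃ U hS (q + 1) (subsingleton_HU_of_injective U I q) (hF U (q + 1))
    exact subsingleton_HU₁ V (shortExact_push u hS fun W => hs (u.obj W)) (q + 1)
      (subsingleton_HU_push V q Q hQ) (subsingleton_HU_of_injective V ((CohSite.push J K u).obj I) (q + 1))

end Push

end Groth.Agent.SiteCoh
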