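import Mathlib.Algebra.Homology.DerivedCategory.Ext.EnoughInjectives
import Mathlib.Algebra.Homology.DerivedCategory.Ext.ExactSequences
import Mathlib.Algebra.Homology.ShortComplex.ShortExact

/-! Dimension shifting for `Ext` in an abelian category. -/

universe w v u

open CategoryTheory CategoryTheory.Limits Abelian

namespace Groth.Agent.SiteCoh

variable {A : Type u} [Category.{v} A] [Abelian A] [HasExt.{w} A] (P : A) {S : ShortComplex A} (hS : S.ShortExact)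

include hS

lemma exists_lift_of_ext (h : Subsingleton (Ext P S.X₁ 1)) (f : P ⟶ S.X₃) : ∃ g : P ⟶ S.X₂, g ≫ S.g = f := by
  obtain ⟨y, hy⟩ := Ext.covariant_sequence_exact₃ _ hS (Ext.mk₀ f) (n₁ := 1) rfl (h.elim _ _)
  obtain ⟨g, rfl⟩ := (Ext.mk₀_bijective _ _).2 y
  rw [Ext.mk₀_comp_mk₀] at hy
  exact ⟨g, (Ext.mk₀_bijective _ _).1 hy⟩

lemma ext_one_eq_zero (h : ∀ f : P ⟶ S.X₃, ∃ g : P ⟶ S.X₂, g ≫ S.g = f) (h₂ : Subsingleton (Ext P S.X₂ 1)) :
    Subsingleton (Ext P S.X₁ 1) := by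
  refine subsingleton_of_forall_eq 0 fun x => ?_
  obtain ⟨y, rfl⟩ := Ext.covariant_sequence_exact₁ _ hS x (h₂.elim _ _) (n₀ := 0) rfl
  obtain ⟨f, rfl⟩ := (Ext.mk₀_bijective _ _).2 y
  obtain ⟨t, rfl⟩ := h f
  rw [← Ext.mk₀_comp_mk₀, Ext.comp_assoc_of_second_deg_zero, hS.comp_extClass, Ext.comp_zero]

lemma ext_shift₁ (n : ℕ) (h₃ : Subsingleton (Ext P S.X₃ n)) (h₂ : Subsingleton (Ext P S.X₂ (n + 1))) :
    Subsingleton (Ext P S.X₁ (n + 1)) := by
  refine subsingleton_of_forall_eq 0 fun x => ?_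
  obtain ⟨y, rfl⟩ := Ext.covariant_sequence_exact₁ _ hS x (h₂.elim _ _) (n₀ := n) rfl
  rw [h₃.elim y 0, Ext.zero_comp]

lemma ext_shift₃ (n : ℕ) (h₂ : Subsingleton (Ext P S.X₂ n)) (h₁ : Subsingleton (Ext P S.X₁ (n + 1))) :
    Subsingleton (Ext P S.X₃ n) := by
  refine subsingleton_of_forall_eq 0 fun x => ?_
  obtain ⟨y, rfl⟩ := Ext.covariant_sequence_exact₃ _ hS x (n₁ := n + 1) rfl (h₁.elim _ _)
  rw [h₂.elim y 0, Ext.zero_comp]

omit hS

lemma subsingleton_ext_of_iso {P P' X : A} (i : P ≅ P') (n : ℕ) (h : Subsingleton (Ext P X n)) :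
    Subsingleton (Ext P' X n) := by
  refine subsingleton_of_forall_eq 0 fun x => ?_
  have e : (Ext.mk₀ i.inv).comp ((Ext.mk₀ i.hom).comp x (zero_add n)) (zero_add n) = x := by
    rw [Ext.mk₀_comp_mk₀_assoc, i.inv_hom_id, Ext.mk₀_id_comp]
  rw [← e, h.elim ((Ext.mk₀ i.hom).comp x (zero_add n)) 0, Ext.comp_zero]

lemma subsingleton_ext_injective (P I : A) [Injective I] (n : ℕ) : Subsingleton (Ext P I (n + 1)) :=
  ⟨fun x y => (Ext.eq_zero_of_injective x).trans (Ext.eq_zero_of_injective y).symm⟩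

lemma subsingleton_ext_of_retract {P P' X : A} (i : P ⟶ P') (r : P' ⟶ P) (h : i ≫ r = 𝟙 P) (n : ℕ)
    (h' : Subsingleton (Ext P' X n)) : Subsingleton (Ext P X n) := by
  refine subsingleton_of_forall_eq 0 fun x => ?_
  have e : (Ext.mk₀ i).comp ((Ext.mk₀ r).comp x (zero_add n)) (zero_add n) = x := by
    rw [Ext.mk₀_comp_mk₀_assoc, h, Ext.mk₀_id_comp]
  rw [← e, h'.elim ((Ext.mk₀ r).comp x (zero_add n)) 0, Ext.comp_zero]

omit [HasExt.{w} A] in
/-- an injective embedding -/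
lemma exists_inj_seq [EnoughInjectives A] (F : A) :
    ∃ (I Q : A) (i : F ⟶ I) (p : I ⟶ Q) (w : i ≫ p = 0), Injective I ∧ (ShortComplex.mk i p w).ShortExact :=
  ⟨Injective.under F, cokernel (Injective.ι F), Injective.ι F, cokernel.π _, cokernel.condition _, inferInstance,
    ShortComplex.ShortExact.mk' (ShortComplex.exact_of_g_is_cokernel _ (cokernelIsCokernel _)) inferInstance
      inferInstance⟩

end Groth.Agent.SiteCoh
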