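import Groth.Agent.Lib.SiteCoh.Basic
import Groth.Agent.Lib.SiteCoh.Shift
import Groth.Prelude.Def_CohCx
import Mathlib.CategoryTheory.Sites.Adjunction

/-! Free abelian sheaves and totally acyclic sheaves. -/

universe u

open CategoryTheory CategoryTheory.Functor CategoryTheory.Limits Opposite Abelian

set_option linter.style.haveILetI false
set_option backward.isDefEq.respectTransparency false
set_option backward.isDefEq.respectTransparency.types false

namespace Groth.Agent.SiteCoh

variable {C : Type u} [SmallCategory C] {J : GrothendieckTopology C}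

/-- free abelian sheaves of presheaves of sets -/
noncomputable abbrev frP (J : GrothendieckTopology C) : (Cᵒᵖ ⥤ Type u) ⥤ Sheaf J AddCommGrpCat.{u} :=
  (Functor.whiskeringRight Cᵒᵖ (Type u) AddCommGrpCat.{u}).obj AddCommGrpCat.free.{u} ⋙ presheafToSheaf J AddCommGrpCat.{u}

/-- sections over presheaves of sets -/
noncomputable abbrev undP (J : GrothendieckTopology C) : Sheaf J AddCommGrpCat.{u} ⥤ (Cᵒᵖ ⥤ Type u) :=
  sheafToPresheaf J AddCommGrpCat.{u} ⋙ (Functor.whiskeringRight Cᵒᵖ _ _).obj (forget AddCommGrpCat.{u})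

/-- the adjunction -/
noncomputable def frAdj (J : GrothendieckTopology C) : frP J ⊣ undP J :=
  (AddCommGrpCat.adj.whiskerRight Cᵒᵖ).comp (sheafificationAdjunction J AddCommGrpCat.{u})

lemma isIso_frP_map {P Q : Cᵒᵖ ⥤ Type u} (η : P ⟶ Q)
    (h : ∀ F : Sheaf J AddCommGrpCat.{u}, Function.Bijective fun g : Q ⟶ (undP J).obj F => η ≫ g) :
    IsIso ((frP J).map η) := by
  refine isIso_of_coyoneda_map_bijective _ fun F => ?_
  have e : (fun g : (frP J).obj Q ⟶ F => (frP J).map η ≫ g) =
      ((frAdj J).homEquiv P F).symm ∘ (fun g => η ≫ g) ∘ ((frAdj J).homEquiv Q F) := by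
    funext g
    simp only [Function.comp_apply]
    rw [(frAdj J).homEquiv_naturality_left_symm, Equiv.symm_apply_apply]
  rw [show (fun g : (frP J).obj Q ⟶ F => (frP J).map η ≫ g) = _ from e]
  exact (Equiv.bijective _).comp ((h F).comp (Equiv.bijective _))

lemma isSheaf_undP (F : Sheaf J AddCommGrpCat.{u}) : Presheaf.IsSheaf J ((undP J).obj F) :=
  ((und J).obj F).property

/-- the free sheaf on a presheaf is the free sheaf on its sheafification -/
noncomputable def frSheafify (P : Cᵒᵖ ⥤ Type u) : (frP J).obj P ≅ (frP J).obj (sheafify J P) :=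
  haveI : IsIso ((frP J).map (toSheafify J P)) := isIso_frP_map _ fun F =>
    ⟨fun g g' h => sheafify_hom_ext J _ _ (isSheaf_undP F) h,
      fun g => ⟨sheafifyLift J g (isSheaf_undP F), toSheafify_sheafifyLift J g (isSheaf_undP F)⟩⟩
  asIso ((frP J).map (toSheafify J P))

/-- totally acyclic sheaves have no higher cohomology on presheaves of sets -/
theorem subsingleton_ext_frP {F : Sheaf J AddCommGrpCat.{u}} (hF : CohCx.IsTotallyAcyclic F) (P : Cᵒᵖ ⥤ Type u)
    (p : ℕ) : Subsingleton (Ext ((frP J).obj P) F (p + 1)) :=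
  subsingleton_ext_of_iso (frSheafify P).symm _ (hF ((presheafToSheaf J (Type u)).obj P) p)

theorem subsingleton_HU_of_totallyAcyclic {F : Sheaf J AddCommGrpCat.{u}} (hF : CohCx.IsTotallyAcyclic F) (U : C)
    (p : ℕ) : Subsingleton (CohSite.HU F (p + 1) U) :=
  subsingleton_ext_frP hF (yoneda.obj U) p

section Push

variable {D : Type u} [SmallCategory D] {K : GrothendieckTopology D} (u : D ⥤ C) [u.IsContinuous K J]
  [PreservesFiniteLimits (u.sheafPullback (Type u) K J)]

/-- cohomology of a direct image -/
theorem subsingleton_ext_push (P : Sheaf K AddCommGrpCat.{u}) :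
    ∀ (q : ℕ) (F : Sheaf J AddCommGrpCat.{u}),
      (∀ q, Subsingleton (Ext ((u.sheafPullback AddCommGrpCat.{u} K J).obj P) F (q + 1))) →
      (∀ (V : D) (q : ℕ), Subsingleton (CohSite.HU F (q + 1) (u.obj V))) →
      Subsingleton (Ext P ((CohSite.push J K u).obj F) (q + 1))
  | q, F, hP, hF => by
    obtain ⟨I, Q, i, p, w, hI, hS⟩ := exists_injSeq F
    have hs := fun V : D => surjective_sections (u.obj V) hS (hF V 0)
    have hI' := injective_push (K := K) u I
    have hpush := shortExact_push (K := K) u hS hs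
    cases q with
    | zero =>
      refine ext_one_eq_zero P hpush (fun f => ?_) (subsingleton_ext_injective P ((CohSite.push J K u).obj I) 0)
      obtain ⟨g, hg⟩ := exists_lift_of_ext _ hS (hP 0)
        (((u.sheafAdjunctionContinuous AddCommGrpCat.{u} K J).homEquiv P Q).symm f)
      refine ⟨(u.sheafAdjunctionContinuous AddCommGrpCat.{u} K J).homEquiv P I g, ?_⟩
      show _ ≫ (CohSite.push J K u).map p = f
      erw [← Adjunction.homEquiv_naturality_right, hg, Equiv.apply_symm_apply]
    | succ q =>
      exact ext_shift₁ P hpush (q + 1) (subsingleton_ext_push P q Q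
        (fun k => ext_shift₃ _ hS (k + 1) (subsingleton_ext_injective _ I k) (hP (k + 1)))
        (fun V k => subsingleton_HU₃ (u.obj V) hS (k + 1) (subsingleton_HU_of_injective _ I k) (hF V (k + 1))))
        (subsingleton_ext_injective P ((CohSite.push J K u).obj I) (q + 1))

omit [PreservesFiniteLimits (u.sheafPullback (Type u) K J)] in
/-- pulling back free sheaves -/
noncomputable def pullFreeIso :
    Sheaf.composeAndSheafify K AddCommGrpCat.free.{u} ⋙ u.sheafPullback AddCommGrpCat.{u} K J ≅
      u.sheafPullback (Type u) K J ⋙ Sheaf.composeAndSheafify J AddCommGrpCat.free.{u} :=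
  Adjunction.leftAdjointUniq
    ((Sheaf.adjunction K AddCommGrpCat.adj).comp (u.sheafAdjunctionContinuous AddCommGrpCat.{u} K J))
    (((u.sheafAdjunctionContinuous (Type u) K J).comp (Sheaf.adjunction J AddCommGrpCat.adj)).ofNatIsoRight
      (NatIso.ofComponents (fun _ => Iso.refl _)))

theorem isTotallyAcyclic_push {F : Sheaf J AddCommGrpCat.{u}} (hF : CohCx.IsTotallyAcyclic F) :
    CohCx.IsTotallyAcyclic ((CohSite.push J K u).obj F) := fun L p =>
  subsingleton_ext_push u _ p F
    (fun q => subsingleton_ext_of_iso ((pullFreeIso u).app L).symm _ (hF _ q))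
    (fun V q => subsingleton_HU_of_totallyAcyclic hF (u.obj V) q)

end Push

end Groth.Agent.SiteCoh
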