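import Groth.Agent.Lib.SiteCoh.InjModule
import Groth.Agent.Lib.SiteCoh.ExtAdj
import Groth.Agent.Lib.CohFound.ModulesInst
import Mathlib.CategoryTheory.Sites.SheafCohomology.Basic

/-! Ext out of the structure sheaf is the cohomology of the underlying abelian sheaf. -/

universe u

open CategoryTheory CategoryTheory.Functor CategoryTheory.Limits Opposite Abelian

set_option linter.style.haveILetI false
set_option backward.isDefEq.respectTransparency false
set_option backward.isDefEq.respectTransparency.types false

namespace Groth.Agent.SiteCoh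

variable {C : Type u} [SmallCategory C] {J : GrothendieckTopology C}

/-- the free group on a point -/
noncomputable def freePointIso :
    AddCommGrpCat.free.{u}.obj PUnit.{u + 1} ≅ AddCommGrpCat.of (ULift.{u} ℤ) where
  hom := AddCommGrpCat.ofHom (FreeAbelianGroup.lift fun _ => ULift.up 1)
  inv := AddCommGrpCat.ofHom
    ((zmultiplesHom _ (FreeAbelianGroup.of PUnit.unit)).comp (AddEquiv.ulift.{0, u}).toAddMonoidHom)
  hom_inv_id := AddCommGrpCat.hom_ext (FreeAbelianGroup.lift_ext _ _ fun x => by
    show zmultiplesHom _ (FreeAbelianGroup.of PUnit.unit) (AddEquiv.ulift (FreeAbelianGroup.lift _ (FreeAbelianGroup.of x))) = _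
    rw [FreeAbelianGroup.lift_apply_of]
    exact one_zsmul _)
  inv_hom_id := by
    refine AddCommGrpCat.hom_ext (AddMonoidHom.ext fun ⟨n⟩ => ?_)
    show FreeAbelianGroup.lift (fun _ => ULift.up.{u} (1 : ℤ)) (n • FreeAbelianGroup.of PUnit.unit) = ULift.up n
    rw [_root_.map_zsmul, FreeAbelianGroup.lift_apply_of]
    exact ULift.ext _ _ (mul_one n)

/-- totally acyclic sheaves have no cohomology -/
theorem subsingleton_H_of_totallyAcyclic {F : Sheaf J AddCommGrpCat.{u}} (hF : CohCx.IsTotallyAcyclic F) (p : ℕ) :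
    Subsingleton (Sheaf.H.{u} F (p + 1)) :=
  subsingleton_ext_of_iso
    ((presheafToSheaf J AddCommGrpCat.{u}).mapIso
      (NatIso.ofComponents (fun _ => freePointIso) (fun _ =>
        ((congrArg (· ≫ freePointIso.hom) (AddCommGrpCat.free.{u}.map_id _)).trans (Category.id_comp _)).trans
          (Category.comp_id _).symm) :
        (Functor.const Cᵒᵖ).obj PUnit.{u + 1} ⋙ AddCommGrpCat.free.{u} ≅
          (Functor.const Cᵒᵖ).obj (AddCommGrpCat.of (ULift.{u} ℤ)))) _
    (subsingleton_ext_frP hF _ p)

variable (R : Sheaf J RingCat.{u})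

/-- the unit section -/
noncomputable def oneMap : (Functor.const Cᵒᵖ).obj (AddCommGrpCat.of (ULift.{u} ℤ)) ⟶
    ((SheafOfModules.toSheaf R).obj (SheafOfModules.unit R)).obj where
  app V := AddCommGrpCat.ofHom
    ((zmultiplesHom (R.obj.obj V) (1 : R.obj.obj V)).comp (AddEquiv.ulift.{0, u}).toAddMonoidHom)
  naturality V W r := by
    apply AddCommGrpCat.hom_ext
    ext ⟨n⟩
    show n • (1 : R.obj.obj W) = (R.obj.map r).hom (n • (1 : R.obj.obj V))
    rw [map_zsmul (R.obj.map r).hom, map_one]

/-- the constant sheaf maps to the structure sheaf -/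
noncomputable def oneSheafMap : (constantSheaf J AddCommGrpCat.{u}).obj (AddCommGrpCat.of (ULift.{u} ℤ)) ⟶
    (SheafOfModules.toSheaf R).obj (SheafOfModules.unit R) :=
  ((sheafificationAdjunction J AddCommGrpCat.{u}).homEquiv _ _).symm (oneMap R)

lemma bijective_oneSheafMap (M : SheafOfModules.{u} R) :
    Function.Bijective fun f : SheafOfModules.unit R ⟶ M => oneSheafMap R ≫ (SheafOfModules.toSheaf R).map f := by
  let e := (sheafificationAdjunction J AddCommGrpCat.{u}).homEquiv
    ((Functor.const Cᵒᵖ).obj (AddCommGrpCat.of (ULift.{u} ℤ))) ((SheafOfModules.toSheaf R).obj M)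
  have he : ∀ (f : SheafOfModules.unit R ⟶ M) (V : Cᵒᵖ) (n : ℤ),
      (e (oneSheafMap R ≫ (SheafOfModules.toSheaf R).map f)).app V (ULift.up.{u} n) =
        f.val.app V (n • (1 : R.obj.obj V)) := fun f V n => by
    simp only [e, oneSheafMap]
    erw [Adjunction.homEquiv_naturality_right, Equiv.apply_symm_apply]
    rfl
  constructor
  · intro f g h
    apply M.unitHomEquiv.injective
    ext V
    have := congrArg (fun x => (e x).app V (ULift.up.{u} (1 : ℤ))) h
    simp only [he, one_zsmul] at this
    exact this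
  · intro x
    let s : M.sections := PresheafOfModules.sectionsMk (fun V => (e x).app V (ULift.up.{u} (1 : ℤ)))
      (fun V W r => (NatTrans.naturality_apply (e x) r (ULift.up.{u} (1 : ℤ))).symm)
    refine ⟨M.unitHomEquiv.symm s, e.injective ?_⟩
    apply NatTrans.ext
    funext V
    apply AddCommGrpCat.hom_ext
    ext ⟨n⟩
    refine (he _ V n).trans ?_
    rw [_root_.map_zsmul]
    have h1 : (M.unitHomEquiv.symm s).val.app V (1 : R.obj.obj V) = (e x).app V (ULift.up.{u} (1 : ℤ)) :=
      congrArg (fun t : M.sections => t.val V) (M.unitHomEquiv.apply_symm_apply s)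
    refine (congrArg (fun z => n • z) h1).trans ((_root_.map_zsmul ((e x).app V).hom n _).symm.trans ?_)
    exact congrArg _ (ULift.ext _ _ (mul_one n))

variable [HasExt.{u} (SheafOfModules.{u} R)]

/-- module cohomology is abelian cohomology -/
theorem exists_moduleExtEquiv (M : SheafOfModules.{u} R) (n : ℕ) :
    Nonempty (Ext (SheafOfModules.unit R) M n ≃+ Sheaf.H.{u} ((SheafOfModules.toSheaf R).obj M) n) := by
  haveI : PreservesFiniteColimits (SheafOfModules.toSheaf R) :=
    haveI : PreservesColimitsOfSize.{u, u} (SheafOfModules.toSheaf R) := ⟨inferInstance⟩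
    PreservesColimitsOfSize.preservesFiniteColimits _
  exact ⟨AddEquiv.ofBijective _ (bijective_extCompHom (R := SheafOfModules.toSheaf R) (oneSheafMap R)
    (bijective_oneSheafMap R)
    (fun I hI k => subsingleton_H_of_totallyAcyclic (isTotallyAcyclic_injective R I) k) n M)⟩

end Groth.Agent.SiteCoh
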