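import Groth.Agent.Lib.SiteCoh.InjModule
import Groth.Agent.Lib.KFlat.Site
import Mathlib.CategoryTheory.Adjunction.Additive

/-! The internal hom into an injective module is totally acyclic. -/

universe u

open CategoryTheory CategoryTheory.Functor CategoryTheory.Limits Opposite MonoidalCategory Groth.Agent.KFlat.Site

set_option linter.style.haveILetI false
set_option backward.isDefEq.respectTransparency false
set_option backward.isDefEq.respectTransparency.types false

namespace Groth.Agent.SiteCoh

variable {C : Type u} [SmallCategory C] {J : GrothendieckTopology C} (O : Sheaf J CommRingCat.{u}) (F : ModSite.Mod O)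

/-- free modules tensored on presheaves -/
noncomputable abbrev freeTensor : (Cᵒᵖ ⥤ Type u) ⥤ ModSite.preMod O :=
  PresheafOfModules.free (O.obj ⋙ forget₂ CommRingCat.{u} RingCat.{u}) ⋙ tensorLeft ((ModSite.toPre O).obj F)

/-- sections of the tensor product with a free presheaf of modules -/
noncomputable def freeTensorEvalIso (c : Cᵒᵖ) :
    freeTensor O F ⋙ PresheafOfModules.toPresheaf _ ⋙ (evaluation Cᵒᵖ AddCommGrpCat.{u}).obj c ≅
      (evaluation Cᵒᵖ (Type u)).obj c ⋙ (ModuleCat.free (O.obj.obj c) : Type u ⥤ ModuleCat.{u} (O.obj.obj c)) ⋙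
        (tensorLeft (((ModSite.toPre O).obj F).obj c : ModuleCat.{u} (O.obj.obj c)) :
          ModuleCat.{u} (O.obj.obj c) ⥤ ModuleCat.{u} (O.obj.obj c)) ⋙ forget₂ _ AddCommGrpCat.{u} :=
  NatIso.ofComponents (fun _ => Iso.refl _) (fun _ => by
    rw [Iso.refl_hom, Iso.refl_hom, Category.comp_id, Category.id_comp]
    rfl)

/-- the tensor product with free modules -/
noncomputable def freeTensorIso :
    freeTensor O F ⋙ ModSite.shPre O ≅ frM (ModSite.ringSh O) ⋙ (ModSite.tensorBi O).flip.obj F :=
  (isoWhiskerLeft (PresheafOfModules.free (O.obj ⋙ forget₂ CommRingCat.{u} RingCat.{u}))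
    (shTensorIso O F).symm) ≪≫
    isoWhiskerLeft (frM (ModSite.ringSh O)) (flipObjIso O F)

variable [ModSite.HasSheafHom F]

/-- internal homs into injectives are totally acyclic -/
theorem isTotallyAcyclic_sheafHom (G : ModSite.Mod O) [Injective G] :
    CohCx.IsTotallyAcyclic (ModSite.toAb ((ModSite.sheafHom F).obj G)) := by
  haveI : PreservesFiniteColimits ((ModSite.tensorBi O).flip.obj F) := inferInstance
  haveI : ((ModSite.tensorBi O).flip.obj F).Additive := by
    haveI : PreservesBinaryBiproducts ((ModSite.tensorBi O).flip.obj F) :=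
      preservesBinaryBiproducts_of_preservesBinaryCoproducts _
    exact Functor.additive_of_preservesBinaryBiproducts _
  let c := freeTensorIso O F
  let e : ∀ P, ((freeTensor O F ⋙ ModSite.shPre O).obj P ⟶ G) ≃+
      ((frP J).obj P ⟶ ModSite.toAb ((ModSite.sheafHom F).obj G)) := fun P =>
    ({ toFun := fun x => c.inv.app P ≫ x
       invFun := fun x => c.hom.app P ≫ x
       left_inv := fun x => by simp
       right_inv := fun x => by simp
       map_add' := fun x y => Preadditive.comp_add _ _ _ _ _ _ } :
      ((freeTensor O F ⋙ ModSite.shPre O).obj P ⟶ G) ≃+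
        ((frM (ModSite.ringSh O) ⋙ (ModSite.tensorBi O).flip.obj F).obj P ⟶ G)).trans
      (((ModSite.sheafHomAdj F).homAddEquiv ((frM (ModSite.ringSh O)).obj P) G).trans
        (frMEquiv (ModSite.ringSh O) P ((ModSite.sheafHom F).obj G)))
  refine isTotallyAcyclic_of_equiv (freeTensor O F ⋙ ModSite.shPre O) e (fun {P Q} η x => ?_)
    fun _ _ f _ => quasiIso_sheafification (ModSite.ringSh O) (freeTensor O F) _ (freeTensorEvalIso O F) (augP f)
      (extraAt f)
  show frMEquiv _ P _ ((ModSite.sheafHomAdj F).homEquiv _ _ (c.inv.app P ≫ _)) =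
    (frP J).map η ≫ frMEquiv _ Q _ ((ModSite.sheafHomAdj F).homEquiv _ _ (c.inv.app Q ≫ x))
  rw [← frMEquiv_natural, ← (ModSite.sheafHomAdj F).homEquiv_naturality_left, ← Category.assoc, ← Category.assoc]
  exact congrArg (fun z => frMEquiv _ P _ ((ModSite.sheafHomAdj F).homEquiv _ _ (z ≫ x)))
    (c.inv.naturality η).symm

end Groth.Agent.SiteCoh
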