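import Groth.Agent.Lib.SiteCoh.Acyclic
import Mathlib.CategoryTheory.Abelian.Injective.Ext
import Mathlib.CategoryTheory.Abelian.RightDerived
import Mathlib.Algebra.Homology.ShortComplex.Ab
import Mathlib.Algebra.Homology.ShortComplex.HomologicalComplex
import Mathlib.Algebra.Homology.Functor

/-! Higher direct images as sheafified cohomology presheaves. -/

universe u v w

open CategoryTheory CategoryTheory.Functor CategoryTheory.Limits Opposite Abelian

set_option linter.style.haveILetI false
set_option backward.isDefEq.respectTransparency false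
set_option backward.isDefEq.respectTransparency.types false

namespace Groth.Agent.SiteCoh

variable {C : Type u} [SmallCategory C] {J : GrothendieckTopology C}

lemma secEquiv_add (U : C) {F : Sheaf J AddCommGrpCat.{u}} (x y : fr J U ⟶ F) :
    secEquiv U F (x + y) = secEquiv U F x + secEquiv U F y := by
  show yonedaEquiv ((frAdj J).homEquiv (yoneda.obj U) F (x + y)) = _
  simp only [Adjunction.homEquiv_unit]
  change yonedaEquiv ((frAdj J).unit.app (yoneda.obj U) ≫ (undP J).map (x + y)) =
    (show F.obj.obj (op U) from yonedaEquiv ((frAdj J).homEquiv (yoneda.obj U) F x)) +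
      (show F.obj.obj (op U) from yonedaEquiv ((frAdj J).homEquiv (yoneda.obj U) F y))
  simp only [Adjunction.homEquiv_unit]
  rfl

lemma secEquiv_res {U V : C} (g : V ⟶ U) {F : Sheaf J AddCommGrpCat.{u}} (x : fr J U ⟶ F) :
    secEquiv V F ((frP J).map (yoneda.map g) ≫ x) = F.obj.map g.op (secEquiv U F x) := by
  show yonedaEquiv ((frAdj J).homEquiv (yoneda.obj V) F ((frP J).map (yoneda.map g) ≫ x)) = _
  rw [(frAdj J).homEquiv_naturality_left, ← yonedaEquiv_naturality]
  rfl

lemma exact_of_evaluation {T : Type u} [SmallCategory T] (S : ShortComplex (T ⥤ AddCommGrpCat.{u}))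
    (h : ∀ t, (S.map ((evaluation T AddCommGrpCat.{u}).obj t)).Exact) : S.Exact := by
  rw [ShortComplex.exact_iff_isZero_homology, IsZero.iff_id_eq_zero]
  ext t : 2
  have hz : IsZero (S.homology.obj t) :=
    ((ShortComplex.exact_iff_isZero_homology _).1 (h t)).of_iso
      (S.mapHomologyIso ((evaluation T AddCommGrpCat.{u}).obj t)).symm
  exact hz.eq_of_src _ _

variable {D : Type u} [SmallCategory D] (K : GrothendieckTopology D) (u : D ⥤ C) [u.IsContinuous K J]
  {F : Sheaf J AddCommGrpCat.{u}} (R : InjectiveResolution F)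

/-- sections of the resolution over the images -/
noncomputable abbrev resPsh : CochainComplex (Dᵒᵖ ⥤ AddCommGrpCat.{u}) ℕ :=
  ((sheafToPresheaf J AddCommGrpCat.{u} ⋙ (Functor.whiskeringLeft Dᵒᵖ Cᵒᵖ AddCommGrpCat.{u}).obj u.op).mapHomologicalComplex
    (ComplexShape.up ℕ)).obj R.cocomplex

/-- the cycles presheaf -/
noncomputable abbrev cyclesP (n : ℕ) : Dᵒᵖ ⥤ AddCommGrpCat.{u} := kernel ((resPsh u R).d n (n + 1))

omit [u.IsContinuous K J] in
lemma cycle_cond (n : ℕ) (V : Dᵒᵖ) (z : (cyclesP u R n).obj V) :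
    (R.cocomplex.d n (n + 1)).hom.app (op (u.obj V.unop)) ((kernel.ι ((resPsh u R).d n (n + 1))).app V z) = 0 :=
  ConcreteCategory.congr_hom (NatTrans.congr_app (kernel.condition ((resPsh u R).d n (n + 1))) V) z

omit [u.IsContinuous K J] in
lemma cycle_hom_cond (n : ℕ) (V : Dᵒᵖ) (z : (cyclesP u R n).obj V) :
    (secEquiv (u.obj V.unop) (R.cocomplex.X n)).symm ((kernel.ι ((resPsh u R).d n (n + 1))).app V z) ≫
      R.cocomplex.d n (n + 1) = 0 :=
  (secEquiv _ _).injective (by
    rw [secEquiv_comp, Equiv.apply_symm_apply, cycle_cond]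
    exact ((map_zero (AddMonoidHom.mk' (secEquiv (u.obj V.unop) (R.cocomplex.X (n + 1)))
      (secEquiv_add _)))).symm)

/-- class of a cycle -/
noncomputable def cycleExt (n : ℕ) (V : Dᵒᵖ) (z : (cyclesP u R n).obj V) :
    Ext (fr J (u.obj V.unop)) F n :=
  R.extMk ((secEquiv (u.obj V.unop) (R.cocomplex.X n)).symm ((kernel.ι ((resPsh u R).d n (n + 1))).app V z))
    (n + 1) rfl (cycle_hom_cond u R n V z)

/-- the presheaf of cohomology groups over the images -/
noncomputable abbrev cohP (F : Sheaf J AddCommGrpCat.{u}) (n : ℕ) : Dᵒᵖ ⥤ AddCommGrpCat.{u} :=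
  u.op ⋙ F.cohomologyPresheaf n

/-- cycles to cohomology -/
noncomputable def toCohP (n : ℕ) : cyclesP u R n ⟶ cohP u F n where
  app V := AddCommGrpCat.ofHom (AddMonoidHom.mk' (fun z => (cycleExt u R n V z : Ext (fr J (u.obj V.unop)) F n))
    fun z z' => by
      show (_ : Ext (fr J (u.obj V.unop)) F n) = _
      refine Eq.trans ?_ (R.add_extMk _ _ _ rfl _ _).symm
      unfold cycleExt
      congr 1
      apply (secEquiv _ _).injective
      rw [secEquiv_add, Equiv.apply_symm_apply, Equiv.apply_symm_apply, Equiv.apply_symm_apply, _root_.map_add])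
  naturality V W g := by
    apply AddCommGrpCat.hom_ext
    ext z
    show cycleExt u R n W ((cyclesP u R n).map g z) =
      (Ext.mk₀ ((frP J).map (yoneda.map (u.map g.unop)))).comp (cycleExt u R n V z) (zero_add n)
    unfold cycleExt
    rw [R.mk₀_comp_extMk]
    congr 1
    apply (secEquiv _ _).injective
    rw [Equiv.apply_symm_apply, secEquiv_res, Equiv.apply_symm_apply]
    exact NatTrans.naturality_apply (kernel.ι ((resPsh u R).d n (n + 1))) g z

omit [u.IsContinuous K J] in
lemma exists_cycle (n : ℕ) (V : Dᵒᵖ) (x : ((resPsh u R).X n).obj V) (hx : ((resPsh u R).d n (n + 1)).app V x = 0) :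
    ∃ z : (cyclesP u R n).obj V, (kernel.ι ((resPsh u R).d n (n + 1))).app V z = x := by
  let S := ShortComplex.mk _ _ (kernel.condition ((resPsh u R).d n (n + 1)))
  have hS : S.Exact := ShortComplex.exact_of_f_is_kernel _ (kernelIsKernel _)
  exact (ShortComplex.ab_exact_iff _).1 (hS.map ((evaluation Dᵒᵖ AddCommGrpCat.{u}).obj V)) x hx

omit [u.IsContinuous K J] in
lemma cycle_injective (n : ℕ) (V : Dᵒᵖ) :
    Function.Injective ((kernel.ι ((resPsh u R).d n (n + 1))).app V) :=
  (AddCommGrpCat.mono_iff_injective _).1 inferInstance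

omit [u.IsContinuous K J] in
lemma surjective_toCohP (n : ℕ) (V : Dᵒᵖ) : Function.Surjective ((toCohP u R n).app V) := fun α => by
  obtain ⟨f, hf, hα⟩ := R.extMk_surjective (α : Ext (fr J (u.obj V.unop)) F n) (n + 1) rfl
  obtain ⟨z, hz⟩ := exists_cycle u R n V (secEquiv (u.obj V.unop) (R.cocomplex.X n) f) (by
    refine (secEquiv_comp _ f (R.cocomplex.d n (n + 1))).symm.trans ?_
    rw [hf]
    exact map_zero (AddMonoidHom.mk' (secEquiv (u.obj V.unop) (R.cocomplex.X (n + 1))) (secEquiv_add _)))
  refine ⟨z, ?_⟩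
  show cycleExt u R n V z = α
  unfold cycleExt
  subst hα
  congr 1
  apply (secEquiv _ _).injective
  rw [Equiv.apply_symm_apply]
  exact hz

omit [u.IsContinuous K J] in
lemma toCohP_eq_zero_iff_succ (p : ℕ) (V : Dᵒᵖ) (z : (cyclesP u R (p + 1)).obj V) :
    (toCohP u R (p + 1)).app V z = 0 ↔
      ∃ y, ((resPsh u R).d p (p + 1)).app V y = (kernel.ι ((resPsh u R).d (p + 1) (p + 2))).app V z := by
  refine Iff.trans (R.extMk_eq_zero_iff _ _ rfl (cycle_hom_cond u R (p + 1) V z) p rfl) ⟨?_, ?_⟩
  · rintro ⟨g, hg⟩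
    refine ⟨secEquiv _ _ g, ?_⟩
    refine (secEquiv_comp _ g (R.cocomplex.d p (p + 1))).symm.trans ?_
    rw [hg, Equiv.apply_symm_apply]
  · rintro ⟨y, hy⟩
    refine ⟨(secEquiv _ _).symm y, (secEquiv _ _).injective ?_⟩
    rw [secEquiv_comp, Equiv.apply_symm_apply, Equiv.apply_symm_apply]
    exact hy

omit [u.IsContinuous K J] in
lemma toCohP_injective_zero (V : Dᵒᵖ) : Function.Injective ((toCohP u R 0).app V) := by
  refine (injective_iff_map_eq_zero _).2 fun z hz => ?_
  apply cycle_injective u R 0 V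
  rw [map_zero]
  have h0 : ∀ (f : fr J (u.obj V.unop) ⟶ R.cocomplex.X 0) (hf : f ≫ R.cocomplex.d 0 1 = 0),
      R.extMk f 1 rfl hf = 0 → f = 0 := fun f hf h => by
    simp only [← R.extEquivCohomologyClass.apply_eq_iff_eq,
      InjectiveResolution.extEquivCohomologyClass_extMk,
      InjectiveResolution.extEquivCohomologyClass_zero,
      CochainComplex.HomComplex.CohomologyClass.mk_eq_zero_iff] at h
    rw [CochainComplex.HomComplex.Cocycle.fromSingleMk_mem_coboundaries_iff _ _ _ _ _ (-1)
      (by simp)] at h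
    obtain ⟨g, hg⟩ := h
    rw [(CochainComplex.isZero_of_isStrictlyGE R.cochainComplex 0 (-1)).eq_of_tgt g 0, zero_comp] at hg
    rw [← cancel_mono (R.cochainComplexXIso _ 0 rfl).inv, zero_comp]
    exact hg.symm
  have h := h0 _ (cycle_hom_cond u R 0 V z) hz
  have e := congrArg (secEquiv (u.obj V.unop) (R.cocomplex.X 0)) h
  rw [Equiv.apply_symm_apply] at e
  exact e.trans (map_zero (AddMonoidHom.mk' (secEquiv (u.obj V.unop) (R.cocomplex.X 0)) (secEquiv_add _)))

omit [u.IsContinuous K J] in
omit [u.IsContinuous K J] in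
lemma exists_homologyP_iso_aux (i n : ℕ) (hi : (ComplexShape.up ℕ).prev n = i)
    (hker : ∀ (V : Dᵒᵖ) z, (toCohP u R n).app V z = 0 ↔
      ∃ y, ((resPsh u R).d i n).app V y = (kernel.ι ((resPsh u R).d n (n + 1))).app V z) :
    Nonempty ((resPsh u R).homology n ≅ cohP u F n) := by
  let S := (resPsh u R).sc' i n (n + 1)
  let a : S.X₁ ⟶ cyclesP u R n := kernel.lift _ ((resPsh u R).d i n) ((resPsh u R).d_comp_d _ _ _)
  have ha : ∀ (V : Dᵒᵖ) y, (kernel.ι ((resPsh u R).d n (n + 1))).app V (a.app V y) =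
      ((resPsh u R).d i n).app V y :=
    fun V y => ConcreteCategory.congr_hom (NatTrans.congr_app (kernel.lift_ι _ _ _) V) y
  have hker : ∀ (V : Dᵒᵖ) z, (toCohP u R n).app V z = 0 ↔ ∃ y, a.app V y = z := fun V z =>
    (hker V z).trans ⟨fun ⟨y, hy⟩ => ⟨y, cycle_injective u R n V ((ha V y).trans hy)⟩,
      fun ⟨y, hy⟩ => ⟨y, by rw [← hy]; exact (ha V y).symm⟩⟩
  have w : a ≫ toCohP u R n = 0 := by
    ext V y
    exact (hker V _).2 ⟨y, rfl⟩
  haveI : Epi (toCohP u R n) := by
    haveI : ∀ V, Epi ((toCohP u R n).app V) := fun V =>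
      (AddCommGrpCat.epi_iff_surjective _).2 (surjective_toCohP u R n V)
    exact NatTrans.epi_of_epi_app _
  have hex : (ShortComplex.mk a (toCohP u R n) w).Exact := exact_of_evaluation _ fun V =>
    (ShortComplex.ab_exact_iff _).2 fun z hz => (hker V z).1 hz
  let h : S.LeftHomologyData :=
    { K := cyclesP u R n
      H := cohP u F n
      i := kernel.ι _
      π := toCohP u R n
      wi := kernel.condition _
      hi := kernelIsKernel _
      wπ := w
      hπ := hex.gIsCokernel }
  exact ⟨ShortComplex.homologyMapIso ((resPsh u R).isoSc' i n (n + 1) hi (CochainComplex.next _ n)) ≪≫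
    h.homologyIso⟩

omit [u.IsContinuous K J] in
/-- homology of the presheaf complex -/
theorem exists_homologyP_iso (n : ℕ) : Nonempty ((resPsh u R).homology n ≅ cohP u F n) := by
  cases n with
  | zero =>
    refine exists_homologyP_iso_aux u R 0 0 (by simp) fun V z => ?_
    have hd : (resPsh u R).d 0 0 = 0 := (resPsh u R).shape _ _ (by simp)
    constructor
    · intro h
      refine ⟨0, ?_⟩
      rw [toCohP_injective_zero u R V (h.trans (map_zero _).symm), map_zero, map_zero]
    · rintro ⟨y, hy⟩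
      rw [hd] at hy
      rw [cycle_injective u R 0 V (hy.symm.trans (map_zero _).symm), map_zero]
  | succ p => exact exists_homologyP_iso_aux u R p (p + 1) (CochainComplex.prev_nat_succ p) (toCohP_eq_zero_iff_succ u R p)

/-- sheafification computes the direct image complex -/
noncomputable def pushResIso :
    ((CohSite.push J K u).mapHomologicalComplex (ComplexShape.up ℕ)).obj R.cocomplex ≅
      ((presheafToSheaf K AddCommGrpCat.{u}).mapHomologicalComplex (ComplexShape.up ℕ)).obj (resPsh u R) :=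
  ((NatIso.mapHomologicalComplex (isoWhiskerLeft (CohSite.push J K u)
    (asIso (sheafificationAdjunction K AddCommGrpCat.{u}).counit).symm) (ComplexShape.up ℕ)).app R.cocomplex)

/-- higher direct images are sheafified cohomology -/
theorem exists_rpush_iso (F : Sheaf J AddCommGrpCat.{u}) (n : ℕ) :
    Nonempty ((CohSite.Rpush J K u n).obj F ≅
      (presheafToSheaf K AddCommGrpCat.{u}).obj (u.op ⋙ F.cohomologyPresheaf n)) := by
  let R := injectiveResolution F
  obtain ⟨e⟩ := exists_homologyP_iso u R n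
  exact ⟨R.isoRightDerivedObj _ n ≪≫
    (HomologicalComplex.homologyFunctor _ (ComplexShape.up ℕ) n).mapIso (pushResIso K u R) ≪≫
    ((resPsh u R).sc n).mapHomologyIso (presheafToSheaf K AddCommGrpCat.{u}) ≪≫
    (presheafToSheaf K AddCommGrpCat.{u}).mapIso e⟩

/-- vanishing of higher direct images -/
theorem isZero_rpush_of_acyclic (F : Sheaf J AddCommGrpCat.{u}) (n : ℕ)
    (h : ∀ V : D, Subsingleton (CohSite.HU F n (u.obj V))) : IsZero ((CohSite.Rpush J K u n).obj F) := by
  obtain ⟨e⟩ := exists_rpush_iso K u F n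
  refine IsZero.of_iso ((presheafToSheaf K AddCommGrpCat.{u}).map_isZero ?_) e
  exact Functor.isZero _ fun V => @AddCommGrpCat.isZero_of_subsingleton _ (h V.unop)

end Groth.Agent.SiteCoh
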