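import Groth.Agent.Lib.SiteCoh.Resolution
import Mathlib.Algebra.Homology.ShortComplex.Ab
import Mathlib.GroupTheory.QuotientGroup.Basic

/-! Cohomology of the maps out of an acyclic resolution. -/

universe w v u

open CategoryTheory CategoryTheory.Limits Abelian

set_option linter.style.haveILetI false
set_option backward.isDefEq.respectTransparency false

namespace Groth.Agent.SiteCoh

variable {A : Type u} [Category.{v} A] [Abelian A] {P : A} {K : ChainComplex A ℕ}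

/-- cocycles of maps into `F` -/
abbrev homCyc (K : ChainComplex A ℕ) (F : A) (p : ℕ) : AddSubgroup (K.X p ⟶ F) :=
  (Preadditive.leftComp F (K.d (p + 1) p)).ker

variable [HasExt.{w} A]

/-- properties of a comparison map -/
structure IsCmp {F : A} {p : ℕ} (Θ : homCyc K F p →+ Ext P F p) : Prop where
  surj : Function.Surjective Θ
  zero_iff : ∀ x, Θ x = 0 ↔ ∃ y : K.X (p - 1) ⟶ F, K.d p (p - 1) ≫ y = x.1
  push : ∀ (I : A), Injective I → ∀ (π : I ⟶ F) (b : K.X p ⟶ I) (x : homCyc K F p),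
    K.d (p + 1) p ≫ b = 0 → x.1 = b ≫ π → ∃ e : Ext P I p, e.comp (Ext.mk₀ π) (add_zero p) = Θ x
  pull : ∀ (I : A), Injective I → ∀ (π : I ⟶ F) (e : Ext P I p),
    ∃ (b : K.X p ⟶ I) (x : homCyc K F p), K.d (p + 1) p ≫ b = 0 ∧ x.1 = b ≫ π ∧
      e.comp (Ext.mk₀ π) (add_zero p) = Θ x

variable (ε : K ⟶ (ChainComplex.single₀ A).obj P) [QuasiIso ε] [EnoughInjectives A]

include ε

omit [EnoughInjectives A] in
lemma exists_cmp_zero (F : A) : ∃ Θ : homCyc K F 0 →+ Ext P F 0, IsCmp Θ := by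
  haveI := epi_aug ε
  choose c hc using fun x : homCyc K F 0 => exists_desc_aug ε x.1 x.2
  have e0 : ∀ (x : homCyc K F 0) (f : P ⟶ F), x.1 = aug ε ≫ f → c x = f := fun x f h =>
    (cancel_epi (aug ε)).1 ((hc x).trans h)
  let Θ : homCyc K F 0 →+ Ext P F 0 := AddMonoidHom.mk' (fun x => Ext.mk₀ (c x)) fun x y => by
    rw [e0 (x + y) (c x + c y) (by rw [Preadditive.comp_add, hc, hc]; rfl), Ext.mk₀_add]
  have hz : K.d 0 (0 - 1) = 0 := K.shape _ _ (by simp)
  refine ⟨Θ, ⟨fun ξ => ?_, fun x => ⟨fun h => ?_, ?_⟩, fun I hI π b x hb hx => ?_, fun I hI π e => ?_⟩⟩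
  · obtain ⟨f, rfl⟩ := (Ext.mk₀_bijective _ _).2 ξ
    refine ⟨⟨aug ε ≫ f, ?_⟩, ?_⟩
    · show K.d 1 0 ≫ aug ε ≫ f = 0
      rw [← Category.assoc, d_comp_aug, zero_comp]
    · exact congrArg Ext.mk₀ (e0 _ f rfl)
  · have h0 : c x = 0 := (Ext.mk₀_bijective _ _).1 (h.trans (Ext.mk₀_zero P F).symm)
    exact ⟨0, by rw [comp_zero, ← hc x, h0, comp_zero]⟩
  · rintro ⟨y, hy⟩
    rw [hz, zero_comp] at hy
    show Ext.mk₀ (c x) = 0
    rw [e0 x 0 (by rw [comp_zero]; exact hy.symm), Ext.mk₀_zero]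
  · obtain ⟨f, hf⟩ := exists_desc_aug ε b hb
    refine ⟨Ext.mk₀ f, ?_⟩
    show _ = Ext.mk₀ (c x)
    rw [Ext.mk₀_comp_mk₀, e0 x (f ≫ π) (by rw [hx, ← hf, Category.assoc])]
  · obtain ⟨f, rfl⟩ := (Ext.mk₀_bijective _ _).2 e
    refine ⟨aug ε ≫ f, ⟨aug ε ≫ f ≫ π, ?_⟩, ?_, (Category.assoc _ _ _).symm, ?_⟩
    · show K.d 1 0 ≫ aug ε ≫ f ≫ π = 0
      rw [← Category.assoc, d_comp_aug, zero_comp]
    · rw [← Category.assoc, d_comp_aug, zero_comp]
    · show _ = Ext.mk₀ (c _)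
      rw [Ext.mk₀_comp_mk₀, e0 _ (f ≫ π) rfl]

/-- maps out of an acyclic resolution compute `Ext` -/
theorem exists_cmp : ∀ (p : ℕ) (F : A), (∀ n k, Subsingleton (Ext (K.X n) F (k + 1))) →
    ∃ Θ : homCyc K F p →+ Ext P F p, IsCmp Θ
  | 0, F, _ => exists_cmp_zero ε F
  | p + 1, F, hK => by
    obtain ⟨I, Q, i, π, w, hI, hS⟩ := exists_inj_seq F
    haveI : Mono i := hS.mono_f
    haveI := hI
    obtain ⟨ΘQ, hQ⟩ := exists_cmp p Q fun n k =>
      ext_shift₃ _ hS (k + 1) (subsingleton_ext_injective _ I k) (hK n (k + 1))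
    have lft : ∀ {T : A} (g : T ⟶ I), g ≫ π = 0 → ∃ z : T ⟶ F, z ≫ i = g := fun g hg =>
      ⟨hS.fIsKernel.lift (KernelFork.ofι g hg), Fork.IsLimit.lift_ι hS.fIsKernel⟩
    let G : AddSubgroup (K.X p ⟶ I) :=
      ((Preadditive.leftComp Q (K.d (p + 1) p)).comp (Preadditive.rightComp (K.X p) π)).ker
    have mG : ∀ b : G, K.d (p + 1) p ≫ b.1 ≫ π = 0 := fun b => b.2
    let toQ : G →+ homCyc K Q p :=
      ((Preadditive.rightComp (K.X p) π).comp G.subtype).codRestrict _ mG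
    let f2 : G →+ Ext P F (p + 1) := AddMonoidHom.mk' (fun b => (ΘQ (toQ b)).comp hS.extClass rfl)
      fun b b' => by rw [_root_.map_add, _root_.map_add, Ext.add_comp]
    choose β₀ hβ₀ using fun b : G => lft (K.d (p + 1) p ≫ b.1) (by rw [Category.assoc, mG b])
    let β : G →+ homCyc K F (p + 1) := AddMonoidHom.mk' (fun b => ⟨β₀ b, by
        show K.d (p + 1 + 1) (p + 1) ≫ β₀ b = 0
        rw [← cancel_mono i, Category.assoc, hβ₀, ← Category.assoc, K.d_comp_d, zero_comp, zero_comp]⟩)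
      fun b b' => Subtype.ext ((cancel_mono i).1 (by
        show β₀ (b + b') ≫ i = (β₀ b + β₀ b') ≫ i
        rw [Preadditive.add_comp, hβ₀, hβ₀, hβ₀, ← Preadditive.comp_add]
        rfl))
    have hβ : Function.Surjective β := fun x => by
      obtain ⟨b, hb⟩ := homExactAt_injective ε I p (x.1 ≫ i) (by
        rw [← Category.assoc]
        exact (congrArg (· ≫ i) x.2).trans zero_comp)
      refine ⟨⟨b, ?_⟩, Subtype.ext ((cancel_mono i).1 ?_)⟩
      · show K.d (p + 1) p ≫ b ≫ π = 0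
        rw [← Category.assoc, hb, Category.assoc, w, comp_zero]
      · exact (hβ₀ _).trans hb
    have hker : β.ker ≤ f2.ker := fun b hb => by
      have h0 : K.d (p + 1) p ≫ b.1 = 0 := by
        rw [← hβ₀ b, show β₀ b = 0 from congrArg Subtype.val hb, zero_comp]
      obtain ⟨e, he⟩ := hQ.push I hI π b.1 (toQ b) h0 rfl
      show (ΘQ (toQ b)).comp hS.extClass rfl = 0
      rw [← he]
      exact (Ext.comp_assoc_of_second_deg_zero _ _ _ _).trans (by rw [hS.comp_extClass, Ext.comp_zero])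
    let Θ := β.liftOfSurjective hβ ⟨f2, hker⟩
    have hΘ : ∀ b, Θ (β b) = f2 b := fun b => β.liftOfRightInverse_comp_apply _ _ _ b
    have hbd : ∀ x : homCyc K F (p + 1), (∃ y : K.X p ⟶ F, K.d (p + 1) p ≫ y = x.1) → Θ x = 0 := by
      rintro x ⟨y, hy⟩
      have m : y ≫ i ∈ G := by
        show K.d (p + 1) p ≫ (y ≫ i) ≫ π = 0
        rw [Category.assoc, w, comp_zero, comp_zero]
      have e : β ⟨y ≫ i, m⟩ = x := Subtype.ext ((cancel_mono i).1 ((hβ₀ _).trans (by
        rw [← hy, Category.assoc])))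
      rw [← e, hΘ]
      have t : toQ ⟨y ≫ i, m⟩ = 0 := Subtype.ext (by
        show (y ≫ i) ≫ π = 0
        rw [Category.assoc, w, comp_zero])
      show (ΘQ (toQ _)).comp hS.extClass rfl = 0
      rw [t, _root_.map_zero, Ext.zero_comp]
    refine ⟨Θ, ⟨fun ξ => ?_, fun x => ⟨fun h => ?_, hbd x⟩, fun J hJ π' b x hb hx => ?_, fun J hJ π' e => ?_⟩⟩
    · obtain ⟨z, rfl⟩ := Ext.covariant_sequence_exact₁ _ hS ξ (Ext.eq_zero_of_injective _) (n₀ := p) rfl
      obtain ⟨z', rfl⟩ := hQ.surj z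
      obtain ⟨b, hb⟩ := exists_lift_of_ext (K.X p) hS (hK p 0) z'.1
      dsimp at hb
      have m : b ∈ G := by
        show K.d (p + 1) p ≫ b ≫ π = 0
        rw [hb]
        exact z'.2
      refine ⟨β ⟨b, m⟩, (hΘ _).trans ?_⟩
      exact congrArg (fun t => (ΘQ t).comp hS.extClass rfl) (Subtype.ext hb)
    · obtain ⟨b, rfl⟩ := hβ x
      rw [hΘ] at h
      obtain ⟨e, he⟩ := Ext.covariant_sequence_exact₃ _ hS (ΘQ (toQ b)) rfl h
      obtain ⟨c, xc, hc, hxc, hec⟩ := hQ.pull I hI π e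
      have h0 : ΘQ (toQ b - xc) = 0 := by rw [_root_.map_sub, ← hec, sub_eq_zero]; exact he.symm
      obtain ⟨y', hy'⟩ := (hQ.zero_iff _).1 h0
      obtain ⟨y'', hy''⟩ := exists_lift_of_ext (K.X (p - 1)) hS (hK (p - 1) 0) y'
      dsimp at hy''
      obtain ⟨y, hy⟩ := lft (b.1 - c - K.d p (p - 1) ≫ y'') (by
        rw [Preadditive.sub_comp, Preadditive.sub_comp, Category.assoc, hy'', hy']
        show b.1 ≫ π - c ≫ π - (b.1 ≫ π - xc.1) = 0
        rw [hxc, sub_self])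
      refine ⟨y, (cancel_mono i).1 ?_⟩
      refine Eq.trans ?_ (hβ₀ b).symm
      rw [Category.assoc, hy]
      show K.d (p + 1) p ≫ _ = _
      rw [Preadditive.comp_sub, Preadditive.comp_sub, hc, ← Category.assoc (K.d _ _) (K.d _ _), K.d_comp_d,
        zero_comp, sub_zero, sub_zero]
    · haveI := hJ
      obtain ⟨y, hy⟩ := homExactAt_injective ε J p b hb
      exact ⟨0, by rw [Ext.zero_comp, hbd x ⟨y ≫ π', by rw [hx, ← hy, Category.assoc]⟩]⟩
    · haveI := hJ
      exact ⟨0, 0, comp_zero, zero_comp.symm, by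
        rw [Ext.eq_zero_of_injective e, Ext.zero_comp, _root_.map_zero]⟩

/-- a complex of maps out of an acyclic resolution has `Ext` as cohomology -/
theorem exists_homology_equiv {F : A} (L : CochainComplex AddCommGrpCat.{v} ℕ)
    (E : ∀ n, (K.X n ⟶ F) ≃+ L.X n) (hE : ∀ n x, L.d n (n + 1) (E n x) = E (n + 1) (K.d (n + 1) n ≫ x))
    (hK : ∀ n k, Subsingleton (Ext (K.X n) F (k + 1))) (p : ℕ) :
    Nonempty (L.homology p ≃+ Ext P F p) := by
  obtain ⟨Θ, hΘ⟩ := exists_cmp ε p F hK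
  have hprev : (ComplexShape.up ℕ).prev p = p - 1 := by cases p <;> simp
  let S := L.sc' (p - 1) p (p + 1)
  have hb : ∀ y, L.d (p - 1) p (E (p - 1) y) = E p (K.d p (p - 1) ≫ y) := by
    intro y
    cases p with
    | zero =>
      rw [show L.d (0 - 1) 0 = 0 from L.shape _ _ (by simp), show K.d 0 (0 - 1) = 0 from K.shape _ _ (by simp),
        zero_comp]
      exact (_root_.map_zero _).symm
    | succ q => exact hE q y
  let φ : AddMonoidHom.ker S.g.hom →+ Ext P F p :=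
    Θ.comp (((E p).symm.toAddMonoidHom.comp (AddMonoidHom.ker S.g.hom).subtype).codRestrict _ fun x => by
      show K.d (p + 1) p ≫ (E p).symm x.1 = 0
      apply (E (p + 1)).injective
      rw [← hE, AddEquiv.apply_symm_apply, _root_.map_zero]
      exact x.2)
  have hφ : Function.Surjective φ := fun ξ => by
    obtain ⟨z, rfl⟩ := hΘ.surj ξ
    refine ⟨⟨E p z.1, ?_⟩, congrArg Θ (Subtype.ext ((E p).symm_apply_apply _))⟩
    show L.d p (p + 1) (E p z.1) = 0
    rw [hE, show K.d (p + 1) p ≫ z.1 = 0 from z.2, _root_.map_zero]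
  have hr : S.abToCycles.range = φ.ker := by
    ext x
    constructor
    · rintro ⟨y, rfl⟩
      refine (hΘ.zero_iff _).2 ⟨(E (p - 1)).symm y, ?_⟩
      apply (E p).injective
      rw [← hb, AddEquiv.apply_symm_apply]
      exact ((E p).apply_symm_apply _).symm
    · intro hx
      obtain ⟨y, hy⟩ := (hΘ.zero_iff _).1 hx
      refine ⟨E (p - 1) y, Subtype.ext ?_⟩
      show L.d (p - 1) p (E (p - 1) y) = x.1
      rw [hb, hy]
      exact (E p).apply_symm_apply _
  exact ⟨((L.homologyIsoSc' (p - 1) p (p + 1) hprev (by simp)) ≪≫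
      S.abLeftHomologyData.homologyIso).addCommGroupIsoToAddEquiv.trans
    ((QuotientAddGroup.quotientAddEquivOfEq hr).trans (QuotientAddGroup.quotientKerEquivOfSurjective φ hφ))⟩

end Groth.Agent.SiteCoh
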