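import Groth.Agent.Lib.SiteCoh.CechFamily
import Groth.Agent.Lib.SiteCoh.HomCoh

/-! Čech cohomology as `Ext` out of the image of a family. -/

universe u

open CategoryTheory CategoryTheory.Functor CategoryTheory.Limits Opposite Abelian AlgebraicTopology Simplicial

set_option linter.style.haveILetI false
set_option backward.isDefEq.respectTransparency false
set_option backward.isDefEq.respectTransparency.types false

namespace Groth.Agent.SiteCoh

/-- precomposition with an isomorphism -/
noncomputable def extPreEquiv {A : Type*} [Category A] [Abelian A] [HasExt.{u} A] {P P' : A} (i : P' ≅ P) (F : A)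
    (n : ℕ) : Ext P F n ≃+ Ext P' F n where
  toFun x := (Ext.mk₀ i.hom).comp x (zero_add n)
  invFun x := (Ext.mk₀ i.inv).comp x (zero_add n)
  left_inv x := by dsimp only; rw [Ext.mk₀_comp_mk₀_assoc, i.inv_hom_id, Ext.mk₀_id_comp]
  right_inv x := by dsimp only; rw [Ext.mk₀_comp_mk₀_assoc, i.hom_inv_id, Ext.mk₀_id_comp]
  map_add' x y := Ext.comp_add _ _ _ _

variable {C : Type u} [SmallCategory C] [HasPullbacks C] {J : GrothendieckTopology C} {U : C}

/-- families of acyclic objects are acyclic -/
theorem subsingleton_ext_psh : ∀ (k : ℕ) (F : Sheaf J AddCommGrpCat.{u}) (E : FormalCoproduct.{u} (Over U)),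
    (∀ i q, Subsingleton (CohSite.HU F (q + 1) (E.obj i).left)) →
      Subsingleton (Ext ((frP J).obj ((psh (C := C) (U := U)).obj E)) F (k + 1))
  | 0, F, E, h => by
    obtain ⟨I, Q, i, π, w, hI, hS⟩ := exists_injSeq F
    exact ext_one_eq_zero _ hS (fun g => exists_lift_psh E π (fun a => surjective_sections _ hS (h a 0)) g)
      (subsingleton_ext_injective _ I 0)
  | k + 1, F, E, h => by
    obtain ⟨I, Q, i, π, w, hI, hS⟩ := exists_injSeq F
    exact ext_shift₁ _ hS (k + 1)
      (subsingleton_ext_psh k Q E fun a q => subsingleton_HU₃ _ hS (q + 1)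
        (subsingleton_HU_of_injective _ I q) (h a (q + 1)))
      (subsingleton_ext_injective _ I (k + 1))

/-- acyclic families compute `Ext` out of their image -/
theorem nonempty_cechH_equiv (F : Sheaf J AddCommGrpCat.{u}) {ι : Type u} (Y : ι → Over U)
    (h : ∀ (p : ℕ) (a : Fin (p + 1) → ι) (q : ℕ),
      Subsingleton (CohSite.HU F (q + 1) (∏ᶜ fun k => Y (a k)).left))
    (p : ℕ) : Nonempty (CohCx.cechH F.obj Y p ≃+ Ext ((frP J).obj (famImg Y)) F p) := by
  haveI := quasiIso_fam Y J
  exact exists_homology_equiv (K := famCx Y J) (F := F) (AlternatingFaceMapComplex.ε.app (famFr Y J))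
    ((cechComplexFunctor Y).obj ((Over.forget U).op ⋙ F.obj))
    (fun n => AddEquiv.ofBijective (M := (famCx Y J).X n ⟶ F)
      (N := ((cechComplexFunctor Y).obj ((Over.forget U).op ⋙ F.obj)).X n) (famElt (F := F) ((famObj Y).power (ToType (⦋n⦌ : SimplexCategory))))
      (bijective_famElt _))
    (fun n x => famElt_d Y F n x) (fun n k => subsingleton_ext_psh k F _ fun a q => h n a q) p

/-- every object is weakly contractible for the trivial topology -/
theorem weaklyContractible_bot {C : Type u} [SmallCategory C] (V : C) :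
    CohSite.IsWeaklyContractible (⊥ : GrothendieckTopology C) V := fun F G φ hφ s => by
  haveI : Sheaf.IsLocallySurjective φ := (Sheaf.isLocallySurjective_iff_epi φ).2 hφ
  have h := Presheaf.imageSieve_mem (⊥ : GrothendieckTopology C) φ.hom (U := op V) s
  rw [GrothendieckTopology.bot_covering] at h
  obtain ⟨t, ht⟩ : Presheaf.imageSieve φ.hom s (𝟙 V) := by rw [h]; trivial
  exact ⟨t, by simpa using ht⟩

/-- the image of a family is its sieve -/
noncomputable def famImgIso {ι : Type u} (Y : ι → Over U) :
    famImg Y ≅ (Sieve.ofArrows (fun i => (Y i).left) (fun i => (Y i).hom)).functor :=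
  NatIso.ofComponents (fun V => (Equiv.subtypeEquivRight fun g => by
    constructor
    · rintro ⟨⟨i, a⟩, rfl⟩
      exact (Sieve.mem_ofArrows_iff _ _ _).2 ⟨i, a, rfl⟩
    · intro hg
      obtain ⟨i, a, ha⟩ := (Sieve.mem_ofArrows_iff _ _ _).1 hg
      exact ⟨⟨i, a⟩, ha.symm⟩).toIso) fun f => by
    ext x
    rfl

end Groth.Agent.SiteCoh
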