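import Groth.Agent.Lib.SiteCoh.Free
import Mathlib.Algebra.Homology.ShortComplex.ExactFunctor
import Mathlib.Algebra.Homology.DerivedCategory.Ext.ExtClass
import Mathlib.CategoryTheory.Sites.LocallySurjective

/-! Products, restriction surjectivity, weakly contractible objects, killing classes. -/

universe u

open CategoryTheory CategoryTheory.Functor CategoryTheory.Limits Opposite Abelian

set_option linter.style.haveILetI false
set_option backward.isDefEq.respectTransparency false
set_option backward.isDefEq.respectTransparency.types false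

namespace Groth.Agent.SiteCoh

variable {C : Type u} [SmallCategory C] {J : GrothendieckTopology C}

section Products

variable {T : Type u} {S : T → ShortComplex (Sheaf J AddCommGrpCat.{u})}

/-- product of short exact sequences, without surjectivity -/
lemma exact_piMap (hS : ∀ t, (S t).ShortExact) :
    (ShortComplex.mk (Limits.Pi.map fun t => (S t).f) (Limits.Pi.map fun t => (S t).g)
      (Pi.hom_ext _ _ fun t => by simp)).Exact := by
  haveI : Mono (Limits.Pi.map fun t => (S t).f) := by
    haveI := fun t => (hS t).mono_f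
    infer_instance
  refine ShortComplex.exact_of_f_is_kernel _ (KernelFork.IsLimit.ofι' _ _ fun {A} k hk => ?_)
  have h : ∀ t, (k ≫ Pi.π _ t) ≫ (S t).g = 0 := fun t => by
    have := congrArg (fun e => e ≫ Pi.π _ t) hk
    simpa using this
  refine ⟨Pi.lift fun t => (hS t).fIsKernel.lift (KernelFork.ofι _ (h t)), Pi.hom_ext _ _ fun t => ?_⟩
  simp only [Category.assoc, Limits.Pi.map_π, Pi.lift_π_assoc]
  exact Fork.IsLimit.lift_ι (hS t).fIsKernel

/-- the first cohomology of a product injects into the product -/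
theorem ext_one_pi_eq_zero (P : Sheaf J AddCommGrpCat.{u}) (F : T → Sheaf J AddCommGrpCat.{u})
    (x : Ext P (∏ᶜ F) 1) (h : ∀ t, x.comp (Ext.mk₀ (Pi.π F t)) (add_zero 1) = 0) : x = 0 := by
  choose I Q i p w hI hS using fun t => exists_inj_seq (F t)
  haveI : Injective (∏ᶜ I) := inferInstance
  haveI : Mono (Limits.Pi.map i) := by
    haveI := fun t => (hS t).mono_f
    infer_instance
  let S₀ := ShortComplex.mk (Limits.Pi.map i) (cokernel.π (Limits.Pi.map i)) (cokernel.condition _)
  have hS₀ : S₀.ShortExact :=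
    ShortComplex.ShortExact.mk' (ShortComplex.exact_of_g_is_cokernel _ (cokernelIsCokernel _))
      inferInstance inferInstance
  let τ : ∀ t, cokernel (Limits.Pi.map i) ⟶ Q t := fun t => cokernel.desc _ (Pi.π I t ≫ p t) (by simp [w t])
  let φ : ∀ t, S₀ ⟶ ShortComplex.mk (i t) (p t) (w t) := fun t =>
    { τ₁ := Pi.π F t, τ₂ := Pi.π I t, τ₃ := τ t, comm₁₂ := (Limits.Pi.map_π i t).symm,
      comm₂₃ := (cokernel.π_desc _ _ _).symm }
  obtain ⟨y, rfl⟩ := Ext.covariant_sequence_exact₁ _ hS₀ x (Ext.eq_zero_of_injective _) (n₀ := 0) rfl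
  obtain ⟨f, rfl⟩ := (Ext.mk₀_bijective _ _).2 y
  have hg : ∀ t, ∃ g : P ⟶ I t, g ≫ p t = f ≫ τ t := fun t => by
    have h0 : (Ext.mk₀ (f ≫ τ t)).comp (hS t).extClass (zero_add 1) = 0 := by
      rw [← Ext.mk₀_comp_mk₀_assoc, ← ShortComplex.ShortExact.extClass_naturality hS₀ (hS t) (φ t),
        ← Ext.comp_assoc_of_third_deg_zero]
      exact h t
    obtain ⟨z, hz⟩ := Ext.covariant_sequence_exact₃ _ (hS t) _ rfl h0
    obtain ⟨g, rfl⟩ := (Ext.mk₀_bijective _ _).2 z
    rw [Ext.mk₀_comp_mk₀] at hz
    exact ⟨g, (Ext.mk₀_bijective _ _).1 hz⟩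
  choose g hg using hg
  have hd : f = Pi.lift g ≫ S₀.g := by
    obtain ⟨A', e, he, a, ha⟩ :=
      surjective_up_to_refinements_of_epi (cokernel.π (Limits.Pi.map i)) (f - Pi.lift g ≫ cokernel.π (Limits.Pi.map i))
    have h1 : a ≫ Limits.Pi.map p = 0 := Pi.hom_ext _ _ fun t => by
      have := congrArg (fun e => e ≫ τ t) ha
      simp only [Category.assoc, Preadditive.sub_comp, cokernel.π_desc, Pi.lift_π_assoc, hg t, sub_self,
        comp_zero, τ] at this
      simpa using this.symm
    obtain ⟨A'', e', he', b, hb⟩ :=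
      (exact_piMap (S := fun t => ShortComplex.mk (i t) (p t) (w t)) hS).exact_up_to_refinements a h1
    have h2 : (e' ≫ e) ≫ (f - Pi.lift g ≫ cokernel.π (Limits.Pi.map i)) = 0 := by
      dsimp at hb
      rw [Category.assoc, ha, reassoc_of% hb, cokernel.condition, comp_zero]
    haveI := he
    haveI := he'
    exact sub_eq_zero.1 ((cancel_epi (e' ≫ e)).1 (h2.trans comp_zero.symm))
  rw [hd, ← Ext.mk₀_comp_mk₀, Ext.comp_assoc_of_second_deg_zero, hS₀.comp_extClass, Ext.comp_zero]

/-- products of totally acyclic sheaves -/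
theorem subsingleton_ext_pi (P : Sheaf J AddCommGrpCat.{u}) :
    ∀ (q : ℕ) (F : T → Sheaf J AddCommGrpCat.{u}),
      (∀ t q, Subsingleton (Ext P (F t) (q + 1))) → (∀ t (U : C) q, Subsingleton (CohSite.HU (F t) (q + 1) U)) →
      Subsingleton (Ext P (∏ᶜ F) (q + 1))
  | 0, F, hP, _ => subsingleton_of_forall_eq 0 fun x => ext_one_pi_eq_zero P F x fun t => (hP t 0).elim _ _
  | q + 1, F, hP, hF => by
    choose I Q i p w hI hS using fun t => exists_inj_seq (F t)
    have hs : ∀ U : C, Function.Surjective ((Limits.Pi.map p).hom.app (op U)) := fun U s => by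
      have hg : ∀ t, ∃ g : fr J U ⟶ I t, g ≫ p t = (secEquiv U (∏ᶜ Q)).symm s ≫ Pi.π Q t := fun t =>
        exists_lift_of_ext _ (hS t) (hF t U 0) _
      choose g hg using hg
      refine ⟨secEquiv U (∏ᶜ I) (Pi.lift g), ?_⟩
      rw [← secEquiv_comp, ← Equiv.eq_symm_apply]
      exact Pi.hom_ext _ _ fun t => by simpa using hg t
    haveI : Epi (Limits.Pi.map p) := epi_of_surjective_sections _ hs
    haveI : Mono (Limits.Pi.map i) := by
      haveI := fun t => (hS t).mono_f
      infer_instance
    have hS' := ShortComplex.ShortExact.mk' (exact_piMap (S := fun t => ShortComplex.mk (i t) (p t) (w t)) hS)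
      inferInstance inferInstance
    exact ext_shift₁ P hS' (q + 1) (subsingleton_ext_pi P q Q
      (fun t k => ext_shift₃ _ (hS t) (k + 1) (subsingleton_ext_injective _ (I t) k) (hP t (k + 1)))
      (fun t U k => ext_shift₃ (fr J U) (hS t) (k + 1) (subsingleton_ext_injective _ (I t) k) (hF t U (k + 1))))
      (subsingleton_ext_injective P (∏ᶜ I) (q + 1))

end Products

/-- restriction to subobjects is surjective for totally acyclic sheaves -/
theorem surjective_restrict_of_totallyAcyclic {F : Sheaf J AddCommGrpCat.{u}} (hF : CohCx.IsTotallyAcyclic F)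
    {Y X : Cᵒᵖ ⥤ Type u} (ι : Y ⟶ X) [Mono ι] (a : (frP J).obj Y ⟶ F) :
    ∃ x : (frP J).obj X ⟶ F, (frP J).map ι ≫ x = a := by
  haveI hm : Mono ((frP J).map ι) := by
    haveI : Mono (((Functor.whiskeringRight Cᵒᵖ (Type u) AddCommGrpCat.{u}).obj AddCommGrpCat.free.{u}).map ι) := by
      haveI : ∀ T, Mono ((Functor.whiskerRight ι AddCommGrpCat.free.{u}).app T) := fun T => by
        haveI : Mono (ι.app T) := inferInstance
        exact inferInstanceAs (Mono (AddCommGrpCat.free.{u}.map (ι.app T)))
      exact NatTrans.mono_of_mono_app _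
    exact (presheafToSheaf J AddCommGrpCat.{u}).map_mono _
  have hS : (ShortComplex.mk ((frP J).map ι) (cokernel.π ((frP J).map ι)) (cokernel.condition _)).ShortExact :=
    ShortComplex.ShortExact.mk' (ShortComplex.exact_of_g_is_cokernel _ (cokernelIsCokernel _))
      inferInstance inferInstance
  have sq := (IsPushout.of_hasPushout ι (terminal.from Y)).map (frP J)
  haveI : PreservesColimit (span ι (terminal.from Y)) (frP J) := (frAdj J).leftAdjoint_preservesColimits.preservesColimitsOfShape.preservesColimit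
  let e := (frP J).map (terminal.from (pushout ι (terminal.from Y)))
  let inl := (frP J).map (pushout.inl ι (terminal.from Y))
  let inr := (frP J).map (pushout.inr ι (terminal.from Y))
  have her : inr ≫ e = 𝟙 _ := by
    rw [← Functor.map_comp, ← CategoryTheory.Functor.map_id]
    exact congrArg _ (Subsingleton.elim _ _)
  have hw : (frP J).map ι ≫ inl = (frP J).map (terminal.from Y) ≫ inr := sq.w
  let i : cokernel ((frP J).map ι) ⟶ (frP J).obj (pushout ι (terminal.from Y)) :=
    cokernel.desc _ (inl - inl ≫ e ≫ inr) (by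
      rw [Preadditive.comp_sub, ← Category.assoc ((frP J).map ι) inl, hw, Category.assoc, reassoc_of% her, sub_self])
  let r : (frP J).obj (pushout ι (terminal.from Y)) ⟶ cokernel ((frP J).map ι) :=
    sq.desc (cokernel.π _) 0 (by simp)
  have hir : i ≫ r = 𝟙 _ := by
    rw [← cancel_epi (cokernel.π ((frP J).map ι)), cokernel.π_desc_assoc, Category.comp_id, Preadditive.sub_comp]
    simp only [Category.assoc]
    rw [sq.inl_desc, sq.inr_desc]
    simp
  have h0 := subsingleton_ext_of_retract i r hir 1 (subsingleton_ext_frP hF _ 0)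
  obtain ⟨z, hz⟩ := Ext.contravariant_sequence_exact₁ hS F (Ext.mk₀ a) (n₁ := 1) rfl (h0.elim _ _)
  obtain ⟨x, rfl⟩ := (Ext.mk₀_bijective _ _).2 z
  rw [Ext.mk₀_comp_mk₀] at hz
  exact ⟨x, (Ext.mk₀_bijective _ _).1 hz⟩

/-- weakly contractible objects: sections preserve epimorphisms -/
theorem surjective_of_weaklyContractible {U : C} (hU : CohSite.IsWeaklyContractible J U)
    {F G : Sheaf J AddCommGrpCat.{u}} (φ : F ⟶ G) [Epi φ] : Function.Surjective (φ.hom.app (op U)) := by
  haveI h : Sheaf.IsLocallySurjective φ := (Sheaf.isLocallySurjective_iff_epi' _ φ).2 inferInstance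
  exact hU _ _ ((und J).map φ) ((Sheaf.isLocallySurjective_iff_epi _).1 inferInstance)

theorem subsingleton_HU_of_weaklyContractible {U : C} (hU : CohSite.IsWeaklyContractible J U) :
    ∀ (p : ℕ) (F : Sheaf J AddCommGrpCat.{u}), Subsingleton (CohSite.HU F (p + 1) U)
  | 0, F => by
    obtain ⟨I, Q, i, p, w, hI, hS⟩ := exists_injSeq F
    haveI := hS.epi_g
    exact subsingleton_HU_one U hS (surjective_of_weaklyContractible hU p) (subsingleton_HU_of_injective U I 0)
  | q + 1, F => by
    obtain ⟨I, Q, i, p, w, hI, hS⟩ := exists_injSeq F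
    exact subsingleton_HU₁ U hS (q + 1) (subsingleton_HU_of_weaklyContractible hU q Q)
      (subsingleton_HU_of_injective U I (q + 1))

/-- classes of positive degree die on a covering -/
theorem kill_class (U : C) : ∀ (n : ℕ) (F : Sheaf J AddCommGrpCat.{u}) (ξ : CohSite.HU F (n + 1) U),
    ∃ R ∈ J U, ∀ ⦃V : C⦄ (f : V ⟶ U), R f → CohSite.res F (n + 1) f ξ = 0
  | n, F, ξ => by
    obtain ⟨I, Q, i, p, w, hI, hS⟩ := exists_injSeq F
    let x : Ext (fr J U) F (n + 1) := ξ
    obtain ⟨y, hy⟩ := Ext.covariant_sequence_exact₁ _ hS x (Ext.eq_zero_of_injective _) (n₀ := n) rfl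
    have hres : ∀ {V : C} (f : V ⟶ U), CohSite.res F (n + 1) f ξ =
        (Ext.mk₀ ((frP J).map (yoneda.map f))).comp x (zero_add _) := fun f => rfl
    cases n with
    | zero =>
      obtain ⟨g, rfl⟩ := (Ext.mk₀_bijective _ _).2 y
      haveI : Epi p := hS.epi_g
      haveI h : Sheaf.IsLocallySurjective p := (Sheaf.isLocallySurjective_iff_epi' _ p).2 inferInstance
      refine ⟨_, Presheaf.imageSieve_mem J p.hom (secEquiv U Q g), fun V f hf => ?_⟩
      obtain ⟨t, ht⟩ := hf
      have e : (frP J).map (yoneda.map f) ≫ g = (secEquiv V I).symm t ≫ p := by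
        apply (secEquiv V Q).injective
        rw [secEquiv_comp V ((secEquiv V I).symm t) p, Equiv.apply_symm_apply]
        refine Eq.trans ?_ ht.symm
        show yonedaEquiv ((frAdj J).homEquiv (yoneda.obj V) Q ((frP J).map (yoneda.map f) ≫ g)) = _
        rw [(frAdj J).homEquiv_naturality_left, ← yonedaEquiv_naturality]
        rfl
      rw [hres, ← hy, Ext.mk₀_comp_mk₀_assoc, e, ← Ext.mk₀_comp_mk₀, Ext.comp_assoc_of_second_deg_zero,
        hS.comp_extClass, Ext.comp_zero]
    | succ m =>
      obtain ⟨R, hR, hR'⟩ := kill_class U m Q y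
      refine ⟨R, hR, fun V f hf => ?_⟩
      have e : (Ext.mk₀ ((frP J).map (yoneda.map f))).comp y (zero_add _) = 0 := hR' f hf
      rw [hres, ← hy, ← Ext.comp_assoc (a₁₂ := m + 1) _ _ _ (by lia) (by lia) (by lia), e, Ext.zero_comp]

end Groth.Agent.SiteCoh
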