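import Groth.Agent.Lib.SiteCoh.CechNerve
import Groth.Agent.Lib.SiteCoh.Acyclic
import Mathlib.CategoryTheory.Limits.FormalCoproducts.Cech
import Mathlib.CategoryTheory.Sites.SheafCohomology.Cech

/-! The Čech complex of a family as maps out of a resolution by free sheaves. -/

universe u

open CategoryTheory CategoryTheory.Functor CategoryTheory.Limits Opposite Abelian AlgebraicTopology Simplicial

set_option linter.style.haveILetI false
set_option backward.isDefEq.respectTransparency false
set_option backward.isDefEq.respectTransparency.types false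

namespace Groth.Agent.SiteCoh

variable {C : Type u} [SmallCategory C]

/-- a formal coproduct over an object, as a presheaf of sets -/
def psh {U : C} : FormalCoproduct.{u} (Over U) ⥤ (Cᵒᵖ ⥤ Type u) where
  obj E :=
    { obj := fun V => Σ i : E.I, (V.unop ⟶ (E.obj i).left)
      map := fun g => ↾fun x => ⟨x.1, g.unop ≫ x.2⟩
      map_id := fun V => by
        refine ConcreteCategory.hom_ext _ _ fun x => ?_
        refine Sigma.ext rfl ?_
        simp
      map_comp := fun g g' => by
        refine ConcreteCategory.hom_ext _ _ fun x => ?_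
        refine Sigma.ext rfl ?_
        simp }
  map f :=
    { app := fun V => ↾fun x => ⟨f.f x.1, x.2 ≫ (f.φ x.1).left⟩
      naturality := fun V W g => by
        refine ConcreteCategory.hom_ext _ _ fun x => ?_
        refine Sigma.ext rfl ?_
        simp }
  map_id E := by
    refine NatTrans.ext (funext fun V => ConcreteCategory.hom_ext _ _ fun x => ?_)
    refine Sigma.ext rfl ?_
    simp
  map_comp f g := by
    refine NatTrans.ext (funext fun V => ConcreteCategory.hom_ext _ _ fun x => ?_)
    refine Sigma.ext rfl ?_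
    simp

variable [HasPullbacks C] {U : C} {ι : Type u} (Y : ι → Over U)

/-- the family as a formal coproduct -/
abbrev famObj : FormalCoproduct.{u} (Over U) := ⟨ι, Y⟩

/-- the Čech nerve of the family -/
noncomputable abbrev famNerve : SimplicialObject (Cᵒᵖ ⥤ Type u) :=
  (famObj Y).cech ⋙ psh (C := C) (U := U)

/-- the map to the base -/
def famBase : (psh (C := C) (U := U)).obj (famObj Y) ⟶ yoneda.obj U where
  app V := ↾fun x => x.2 ≫ (Y x.1).hom
  naturality V W g := by
    ext x
    exact Category.assoc _ _ _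

/-- the image -/
abbrev famImg : Cᵒᵖ ⥤ Type u := (Subfunctor.range (famBase Y)).toFunctor

/-- a projection -/
noncomputable abbrev famPr (n : SimplexCategoryᵒᵖ) (k : Fin (n.unop.len + 1)) :
    (famNerve Y).obj n ⟶ (psh (C := C) (U := U)).obj (famObj Y) :=
  (psh (C := C) (U := U)).map ((famObj Y).powerπ (α := ToType n.unop) k)

lemma famPr_map {n m : SimplexCategoryᵒᵖ} (g : n ⟶ m) (k : Fin (m.unop.len + 1)) (V : Cᵒᵖ)
    (x : ((famNerve Y).obj n).obj V) :
    (famPr Y m k).app V (((famNerve Y).map g).app V x) = (famPr Y n (g.unop.toOrderHom k)).app V x := by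
  have e := congrArg (fun f => (psh (C := C) (U := U)).map f) (FormalCoproduct.mapPower_π (famObj Y) (α := ToType m.unop)
    (β := ToType n.unop) g.unop.toOrderHom.toFun k)
  simp only [CategoryTheory.Functor.map_comp] at e
  exact ConcreteCategory.congr_hom (NatTrans.congr_app e V) x

lemma famPr_base (n : SimplexCategoryᵒᵖ) (k : Fin (n.unop.len + 1)) (V : Cᵒᵖ)
    (x : ((famNerve Y).obj n).obj V) :
    (famBase Y).app V ((famPr Y n k).app V x) = x.2 ≫ (((famObj Y).power (ToType n.unop)).obj x.1).hom := by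
  show (x.2 ≫ (((famObj Y).powerπ (α := ToType n.unop) k).φ x.1).left) ≫ _ = _
  rw [Category.assoc]
  exact congrArg (x.2 ≫ ·) (Over.w _)

/-- the augmented nerve -/
noncomputable def famAug : SimplicialObject.Augmented (Cᵒᵖ ⥤ Type u) where
  left := famNerve Y
  right := famImg Y
  hom :=
    { app := fun n => famPr Y n 0 ≫ Subfunctor.toRange (famBase Y)
      naturality := fun n m g => by
        ext V x
        apply Subtype.ext
        show (famBase Y).app V ((famPr Y m 0).app V (((famNerve Y).map g).app V x)) =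
          (famBase Y).app V ((famPr Y n 0).app V x)
        rw [famPr_map, famPr_base, famPr_base] }

variable (V : Cᵒᵖ)

lemma fam_ext {n : SimplexCategoryᵒᵖ} {x y : ((famNerve Y).obj n).obj V}
    (h : ∀ k, (famPr Y n k).app V x = (famPr Y n k).app V y) : x = y := by
  obtain ⟨a, p⟩ := x
  obtain ⟨b, q⟩ := y
  obtain rfl : a = b := funext fun k => congrArg Sigma.fst (h k)
  have hk : ∀ k, p ≫ (Pi.π ((famObj Y).obj ∘ a) k).left = q ≫ (Pi.π ((famObj Y).obj ∘ a) k).left :=
    fun k => eq_of_heq (Sigma.ext_iff.1 (h k)).2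
  have hb : p ≫ (∏ᶜ ((famObj Y).obj ∘ a)).hom = q ≫ (∏ᶜ ((famObj Y).obj ∘ a)).hom := by
    rw [← Over.w (Pi.π ((famObj Y).obj ∘ a) 0), ← Category.assoc, ← Category.assoc, hk]
  have e : (Over.homMk p rfl : Over.mk (p ≫ (∏ᶜ ((famObj Y).obj ∘ a)).hom) ⟶ _) =
      Over.homMk q hb.symm := Pi.hom_ext _ _ fun k => Over.OverMorphism.ext (hk k)
  exact Sigma.ext rfl (heq_of_eq (congrArg CommaMorphism.left e))

lemma exists_fam (n : SimplexCategoryᵒᵖ) (b : V.unop ⟶ U)
    (t : Fin (n.unop.len + 1) → ((psh (C := C) (U := U)).obj (famObj Y)).obj V)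
    (h : ∀ k, (famBase Y).app V (t k) = b) :
    ∃ x : ((famNerve Y).obj n).obj V, ∀ k, (famPr Y n k).app V x = t k := by
  let G := (famObj Y).obj ∘ fun k : Fin (n.unop.len + 1) => (t k).1
  let m : ∀ k, Over.mk b ⟶ G k := fun k => Over.homMk (t k).2 (h k)
  let l : Over.mk b ⟶ ∏ᶜ G := Pi.lift m
  refine ⟨⟨fun k => (t k).1, l.left⟩, fun k => Sigma.ext rfl (heq_of_eq ?_)⟩
  show l.left ≫ (Pi.π G k).left = _
  rw [← Over.comp_left]
  exact congrArg CommaMorphism.left (Pi.lift_π m k)

/-- element with given projections -/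
noncomputable def mkFam (n : SimplexCategoryᵒᵖ) (b : V.unop ⟶ U)
    (t : Fin (n.unop.len + 1) → ((psh (C := C) (U := U)).obj (famObj Y)).obj V)
    (h : ∀ k, (famBase Y).app V (t k) = b) : ((famNerve Y).obj n).obj V :=
  (exists_fam Y V n b t h).choose

lemma famPr_mkFam (n : SimplexCategoryᵒᵖ) (b : V.unop ⟶ U)
    (t : Fin (n.unop.len + 1) → ((psh (C := C) (U := U)).obj (famObj Y)).obj V)
    (h : ∀ k, (famBase Y).app V (t k) = b) (k : Fin (n.unop.len + 1)) :
    (famPr Y n k).app V (mkFam Y V n b t h) = t k :=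
  (exists_fam Y V n b t h).choose_spec k

/-- common image of an element -/
noncomputable def famHead (n : SimplexCategoryᵒᵖ) (x : ((famNerve Y).obj n).obj V) :
    (famImg Y).obj V := ⟨(famBase Y).app V ((famPr Y n 0).app V x), ⟨_, rfl⟩⟩

/-- chosen section -/
noncomputable def famSec (y : (famImg Y).obj V) : ((psh (C := C) (U := U)).obj (famObj Y)).obj V :=
  Classical.choose y.2

lemma famSec_spec (y : (famImg Y).obj V) : (famBase Y).app V (famSec Y V y) = y.1 := Classical.choose_spec y.2

/-- add the section in front -/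
noncomputable def famCons (n : ℕ) (x : ((famNerve Y).obj (op ⦋n⦌)).obj V) :
    ((famNerve Y).obj (op ⦋n + 1⦌)).obj V :=
  mkFam Y V (op ⦋n + 1⦌) (famHead Y V _ x).1
    (Fin.cases (famSec Y V (famHead Y V _ x)) fun i : Fin (n + 1) => (famPr Y (op ⦋n⦌) i).app V x)
    (fun i => by
      cases i using Fin.cases with
      | zero => exact famSec_spec Y V _
      | succ i => exact (famPr_base Y (op ⦋n⦌) i V x).trans (famPr_base Y (op ⦋n⦌) 0 V x).symm)

lemma famPr_famCons_zero (n : ℕ) (x : ((famNerve Y).obj (op ⦋n⦌)).obj V) :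
    (famPr Y (op ⦋n + 1⦌) 0).app V (famCons Y V n x) = famSec Y V (famHead Y V _ x) := famPr_mkFam _ _ _ _ _ _ _

lemma famPr_famCons_succ (n : ℕ) (x : ((famNerve Y).obj (op ⦋n⦌)).obj V) (i : Fin (n + 1)) :
    (famPr Y (op ⦋n + 1⦌) i.succ).app V (famCons Y V n x) = (famPr Y (op ⦋n⦌) i).app V x :=
  (famPr_mkFam _ _ _ _ _ _ _).trans rfl

lemma famHead_map {n m : SimplexCategoryᵒᵖ} (g : n ⟶ m) (x : ((famNerve Y).obj n).obj V) :
    famHead Y V m (((famNerve Y).map g).app V x) = famHead Y V n x := by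
  apply Subtype.ext
  show (famBase Y).app V ((famPr Y m 0).app V _) = (famBase Y).app V ((famPr Y n 0).app V x)
  rw [famPr_map, famPr_base, famPr_base]

/-- the extra degeneracy -/
noncomputable def famExtra :
    SimplicialObject.Augmented.ExtraDegeneracy
      (((SimplicialObject.Augmented.whiskering _ _).obj ((evaluation Cᵒᵖ (Type u)).obj V)).obj (famAug Y)) where
  s' := ↾fun y => mkFam Y V (op ⦋0⦌) y.1 (fun _ => famSec Y V y) (fun _ => famSec_spec Y V y)
  s n := ↾famCons Y V n
  s'_comp_ε := by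
    ext y
    apply Subtype.ext
    show (famBase Y).app V ((famPr Y (op ⦋0⦌) 0).app V
      (mkFam Y V (op ⦋0⦌) y.1 (fun _ => famSec Y V y) (fun _ => famSec_spec Y V y))) = y.1
    rw [famPr_mkFam, famSec_spec]
  s₀_comp_δ₁ := by
    ext x
    show ((famNerve Y).map (SimplexCategory.δ 1).op).app V (famCons Y V 0 x) =
      mkFam Y V (op ⦋0⦌) (famHead Y V _ x).1 (fun _ => famSec Y V (famHead Y V _ x)) (fun _ => famSec_spec Y V _)
    refine fam_ext Y V fun i => ?_
    rw [famPr_map, famPr_mkFam]
    fin_cases i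
    exact famPr_famCons_zero Y V 0 x
  s_comp_δ₀ n := by
    ext x
    show ((famNerve Y).map (SimplexCategory.δ 0).op).app V (famCons Y V n x) = x
    refine fam_ext Y V fun i => ?_
    rw [famPr_map]
    exact famPr_famCons_succ Y V n x i
  s_comp_δ n i := by
    ext x
    show ((famNerve Y).map (SimplexCategory.δ i.succ).op).app V (famCons Y V (n + 1) x) =
      famCons Y V n (((famNerve Y).map (SimplexCategory.δ i).op).app V x)
    refine fam_ext Y V fun j => ?_
    rw [famPr_map]
    cases j using Fin.cases with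
    | zero =>
      rw [famPr_famCons_zero]
      refine (congrArg (fun k => (famPr Y (op ⦋n + 1 + 1⦌) k).app V (famCons Y V (n + 1) x))
        (Fin.succ_succAbove_zero i)).trans ((famPr_famCons_zero Y V _ x).trans ?_)
      rw [famHead_map]
    | succ j =>
      refine Eq.trans ?_ (famPr_famCons_succ Y V n _ j).symm
      rw [famPr_map]
      refine (congrArg (fun k => (famPr Y (op ⦋n + 1 + 1⦌) k).app V (famCons Y V (n + 1) x))
        (Fin.succ_succAbove_succ i j)).trans ?_
      exact famPr_famCons_succ Y V _ x _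
  s_comp_σ n i := by
    ext x
    show ((famNerve Y).map (SimplexCategory.σ i.succ).op).app V (famCons Y V n x) =
      famCons Y V (n + 1) (((famNerve Y).map (SimplexCategory.σ i).op).app V x)
    refine fam_ext Y V fun j => ?_
    rw [famPr_map]
    cases j using Fin.cases with
    | zero =>
      rw [famPr_famCons_zero]
      refine (congrArg (fun k => (famPr Y (op ⦋n + 1⦌) k).app V (famCons Y V n x))
        (show Fin.predAbove i.succ (0 : Fin (n + 1 + 1 + 1)) = 0 by simp)).trans
        ((famPr_famCons_zero Y V _ x).trans ?_)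
      rw [famHead_map]
    | succ j =>
      refine Eq.trans ?_ (famPr_famCons_succ Y V (n + 1) _ j).symm
      rw [famPr_map]
      refine (congrArg (fun k => (famPr Y (op ⦋n + 1⦌) k).app V (famCons Y V n x))
        (Fin.succ_predAbove_succ i j)).trans ?_
      exact famPr_famCons_succ Y V _ x _

variable (J : GrothendieckTopology C)

/-- the augmented simplicial free sheaf -/
noncomputable abbrev famFr : SimplicialObject.Augmented (Sheaf J AddCommGrpCat.{u}) :=
  ((SimplicialObject.Augmented.whiskering _ _).obj (frP J)).obj (famAug Y)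

/-- the free complex -/
noncomputable abbrev famCx : ChainComplex (Sheaf J AddCommGrpCat.{u}) ℕ :=
  (alternatingFaceMapComplex _).obj (famFr Y J).left

theorem quasiIso_fam : QuasiIso (AlternatingFaceMapComplex.ε.app (famFr Y J)) := by
  let P := ((SimplicialObject.Augmented.whiskering _ _).obj
      ((Functor.whiskeringRight Cᵒᵖ (Type u) AddCommGrpCat.{u}).obj AddCommGrpCat.free.{u})).obj (famAug Y)
  haveI : QuasiIso (AlternatingFaceMapComplex.ε.app P) := by
    rw [HomologicalComplex.quasiIso_iff_evaluation]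
    intro V
    rw [quasiIso_map_ε_iff]
    exact inferInstanceAs (QuasiIso ((famExtra Y V).map AddCommGrpCat.free.{u}).homotopyEquiv.hom)
  exact (quasiIso_map_ε_iff (presheafToSheaf J AddCommGrpCat.{u}) P).1 inferInstance

lemma isIso_famImg (hY : Sieve.ofArrows (fun i => (Y i).left) (fun i => (Y i).hom) ∈ J U) :
    IsIso ((frP J).map (Subfunctor.range (famBase Y)).ι) := by
  have hW : J.W (Subfunctor.range (famBase Y)).ι := by
    rw [J.W_iff_isLocallyBijective]
    refine ⟨Presheaf.isLocallyInjective_of_injective J _ (fun U => Subtype.val_injective),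
      ⟨fun {V} (g : V ⟶ U) => ?_⟩⟩
    refine J.superset_covering ?_ (J.pullback_stable g hY)
    rintro W k hk
    obtain ⟨i, a, ha⟩ := Sieve.ofArrows.exists hk
    exact ⟨⟨k ≫ g, ⟨⟨i, a⟩, ha.symm⟩⟩, rfl⟩
  exact isIso_frP_map _ fun F => hW _ (isSheaf_undP F)

section Values

variable {J} {F : Sheaf J AddCommGrpCat.{u}} (E : FormalCoproduct.{u} (Over U))

lemma pi_ext {T : Type u} {G : T → AddCommGrpCat.{u}} {x y : (∏ᶜ G : AddCommGrpCat.{u})}
    (h : ∀ t, Pi.π G t x = Pi.π G t y) : x = y :=
  Concrete.limit_ext _ _ _ fun ⟨t⟩ => h t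

lemma exists_pi {T : Type u} {G : T → AddCommGrpCat.{u}} (v : ∀ t, G t) :
    ∃ x : (∏ᶜ G : AddCommGrpCat.{u}), ∀ t, Pi.π G t x = v t := by
  let g : ∀ t, AddCommGrpCat.of (ULift.{u} ℤ) ⟶ G t := fun t =>
    AddCommGrpCat.ofHom ((zmultiplesHom (G t) (v t)).comp (AddEquiv.ulift.{0, u}).toAddMonoidHom)
  refine ⟨Pi.lift g (ULift.up 1), fun t => ?_⟩
  rw [← ConcreteCategory.comp_apply, Pi.lift_π]
  exact one_zsmul (v t)

/-- values of a map out of a free sheaf -/
noncomputable def famVal (φ : (frP J).obj ((psh (C := C) (U := U)).obj E) ⟶ F) (i : E.I) : F.obj.obj (op (E.obj i).left) :=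
  ((frAdj J).homEquiv _ _ φ).app (op (E.obj i).left) ⟨i, 𝟙 _⟩

lemma famVal_add (φ φ' : (frP J).obj ((psh (C := C) (U := U)).obj E) ⟶ F) (i : E.I) :
    famVal E (φ + φ') i = famVal E φ i + famVal E φ' i := by
  simp only [famVal, Adjunction.homEquiv_unit]
  rfl

/-- the values as an element of the product -/
noncomputable def famElt :
    ((frP J).obj ((psh (C := C) (U := U)).obj E) ⟶ F) →+
      ((FormalCoproduct.evalOp.{u} (Over U) AddCommGrpCat.{u}).obj ((Over.forget U).op ⋙ F.obj)).obj (op E) :=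
  AddMonoidHom.mk' (fun φ => (exists_pi (famVal E φ)).choose) fun φ φ' => pi_ext fun i => by
    rw [_root_.map_add]
    rw [(exists_pi (famVal E (φ + φ'))).choose_spec, (exists_pi (famVal E φ)).choose_spec,
      (exists_pi (famVal E φ')).choose_spec, famVal_add]

lemma π_famElt (φ : (frP J).obj ((psh (C := C) (U := U)).obj E) ⟶ F) (i : E.I) :
    Pi.π (fun i => ((Over.forget U).op ⋙ F.obj).obj (op (E.obj i))) i (famElt E φ) = famVal E φ i :=
  (exists_pi (famVal E φ)).choose_spec i

lemma bijective_famElt : Function.Bijective (famElt (F := F) E) := by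
  constructor
  · intro φ φ' h
    apply ((frAdj J).homEquiv _ _).injective
    ext V ⟨i, a⟩
    have hi := congrArg (Pi.π (fun i => ((Over.forget U).op ⋙ F.obj).obj (op (E.obj i))) i) h
    rw [π_famElt, π_famElt] at hi
    have e : (⟨i, a⟩ : ((psh (C := C) (U := U)).obj E).obj V) = ((psh (C := C) (U := U)).obj E).map a.op ⟨i, 𝟙 _⟩ :=
      Sigma.ext rfl (heq_of_eq (Category.comp_id a).symm)
    rw [e]
    exact (NatTrans.naturality_apply ((frAdj J).homEquiv _ _ φ) a.op _).trans
      ((congrArg (((undP J).obj F).map a.op) hi).trans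
        (NatTrans.naturality_apply ((frAdj J).homEquiv _ _ φ') a.op _).symm)
  · intro x
    let g : (psh (C := C) (U := U)).obj E ⟶ (undP J).obj F :=
      { app := fun V => ↾fun y => F.obj.map y.2.op
          (Pi.π (fun i => ((Over.forget U).op ⋙ F.obj).obj (op (E.obj i))) y.1 x)
        naturality := fun V W k => by
          ext y
          show F.obj.map (k.unop ≫ y.2).op _ = F.obj.map k (F.obj.map y.2.op _)
          rw [op_comp, F.obj.map_comp, ConcreteCategory.comp_apply]
          rfl }
    refine ⟨((frAdj J).homEquiv _ _).symm g, pi_ext fun i => ?_⟩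
    rw [π_famElt, famVal, Equiv.apply_symm_apply]
    show F.obj.map (𝟙 _).op _ = _
    rw [op_id, F.obj.map_id]
    rfl

lemma famElt_natural {E' : FormalCoproduct.{u} (Over U)} (f : E ⟶ E') (φ : (frP J).obj ((psh (C := C) (U := U)).obj E') ⟶ F) :
    famElt E ((frP J).map ((psh (C := C) (U := U)).map f) ≫ φ) =
      ((FormalCoproduct.evalOp.{u} (Over U) AddCommGrpCat.{u}).obj ((Over.forget U).op ⋙ F.obj)).map f.op
        (famElt E' φ) := by
  refine pi_ext fun i => ?_
  rw [π_famElt]
  dsimp [FormalCoproduct.evalOp]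
  rw [← ConcreteCategory.comp_apply, Pi.lift_π, ConcreteCategory.comp_apply]
  erw [π_famElt]
  unfold famVal
  erw [(frAdj J).homEquiv_naturality_left]
  show ((frAdj J).homEquiv _ _ φ).app _ (((psh (C := C) (U := U)).map f).app _ ⟨i, 𝟙 _⟩) =
    F.obj.map (f.φ i).left.op (((frAdj J).homEquiv _ _ φ).app _ ⟨f.f i, 𝟙 _⟩)
  refine Eq.trans (congrArg _ ?_) (NatTrans.naturality_apply ((frAdj J).homEquiv _ _ φ) (f.φ i).left.op _)
  exact Sigma.ext rfl (heq_of_eq ((Category.id_comp _).trans (Category.comp_id _).symm))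

end Values

variable {J} (F : Sheaf J AddCommGrpCat.{u})

lemma famElt_d (q : ℕ) (x : (famCx Y J).X q ⟶ F) :
    ((cechComplexFunctor Y).obj ((Over.forget U).op ⋙ F.obj)).d q (q + 1) (famElt _ x) =
      famElt ((famObj Y).power (ToType (⦋q + 1⦌ : SimplexCategory))) ((famCx Y J).d (q + 1) q ≫ x) := by
  rw [alternatingFaceMapComplex_obj_d]
  simp only [AlternatingFaceMapComplex.objD, Preadditive.sum_comp, Preadditive.zsmul_comp]
  erw [_root_.map_sum]
  simp only [cechComplexFunctor, FormalCoproduct.cochainComplexFunctor, Functor.comp_obj,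
    alternatingCofaceMapComplex, AlternatingCofaceMapComplex.obj, CochainComplex.of_d,
    AlternatingCofaceMapComplex.objD]
  erw [sum_apply]
  refine Finset.sum_congr rfl fun i _ => ?_
  erw [_root_.map_zsmul]
  exact congrArg (fun z => (-1 : ℤ) ^ (i : ℕ) • z)
    (famElt_natural _ ((famObj Y).cech.map (SimplexCategory.δ i).op) x).symm

/-- Čech cohomology as exactness -/
lemma isZero_cechH_iff (q : ℕ) : IsZero (CohCx.cechH F.obj Y (q + 1)) ↔ HomExactAt (famCx Y J) F q := by
  rw [← HomologicalComplex.exactAt_iff_isZero_homology,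
    HomologicalComplex.exactAt_iff' _ q (q + 1) (q + 2) (by simp) (by simp), ShortComplex.ab_exact_iff]
  constructor
  · intro h x hx
    obtain ⟨y, hy⟩ := h (famElt _ x) ((famElt_d Y F (q + 1) x).trans ((congrArg _ hx).trans (_root_.map_zero _)))
    obtain ⟨y', rfl⟩ := (bijective_famElt _).2 y
    exact ⟨y', (bijective_famElt _).1 ((famElt_d Y F q y').symm.trans hy)⟩
  · intro h x hx
    obtain ⟨x', rfl⟩ := (bijective_famElt _).2 x
    obtain ⟨y, rfl⟩ := h x' ((bijective_famElt _).1
      (((famElt_d Y F (q + 1) x').symm.trans hx).trans (_root_.map_zero _).symm))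
    exact ⟨famElt _ y, famElt_d Y F q y⟩

lemma homExactAt_fam_injective (I : Sheaf J AddCommGrpCat.{u}) [Injective I] (q : ℕ) :
    HomExactAt (famCx Y J) I q := by
  haveI := quasiIso_fam Y J
  exact homExactAt_injective (AlternatingFaceMapComplex.ε.app (famFr Y J)) I q

/-- maps out of a free sheaf of a family lift along surjections on its members -/
lemma exists_lift_psh (E : FormalCoproduct.{u} (Over U)) {G H : Sheaf J AddCommGrpCat.{u}} (π : G ⟶ H)
    (hs : ∀ i, Function.Surjective (π.hom.app (op (E.obj i).left))) (g : (frP J).obj ((psh (C := C) (U := U)).obj E) ⟶ H) :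
    ∃ g' : (frP J).obj ((psh (C := C) (U := U)).obj E) ⟶ G, g' ≫ π = g := by
  choose t ht using fun i => hs i (famVal E g i)
  obtain ⟨x, hx⟩ := exists_pi (G := fun i => ((Over.forget U).op ⋙ G.obj).obj (op (E.obj i))) t
  obtain ⟨g', hg'⟩ := (bijective_famElt E).2 x
  refine ⟨g', (bijective_famElt E).1 (pi_ext fun i => ?_)⟩
  rw [π_famElt, π_famElt, ← ht i]
  rw [famVal, (frAdj J).homEquiv_naturality_right]
  refine congrArg (π.hom.app _) ?_
  exact (π_famElt E g' i).symm.trans ((congrArg _ hg').trans (hx i))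

/-- vanishing first Čech cohomology gives lifting of sections which lift on the family -/
theorem exists_lift_of_family {S : ShortComplex (Sheaf J AddCommGrpCat.{u})} (hS : S.ShortExact)
    (hY : Sieve.ofArrows (fun i => (Y i).left) (fun i => (Y i).hom) ∈ J U) (h : HomExactAt (famCx Y J) S.X₁ 0)
    (s : S.X₃.obj.obj (op U))
    (hl : ∀ i, ∃ t : S.X₂.obj.obj (op (Y i).left), S.g.hom.app _ t = S.X₃.obj.map (Y i).hom.op s) :
    ∃ t, S.g.hom.app (op U) t = s := by
  haveI := quasiIso_fam Y J
  haveI := isIso_famImg Y J hY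
  let ε := AlternatingFaceMapComplex.ε.app (famFr Y J)
  let j := (frP J).map (Subfunctor.range (famBase Y)).ι
  let φ : (frP J).obj (famImg Y) ⟶ S.X₃ := j ≫ (secEquiv U S.X₃).symm s
  choose t ht using hl
  obtain ⟨x, hx⟩ := exists_pi (G := fun a : ((famObj Y).power (ToType (⦋0⦌ : SimplexCategory))).I =>
      ((Over.forget U).op ⋙ S.X₂.obj).obj (op (((famObj Y).power (ToType (⦋0⦌ : SimplexCategory))).obj a)))
    fun a => S.X₂.obj.map (((famObj Y).powerπ (α := ToType (⦋0⦌ : SimplexCategory)) 0).φ a).left.op (t _)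
  obtain ⟨ψ₀, hψ⟩ := (bijective_famElt _).2 x
  have h0 : ψ₀ ≫ S.g = aug ε ≫ φ := by
    rw [show aug ε = (famFr Y J).hom.app (op ⦋0⦌) from AlternatingFaceMapComplex.ε_app_f_zero _]
    apply (bijective_famElt _).1
    refine pi_ext fun a => ?_
    erw [π_famElt, π_famElt]
    rw [famVal, famVal, (frAdj J).homEquiv_naturality_right]
    erw [(frAdj J).homEquiv_naturality_left, (frAdj J).homEquiv_naturality_left]
    have e : ((frAdj J).homEquiv (yoneda.obj U) S.X₃) ((secEquiv U S.X₃).symm s) = yonedaEquiv.symm s := by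
      apply yonedaEquiv.injective
      rw [Equiv.apply_symm_apply]
      exact (secEquiv U S.X₃).apply_symm_apply s
    refine (congrArg (S.g.hom.app _) ((π_famElt _ ψ₀ a).symm.trans ((congrArg _ hψ).trans (hx a)))).trans ?_
    refine (NatTrans.naturality_apply S.g.hom _ _).trans ((congrArg _ (ht _)).trans ?_)
    refine Eq.trans ?_ (ConcreteCategory.congr_hom (NatTrans.congr_app e _) _).symm
    refine (Functor.map_comp_apply S.X₃.obj _ _ s).symm.trans ?_
    show S.X₃.obj.map _ s = S.X₃.obj.map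
      ((𝟙 _ ≫ (((famObj Y).powerπ (α := ToType (⦋0⦌ : SimplexCategory)) 0).φ a).left) ≫ (Y _).hom).op s
    rw [Category.id_comp]
    rfl
  obtain ⟨ψ, hψ'⟩ := exists_lift_of_resolution ε hS h φ ψ₀ h0
  refine ⟨secEquiv U S.X₂ (inv j ≫ ψ), ?_⟩
  rw [← secEquiv_comp, Category.assoc, hψ']
  simp [φ]

omit Y

/-- sections lift along epimorphisms when covering families have no first Čech cohomology -/
theorem surjective_of_cech {S : ShortComplex (Sheaf J AddCommGrpCat.{u})} (hS : S.ShortExact)
    (h : ∀ T ∈ J U, ∃ (ι : Type u) (Y : ι → Over U), (∀ i, T.arrows (Y i).hom) ∧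
      Sieve.ofArrows (fun i => (Y i).left) (fun i => (Y i).hom) ∈ J U ∧ HomExactAt (famCx Y J) S.X₁ 0) :
    Function.Surjective (S.g.hom.app (op U)) := fun s => by
  haveI := hS.epi_g
  haveI hls : Sheaf.IsLocallySurjective S.g := (Sheaf.isLocallySurjective_iff_epi' _ S.g).2 inferInstance
  obtain ⟨ι, Y, hT, hY, h0⟩ := h _ (Presheaf.imageSieve_mem J S.g.hom (U := op U) s)
  exact exists_lift_of_family Y hS hY h0 s hT

/-- Cartan's criterion -/
theorem subsingleton_HU_of_cech (B : Set C) (Cov : ∀ (U : C) (ι : Type u), (ι → Over U) → Prop)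
    (h1 : ∀ (U : C) (ι : Type u) (Y : ι → Over U), Cov U ι Y → U ∈ B ∧
      Sieve.ofArrows (fun i => (Y i).left) (fun i => (Y i).hom) ∈ J U ∧
      ∀ (p : ℕ) (a : Fin (p + 1) → ι), (∏ᶜ fun k => Y (a k)).left ∈ B)
    (h2 : ∀ U ∈ B, ∀ T ∈ J U, ∃ (ι : Type u) (Y : ι → Over U), Cov U ι Y ∧ ∀ i, T.arrows (Y i).hom) :
    ∀ (p : ℕ) (F : Sheaf J AddCommGrpCat.{u}),
      (∀ (U : C) (ι : Type u) (Y : ι → Over U), Cov U ι Y → ∀ p : ℕ, HomExactAt (famCx Y J) F p) →
      ∀ U ∈ B, Subsingleton (CohSite.HU F (p + 1) U)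
  | p, F, h3, U, hU => by
    obtain ⟨I, Q, i, π, w, hI, hS⟩ := exists_inj_seq F
    have hs : ∀ V ∈ B, Function.Surjective (π.hom.app (op V)) := fun V hV =>
      surjective_of_cech hS fun T hT => by
        obtain ⟨ι', Y', hY', hT'⟩ := h2 V hV T hT
        exact ⟨ι', Y', hT', (h1 _ _ _ hY').2.1, h3 _ _ _ hY' 0⟩
    cases p with
    | zero => exact subsingleton_HU_one U hS (hs U hU) (subsingleton_HU_of_injective U I 0)
    | succ p =>
      have hQ : ∀ (U : C) (ι : Type u) (Y : ι → Over U), Cov U ι Y → ∀ q : ℕ, HomExactAt (famCx Y J) Q q :=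
        fun V ι' Y' hY' q => homExactAt_of_shortExact hS q (h3 _ _ _ hY' (q + 1))
          (homExactAt_fam_injective Y' I q)
          (fun g => exists_lift_psh _ π (fun a => hs _ ((h1 _ _ _ hY').2.2 (q + 1) a)) g)
      exact subsingleton_HU₁ U hS (p + 1) (subsingleton_HU_of_cech B Cov h1 h2 p Q hQ U hU)
        (subsingleton_HU_of_injective U I (p + 1))

end Groth.Agent.SiteCoh
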