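import Mathlib.CategoryTheory.ConnectedComponents
import Mathlib.CategoryTheory.Filtered.Basic
import Mathlib.CategoryTheory.Functor.KanExtension.Adjunction
import Mathlib.CategoryTheory.Limits.Preserves.Shapes.Pullbacks
import Mathlib.CategoryTheory.Limits.Shapes.Equalizers
import Mathlib.Algebra.Category.Grp.AB
import Mathlib.Algebra.Category.Grp.Abelian
import Mathlib.Algebra.Category.Grp.Colimits
import Mathlib.Algebra.Category.Grp.Zero
import Mathlib.Algebra.Category.Grp.EpiMono

/-! Colimits over componentwise filtered categories, left Kan extensions preserving monomorphisms. -/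

universe u

open CategoryTheory CategoryTheory.Functor CategoryTheory.Limits Opposite

set_option linter.style.haveILetI false
set_option backward.isDefEq.respectTransparency false
set_option backward.isDefEq.respectTransparency.types false

namespace Groth.Agent.SiteCoh

variable {I : Type u} [SmallCategory I]

/-- components of a category with span completion and weak coequalizers are filtered -/
lemma isFiltered_component (h₁ : ∀ {i j k : I} (_ : i ⟶ j) (_ : i ⟶ k), ∃ l, Nonempty (j ⟶ l) ∧ Nonempty (k ⟶ l))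
    (h₂ : ∀ {i j : I} (f g : i ⟶ j), ∃ (k : I) (h : j ⟶ k), f ≫ h = g ≫ h) (c : ConnectedComponents I) :
    IsFiltered c.Component := by
  have key : ∀ {a b : I}, Zigzag a b → ∃ l, Nonempty (a ⟶ l) ∧ Nonempty (b ⟶ l) := by
    intro a b h
    induction h with
    | refl => exact ⟨a, ⟨𝟙 a⟩, ⟨𝟙 a⟩⟩
    | tail _ hz ih =>
      obtain ⟨l, ⟨p⟩, ⟨q⟩⟩ := ih
      rcases hz with ⟨⟨f⟩⟩ | ⟨⟨f⟩⟩
      · obtain ⟨m, ⟨r⟩, ⟨s⟩⟩ := h₁ q f
        exact ⟨m, ⟨p ≫ r⟩, ⟨s⟩⟩
      · exact ⟨l, ⟨p⟩, ⟨f ≫ q⟩⟩
  refine { toIsFilteredOrEmpty := ⟨fun x y => ?_, fun {x y} f g => ?_⟩, nonempty := inferInstance }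
  · obtain ⟨l, ⟨p⟩, ⟨q⟩⟩ := key (Quotient.exact' (x.2.trans y.2.symm))
    exact ⟨⟨l, (Quotient.sound' (Zigzag.of_inv p)).trans x.2⟩, ObjectProperty.homMk p, ObjectProperty.homMk q,
      trivial⟩
  · obtain ⟨k, h, e⟩ := h₂ f.hom g.hom
    exact ⟨⟨k, (Quotient.sound' (Zigzag.of_inv h)).trans y.2⟩, ObjectProperty.homMk h,
      ObjectProperty.hom_ext _ e⟩

variable {F G : I ⥤ AddCommGrpCat.{u}}

/-- the coproduct of the colimits over the components -/
noncomputable abbrev compColim (F : I ⥤ AddCommGrpCat.{u}) : AddCommGrpCat.{u} :=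
  ∐ fun c : ConnectedComponents I => colimit (c.ι ⋙ F)

noncomputable def toCompColimApp (F : I ⥤ AddCommGrpCat.{u}) (i : I) : F.obj i ⟶ compColim F :=
  colimit.ι ((ConnectedComponents.mk i).ι ⋙ F) ⟨i, rfl⟩ ≫ Sigma.ι (fun c : ConnectedComponents I => colimit (c.ι ⋙ F)) (ConnectedComponents.mk i)

lemma toCompColimApp_eq (F : I ⥤ AddCommGrpCat.{u}) (c : ConnectedComponents I) (i : c.Component) :
    toCompColimApp F i.obj = colimit.ι (c.ι ⋙ F) i ≫ Sigma.ι (fun c : ConnectedComponents I => colimit (c.ι ⋙ F)) c := by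
  obtain ⟨i, rfl⟩ := i
  rfl

/-- the decomposition cocone -/
noncomputable def compCocone (F : I ⥤ AddCommGrpCat.{u}) : Cocone F where
  pt := compColim F
  ι :=
    { app := toCompColimApp F
      naturality := fun i j f => by
        let i' : (ConnectedComponents.mk j).Component := ⟨i, Quotient.sound' (Zigzag.of_hom f)⟩
        let j' : (ConnectedComponents.mk j).Component := ⟨j, rfl⟩
        show F.map f ≫ toCompColimApp F j'.obj = toCompColimApp F i'.obj ≫ 𝟙 _
        rw [toCompColimApp_eq, toCompColimApp_eq, Category.comp_id, ← colimit.w _ (ObjectProperty.homMk f : i' ⟶ j'),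
          Category.assoc]
        rfl }

/-- colimits over componentwise filtered categories preserve monomorphisms -/
lemma mono_isColimit_map (h₁ : ∀ {i j k : I} (_ : i ⟶ j) (_ : i ⟶ k), ∃ l, Nonempty (j ⟶ l) ∧ Nonempty (k ⟶ l))
    (h₂ : ∀ {i j : I} (f g : i ⟶ j), ∃ (k : I) (h : j ⟶ k), f ≫ h = g ≫ h)
    {s : Cocone F} (hs : IsColimit s) {t : Cocone G} (ht : IsColimit t) (α : F ⟶ G) [∀ i, Mono (α.app i)]
    (m : s.pt ⟶ t.pt) (hm : ∀ i, s.ι.app i ≫ m = α.app i ≫ t.ι.app i) : Mono m := by
  have : ∀ c : ConnectedComponents I, Mono (colimMap (whiskerLeft c.ι α)) := fun c => by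
    haveI := isFiltered_component h₁ h₂ c
    haveI : Mono (whiskerLeft c.ι α) := by
      haveI : ∀ x, Mono ((whiskerLeft c.ι α).app x) := fun x => inferInstanceAs (Mono (α.app x.obj))
      exact NatTrans.mono_of_mono_app _
    exact inferInstanceAs (Mono (colim.map (whiskerLeft c.ι α)))
  let μ : compColim F ⟶ compColim G := Limits.Sigma.map fun c => colimMap (whiskerLeft c.ι α)
  haveI : Mono μ := by
    haveI : Mono (Discrete.natTrans fun x : Discrete (ConnectedComponents I) =>
        colimMap (whiskerLeft x.as.ι α) :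
        Discrete.functor (fun c => colimit (c.ι ⋙ F)) ⟶ Discrete.functor (fun c => colimit (c.ι ⋙ G))) := by
      haveI : ∀ x, Mono ((Discrete.natTrans fun x : Discrete (ConnectedComponents I) =>
          colimMap (whiskerLeft x.as.ι α) :
          Discrete.functor (fun c => colimit (c.ι ⋙ F)) ⟶ Discrete.functor (fun c => colimit (c.ι ⋙ G))).app x) :=
        fun x => this x.as
      exact NatTrans.mono_of_mono_app _
    exact inferInstanceAs (Mono (colim.map _))
  let back : compColim F ⟶ s.pt := Sigma.desc fun c => colimit.desc _ (s.whisker c.ι)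
  have e₁ : hs.desc (compCocone F) ≫ back = 𝟙 _ := hs.hom_ext fun i => by
    rw [hs.fac_assoc]
    simp [compCocone, toCompColimApp, back]
  haveI : Mono (hs.desc (compCocone F)) := mono_of_mono_fac e₁
  have e₂ : m ≫ ht.desc (compCocone G) = hs.desc (compCocone F) ≫ μ := hs.hom_ext fun i => by
    rw [← Category.assoc, hm, Category.assoc, ht.fac, hs.fac_assoc]
    simp [compCocone, toCompColimApp, μ]
  haveI : Mono (m ≫ ht.desc (compCocone G)) := e₂ ▸ mono_comp _ _
  exact mono_of_mono m (ht.desc (compCocone G))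

variable {C D : Type u} [SmallCategory C] [SmallCategory D] (u : C ⥤ D)

/-- left Kan extension preserves monomorphisms when the indexing categories are componentwise filtered -/
lemma preservesMonomorphisms_lan_of
    (h₁ : ∀ (V : Dᵒᵖ) {i j k : CostructuredArrow u.op V} (_ : i ⟶ j) (_ : i ⟶ k),
      ∃ l, Nonempty (j ⟶ l) ∧ Nonempty (k ⟶ l))
    (h₂ : ∀ (V : Dᵒᵖ) {i j : CostructuredArrow u.op V} (f g : i ⟶ j),
      ∃ (k : CostructuredArrow u.op V) (h : j ⟶ k), f ≫ h = g ≫ h) :
    (u.op.lan : (Cᵒᵖ ⥤ AddCommGrpCat.{u}) ⥤ _).PreservesMonomorphisms where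
  preserves {F G} φ _ := by
    haveI : ∀ V, Mono ((u.op.lan.map φ).app V) := fun V => by
      haveI : ∀ g : CostructuredArrow u.op V, Mono ((whiskerLeft (CostructuredArrow.proj u.op V) φ).app g) :=
        fun g => inferInstanceAs (Mono (φ.app g.left))
      refine mono_isColimit_map (I := CostructuredArrow u.op V) (h₁ V) (h₂ V)
        (isPointwiseLeftKanExtensionOfIsLeftKanExtension (u.op.lan.obj F) (u.op.lanUnit.app F) V)
        (isPointwiseLeftKanExtensionOfIsLeftKanExtension (u.op.lan.obj G) (u.op.lanUnit.app G) V)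
        (whiskerLeft (CostructuredArrow.proj u.op V) φ) _ (fun g => ?_)
      have h := NatTrans.congr_app (u.op.lanUnit.naturality φ) g.left
      show ((u.op.lanUnit.app F).app g.left ≫ (u.op.lan.obj F).map g.hom) ≫ (u.op.lan.map φ).app V =
        φ.app g.left ≫ (u.op.lanUnit.app G).app g.left ≫ (u.op.lan.obj G).map g.hom
      erw [Category.assoc, NatTrans.naturality, ← Category.assoc, ← Category.assoc]
      exact congrArg (· ≫ (u.op.lan.obj G).map g.hom) h.symm
    exact NatTrans.mono_of_mono_app _

variable [HasPullbacks C] [HasEqualizers C]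
  [PreservesLimitsOfShape WalkingCospan u] [PreservesLimitsOfShape WalkingParallelPair u]

/-- left Kan extension preserves monomorphisms for functors preserving connected finite limits -/
lemma preservesMonomorphisms_lan : (u.op.lan : (Cᵒᵖ ⥤ AddCommGrpCat.{u}) ⥤ _).PreservesMonomorphisms := by
  refine preservesMonomorphisms_lan_of u (fun V => ?_) (fun V => ?_)
  · intro i j k p q
    haveI := hasPullback_of_preservesPullback u p.left.unop q.left.unop
    refine ⟨CostructuredArrow.mk (Y := op (pullback p.left.unop q.left.unop))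
      ((PreservesPullback.iso u p.left.unop q.left.unop).inv.op ≫
        (pullback.lift j.hom.unop k.hom.unop ?_).op), ⟨CostructuredArrow.homMk (pullback.fst _ _).op ?_⟩,
      ⟨CostructuredArrow.homMk (pullback.snd _ _).op ?_⟩⟩
    · exact Quiver.Hom.op_inj ((CostructuredArrow.w p).trans (CostructuredArrow.w q).symm)
    · apply Quiver.Hom.unop_inj
      dsimp
      rw [Category.assoc, PreservesPullback.iso_inv_fst, pullback.lift_fst]
    · apply Quiver.Hom.unop_inj
      dsimp
      rw [Category.assoc, PreservesPullback.iso_inv_snd, pullback.lift_snd]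
  · intro i j p q
    have e : j.hom.unop ≫ u.map p.left.unop = j.hom.unop ≫ u.map q.left.unop :=
      Quiver.Hom.op_inj ((CostructuredArrow.w p).trans (CostructuredArrow.w q).symm)
    have hl := isLimitForkMapOfIsLimit u (equalizer.condition p.left.unop q.left.unop)
      (equalizerIsEqualizer p.left.unop q.left.unop)
    obtain ⟨r, hr⟩ := Fork.IsLimit.lift' hl j.hom.unop e
    refine ⟨CostructuredArrow.mk (Y := op (equalizer p.left.unop q.left.unop)) r.op,
      CostructuredArrow.homMk (equalizer.ι _ _).op (Quiver.Hom.unop_inj (by simpa using hr)), ?_⟩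
    ext
    exact Quiver.Hom.unop_inj (equalizer.condition _ _)

end Groth.Agent.SiteCoh
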