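import Groth.Agent.Lib.SiteCoh.LanMono
import Groth.Agent.Lib.SiteCoh.Free
import Groth.Agent.Lib.SiteCoh.ExtAdj
import Mathlib.CategoryTheory.Sites.Over
import Mathlib.CategoryTheory.Sites.Pullback
import Mathlib.CategoryTheory.Sites.CoverLifting
import Mathlib.Algebra.Homology.ShortComplex.ExactFunctor
import Mathlib.CategoryTheory.Adjunction.Additive

/-! Restriction of abelian sheaves to the site over an object. -/

universe u

open CategoryTheory CategoryTheory.Functor CategoryTheory.Limits Opposite Abelian

set_option linter.style.haveILetI false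
set_option backward.isDefEq.respectTransparency false
set_option backward.isDefEq.respectTransparency.types false

namespace Groth.Agent.SiteCoh

variable {C : Type u} [SmallCategory C] (J : GrothendieckTopology C) (X : C)

lemma preservesMonomorphisms_lan_over :
    ((Over.forget X).op.lan : ((Over X)ᵒᵖ ⥤ AddCommGrpCat.{u}) ⥤ _).PreservesMonomorphisms := by
  let base : ∀ {V : Cᵒᵖ} (_ : CostructuredArrow (Over.forget X).op V), V.unop ⟶ X :=
    fun i => i.hom.unop ≫ i.left.unop.hom
  have hbase : ∀ {V : Cᵒᵖ} {i j : CostructuredArrow (Over.forget X).op V} (_ : i ⟶ j), base j = base i := by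
    intro V i j p
    have h : j.hom.unop ≫ p.left.unop.left = i.hom.unop := congrArg Quiver.Hom.unop (CostructuredArrow.w p)
    show j.hom.unop ≫ j.left.unop.hom = i.hom.unop ≫ i.left.unop.hom
    rw [← h, Category.assoc, Over.w p.left.unop]
  let can : ∀ {V : Cᵒᵖ} (_ : V.unop ⟶ X), CostructuredArrow (Over.forget X).op V :=
    fun {V} b => CostructuredArrow.mk (Y := op (Over.mk b)) (S := (Over.forget X).op) (𝟙 V)
  have hto : ∀ {V : Cᵒᵖ} (i : CostructuredArrow (Over.forget X).op V) (b : V.unop ⟶ X), base i = b →
      Nonempty (i ⟶ can b) := fun {V} i b hb =>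
    ⟨CostructuredArrow.homMk (Over.homMk i.hom.unop hb : Over.mk b ⟶ i.left.unop).op
      (Category.comp_id _)⟩
  have huniq : ∀ {V : Cᵒᵖ} {i : CostructuredArrow (Over.forget X).op V} {b : V.unop ⟶ X} (f g : i ⟶ can b),
      f = g := fun {V i b} f g => CostructuredArrow.hom_ext _ _ (Quiver.Hom.unop_inj (Over.OverMorphism.ext
    (Quiver.Hom.op_inj (((Category.comp_id ((Over.forget X).op.map f.left)).symm.trans
      (CostructuredArrow.w f)).trans ((CostructuredArrow.w g).symm.trans (Category.comp_id _))))))
  refine preservesMonomorphisms_lan_of _ (fun V {i j k} p q => ?_) (fun V {i j} f g => ?_)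
  · exact ⟨can (base i), hto j _ (hbase p), hto k _ (hbase q)⟩
  · obtain ⟨h⟩ := hto j _ (hbase f)
    exact ⟨_, h, huniq _ _⟩

/-- extension by zero is exact -/
lemma preservesFiniteLimits_over_pullback :
    PreservesFiniteLimits ((Over.forget X).sheafPullback AddCommGrpCat.{u} (J.over X) J) := by
  let L : ((Over X)ᵒᵖ ⥤ AddCommGrpCat.{u}) ⥤ (Cᵒᵖ ⥤ AddCommGrpCat.{u}) := (Over.forget X).op.lan
  haveI : L.PreservesMonomorphisms := preservesMonomorphisms_lan_over X
  haveI : L.IsLeftAdjoint := ⟨_, ⟨(Over.forget X).op.lanAdjunction AddCommGrpCat.{u}⟩⟩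
  haveI : L.Additive := ((Over.forget X).op.lanAdjunction AddCommGrpCat.{u}).left_adjoint_additive
  haveI : PreservesFiniteLimits L := by
    rw [Functor.preservesFiniteLimits_iff_forall_exact_map_and_mono]
    intro S hS
    haveI := hS.mono_f
    exact ⟨hS.exact.map_of_epi_of_preservesCokernel L hS.epi_g inferInstance, inferInstance⟩
  haveI : PreservesFiniteLimits (L ⋙ presheafToSheaf J AddCommGrpCat.{u}) := comp_preservesFiniteLimits _ _
  haveI : PreservesFiniteLimits
      (Functor.sheafPullbackConstruction.sheafPullback (Over.forget X) AddCommGrpCat.{u} (J.over X) J) :=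
    comp_preservesFiniteLimits (sheafToPresheaf (J.over X) AddCommGrpCat.{u}) (L ⋙ presheafToSheaf J AddCommGrpCat.{u})
  exact preservesFiniteLimits_of_natIso
    (Functor.sheafPullbackConstruction.sheafPullbackIso (Over.forget X) AddCommGrpCat.{u} (J.over X) J).symm

/-- restriction to the site over an object -/
noncomputable abbrev restrict : Sheaf J AddCommGrpCat.{u} ⥤ Sheaf (J.over X) AddCommGrpCat.{u} :=
  (Over.forget X).sheafPushforwardContinuous AddCommGrpCat.{u} (J.over X) J

/-- restriction and extension by zero -/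
noncomputable abbrev restrictAdj :
    (Over.forget X).sheafPullback AddCommGrpCat.{u} (J.over X) J ⊣ restrict J X :=
  (Over.forget X).sheafAdjunctionContinuous AddCommGrpCat.{u} (J.over X) J

instance preservesFiniteLimits_restrict : PreservesFiniteLimits (restrict J X) := by
  haveI : IsRightAdjoint (restrict J X) := ⟨_, ⟨restrictAdj J X⟩⟩
  infer_instance

instance preservesFiniteColimits_restrict : PreservesFiniteColimits (restrict J X) := by
  haveI : IsLeftAdjoint (restrict J X) :=
    ⟨_, ⟨(Over.forget X).sheafAdjunctionCocontinuous AddCommGrpCat.{u} (J.over X) J⟩⟩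
  infer_instance

instance additive_restrict : (restrict J X).Additive :=
  Functor.additive_of_preserves_binary_products _

lemma injective_restrict (I : Sheaf J AddCommGrpCat.{u}) (hI : Injective I) : Injective ((restrict J X).obj I) :=
  haveI := preservesFiniteLimits_over_pullback J X
  Injective.injective_of_adjoint (restrictAdj J X) I

/-- cohomology of a restriction -/
noncomputable def restrictExtEquiv (P : Sheaf (J.over X) AddCommGrpCat.{u}) (F : Sheaf J AddCommGrpCat.{u}) (n : ℕ) :
    Ext (((Over.forget X).sheafPullback AddCommGrpCat.{u} (J.over X) J).obj P) F n ≃+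
      Ext P ((restrict J X).obj F) n :=
  extAdjEquiv (restrictAdj J X) (injective_restrict J X) P F n

theorem isTotallyAcyclic_restrict {F : Sheaf J AddCommGrpCat.{u}} (hF : CohCx.IsTotallyAcyclic F) :
    CohCx.IsTotallyAcyclic ((restrict J X).obj F) := fun K p => by
  have h : Subsingleton (Ext (((Over.forget X).sheafPullback AddCommGrpCat.{u} (J.over X) J).obj
      ((Sheaf.composeAndSheafify (J.over X) AddCommGrpCat.free.{u}).obj K)) F (p + 1)) :=
    subsingleton_ext_of_iso ((pullFreeIso (J := J) (K := J.over X) (Over.forget X)).app K).symm _ (hF _ p)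
  exact @Function.Injective.subsingleton _ _ _ (restrictExtEquiv J X _ F (p + 1)).symm.injective h

/-- the free sheaf on an object is the extension of the constant sheaf -/
noncomputable def frOverIso :
    fr J X ≅ ((Over.forget X).sheafPullback AddCommGrpCat.{u} (J.over X) J).obj
      ((constantSheaf (J.over X) AddCommGrpCat.{u}).obj (AddCommGrpCat.of (ULift.{u} ℤ))) :=
  let Z := ((Over.forget X).sheafPullback AddCommGrpCat.{u} (J.over X) J).obj
      ((constantSheaf (J.over X) AddCommGrpCat.{u}).obj (AddCommGrpCat.of (ULift.{u} ℤ)))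
  let e : ∀ F : Sheaf J AddCommGrpCat.{u}, (Z ⟶ F) ≃ (fr J X ⟶ F) := fun F =>
    ((((restrictAdj J X).homEquiv _ F).trans
      ((constantSheafAdj (J.over X) AddCommGrpCat.{u} Over.mkIdTerminal).homEquiv _ _)).trans
        (AddCommGrpCat.uliftZMultiplesAddEquiv _).toEquiv).trans (secEquiv X F).symm
  have he : ∀ {F G : Sheaf J AddCommGrpCat.{u}} (x : Z ⟶ F) (g : F ⟶ G), e G (x ≫ g) = e F x ≫ g := fun x g => by
    simp only [e, Equiv.trans_apply]
    erw [secEquiv_symm_comp, Adjunction.homEquiv_naturality_right, Adjunction.homEquiv_naturality_right]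
    rfl
  { hom := e Z (𝟙 Z)
    inv := (e (fr J X)).symm (𝟙 _)
    hom_inv_id := by rw [← he, Category.id_comp, Equiv.apply_symm_apply]
    inv_hom_id := (e Z).injective (by rw [he, Equiv.apply_symm_apply, Category.id_comp]) }

/-- cohomology over an object -/
noncomputable def overCohEquiv (F : Sheaf J AddCommGrpCat.{u}) (n : ℕ) :
    CohSite.HU F n X ≃+ Sheaf.H.{u} (F.over X) n :=
  AddEquiv.trans
    { toFun := fun (x : Ext (fr J X) F n) => (Ext.mk₀ (frOverIso J X).inv).comp x (zero_add n)
      invFun := fun x => (Ext.mk₀ (frOverIso J X).hom).comp x (zero_add n)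
      left_inv := fun x => by simp
      right_inv := fun x => by simp
      map_add' := fun x y => Ext.comp_add _ _ _ _ }
    (restrictExtEquiv J X _ F n)

end Groth.Agent.SiteCoh
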