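import Groth.Agent.Lib.SiteCoh.CechFamily
import Groth.Agent.Lib.SiteCoh.ExtAdj
import Mathlib.CategoryTheory.Limits.Constructions.Over.Connected
import Mathlib.CategoryTheory.Limits.Constructions.FiniteProductsOfBinaryProducts

/-! Direct images of injective sheaves along functors preserving fibre products. -/

universe u

open CategoryTheory CategoryTheory.Functor CategoryTheory.Limits Opposite Abelian AlgebraicTopology Simplicial

set_option linter.style.haveILetI false
set_option linter.unusedSectionVars false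
set_option backward.isDefEq.respectTransparency false
set_option backward.isDefEq.respectTransparency.types false

namespace Groth.Agent.SiteCoh

variable {C : Type u} [SmallCategory C] {D : Type u} [SmallCategory D] (u : C ⥤ D)

/-- a formal coproduct over an object, pushed to `D` -/
def pshU {U : C} : FormalCoproduct.{u} (Over U) ⥤ (Dᵒᵖ ⥤ Type u) where
  obj E :=
    { obj := fun V => Σ i : E.I, (V.unop ⟶ u.obj (E.obj i).left)
      map := fun g => ↾fun x => ⟨x.1, g.unop ≫ x.2⟩
      map_id := fun V => by
        refine ConcreteCategory.hom_ext _ _ fun x => ?_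
        refine Sigma.ext rfl ?_
        simp
      map_comp := fun g g' => by
        refine ConcreteCategory.hom_ext _ _ fun x => ?_
        refine Sigma.ext rfl ?_
        simp }
  map f :=
    { app := fun V => ↾fun x => ⟨f.f x.1, x.2 ≫ u.map (f.φ x.1).left⟩
      naturality := fun V W g => by
        refine ConcreteCategory.hom_ext _ _ fun x => ?_
        refine Sigma.ext rfl ?_
        simp }
  map_id E := by
    refine NatTrans.ext (funext fun V => ConcreteCategory.hom_ext _ _ fun x => ?_)
    refine Sigma.ext rfl ?_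
    simp
  map_comp f g := by
    refine NatTrans.ext (funext fun V => ConcreteCategory.hom_ext _ _ fun x => ?_)
    refine Sigma.ext rfl ?_
    simp

variable [HasPullbacks C] [PreservesLimitsOfShape WalkingCospan u]

lemma preservesFiniteLimits_post (U : C) :
    PreservesFiniteLimits (Over.post (X := U) u : Over U ⥤ Over (u.obj U)) := by
  haveI : PreservesLimitsOfShape WalkingCospan ((Over.post (X := U) u) ⋙ Over.forget (u.obj U)) :=
    inferInstanceAs (PreservesLimitsOfShape WalkingCospan (Over.forget U ⋙ u))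
  haveI : PreservesLimitsOfShape WalkingCospan (Over.post (X := U) u) :=
    preservesLimitsOfShape_of_reflects_of_preserves _ (Over.forget (u.obj U))
  haveI : PreservesLimit (Functor.empty.{0} (Over U)) (Over.post (X := U) u) :=
    preservesLimit_of_preserves_limit_cone Over.mkIdTerminal
      (isLimitChangeEmptyCone _ (Over.mkIdTerminal (X := u.obj U)) _
        (Over.isoMk (Iso.refl _) (by simp [Over.post])))
  haveI := preservesLimitsOfShape_pempty_of_preservesTerminal (Over.post (X := U) u)
  exact preservesFiniteLimits_of_preservesTerminal_and_pullbacks _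

variable {U : C} {ι : Type u} (Y : ι → Over U)

/-- the nerve in `D` -/
noncomputable abbrev famNerveU : SimplicialObject (Dᵒᵖ ⥤ Type u) :=
  (famObj Y).cech ⋙ pshU u (U := U)

/-- the map to the base -/
def famBaseU : (pshU u (U := U)).obj (famObj Y) ⟶ yoneda.obj (u.obj U) where
  app V := ↾fun x => x.2 ≫ u.map (Y x.1).hom
  naturality V W g := by
    ext x
    exact Category.assoc _ _ _

/-- the image -/
abbrev famImgU : Dᵒᵖ ⥤ Type u := (Subfunctor.range (famBaseU u Y)).toFunctor

/-- a projection -/
noncomputable abbrev famPrU (n : SimplexCategoryᵒᵖ) (k : Fin (n.unop.len + 1)) :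
    (famNerveU u Y).obj n ⟶ (pshU u (U := U)).obj (famObj Y) :=
  (pshU u (U := U)).map ((famObj Y).powerπ (α := ToType n.unop) k)

lemma famPrU_map {n m : SimplexCategoryᵒᵖ} (g : n ⟶ m) (k : Fin (m.unop.len + 1)) (V : Dᵒᵖ)
    (x : ((famNerveU u Y).obj n).obj V) :
    (famPrU u Y m k).app V (((famNerveU u Y).map g).app V x) = (famPrU u Y n (g.unop.toOrderHom k)).app V x := by
  have e := congrArg (fun f => (pshU u (U := U)).map f) (FormalCoproduct.mapPower_π (famObj Y) (α := ToType m.unop)
    (β := ToType n.unop) g.unop.toOrderHom.toFun k)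
  simp only [CategoryTheory.Functor.map_comp] at e
  exact ConcreteCategory.congr_hom (NatTrans.congr_app e V) x

lemma famPrU_base (n : SimplexCategoryᵒᵖ) (k : Fin (n.unop.len + 1)) (V : Dᵒᵖ)
    (x : ((famNerveU u Y).obj n).obj V) :
    (famBaseU u Y).app V ((famPrU u Y n k).app V x) = x.2 ≫ u.map (((famObj Y).power (ToType n.unop)).obj x.1).hom := by
  show (x.2 ≫ u.map (((famObj Y).powerπ (α := ToType n.unop) k).φ x.1).left) ≫ _ = _
  rw [Category.assoc, ← u.map_comp]
  exact congrArg (x.2 ≫ u.map ·) (Over.w _)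

/-- the augmented nerve -/
noncomputable def famAugU : SimplicialObject.Augmented (Dᵒᵖ ⥤ Type u) where
  left := famNerveU u Y
  right := famImgU u Y
  hom :=
    { app := fun n => famPrU u Y n 0 ≫ Subfunctor.toRange (famBaseU u Y)
      naturality := fun n m g => by
        ext V x
        apply Subtype.ext
        show (famBaseU u Y).app V ((famPrU u Y m 0).app V (((famNerveU u Y).map g).app V x)) =
          (famBaseU u Y).app V ((famPrU u Y n 0).app V x)
        rw [famPrU_map, famPrU_base, famPrU_base] }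

variable (V : Dᵒᵖ)

/-- products over `U` go to products over `u U` -/
noncomputable def postIsLimit {n : ℕ} (G : Fin (n + 1) → Over U) :
    IsLimit (Fan.mk ((Over.post (X := U) u).obj (∏ᶜ G)) fun k => (Over.post (X := U) u).map (Pi.π G k) :
      Fan fun k => (Over.post (X := U) u).obj (G k)) :=
  haveI := preservesFiniteLimits_post u U
  isLimitFanMkObjOfIsLimit (Over.post (X := U) u) _ _ (productIsProduct G)

lemma famU_ext {n : SimplexCategoryᵒᵖ} {x y : ((famNerveU u Y).obj n).obj V}
    (h : ∀ k, (famPrU u Y n k).app V x = (famPrU u Y n k).app V y) : x = y := by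
  obtain ⟨a, p⟩ := x
  obtain ⟨b, q⟩ := y
  obtain rfl : a = b := funext fun k => congrArg Sigma.fst (h k)
  have hk : ∀ k, p ≫ u.map (Pi.π ((famObj Y).obj ∘ a) k).left = q ≫ u.map (Pi.π ((famObj Y).obj ∘ a) k).left :=
    fun k => eq_of_heq (Sigma.ext_iff.1 (h k)).2
  have hb : p ≫ u.map (∏ᶜ ((famObj Y).obj ∘ a)).hom = q ≫ u.map (∏ᶜ ((famObj Y).obj ∘ a)).hom := by
    rw [← Over.w (Pi.π ((famObj Y).obj ∘ a) 0), u.map_comp, ← Category.assoc, ← Category.assoc, hk]
  have e : (Over.homMk p rfl : Over.mk (p ≫ u.map (∏ᶜ ((famObj Y).obj ∘ a)).hom) ⟶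
      (Over.post (X := U) u).obj (∏ᶜ ((famObj Y).obj ∘ a))) = Over.homMk q hb.symm :=
    Fan.IsLimit.hom_ext (postIsLimit u (n := n.unop.len) ((famObj Y).obj ∘ a)) _ _
      fun k => Over.OverMorphism.ext (hk k)
  exact Sigma.ext rfl (heq_of_eq (congrArg CommaMorphism.left e))

lemma exists_famU (n : SimplexCategoryᵒᵖ) (b : V.unop ⟶ u.obj U)
    (t : Fin (n.unop.len + 1) → ((pshU u (U := U)).obj (famObj Y)).obj V)
    (h : ∀ k, (famBaseU u Y).app V (t k) = b) :
    ∃ x : ((famNerveU u Y).obj n).obj V, ∀ k, (famPrU u Y n k).app V x = t k := by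
  let G := (famObj Y).obj ∘ fun k : Fin (n.unop.len + 1) => (t k).1
  let m : ∀ k, Over.mk b ⟶ (Over.post (X := U) u).obj (G k) := fun k => Over.homMk (t k).2 (h k)
  let l := Fan.IsLimit.lift (postIsLimit u G) m
  refine ⟨⟨fun k => (t k).1, l.left⟩, fun k => Sigma.ext rfl (heq_of_eq ?_)⟩
  show l.left ≫ u.map (Pi.π G k).left = _
  exact congrArg CommaMorphism.left (Fan.IsLimit.fac (postIsLimit u G) m k)

/-- element with given projections -/
noncomputable def mkFamU (n : SimplexCategoryᵒᵖ) (b : V.unop ⟶ u.obj U)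
    (t : Fin (n.unop.len + 1) → ((pshU u (U := U)).obj (famObj Y)).obj V)
    (h : ∀ k, (famBaseU u Y).app V (t k) = b) : ((famNerveU u Y).obj n).obj V :=
  (exists_famU u Y V n b t h).choose

lemma famPrU_mkFamU (n : SimplexCategoryᵒᵖ) (b : V.unop ⟶ u.obj U)
    (t : Fin (n.unop.len + 1) → ((pshU u (U := U)).obj (famObj Y)).obj V)
    (h : ∀ k, (famBaseU u Y).app V (t k) = b) (k : Fin (n.unop.len + 1)) :
    (famPrU u Y n k).app V (mkFamU u Y V n b t h) = t k :=
  (exists_famU u Y V n b t h).choose_spec k

/-- common image of an element -/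
noncomputable def famHeadU (n : SimplexCategoryᵒᵖ) (x : ((famNerveU u Y).obj n).obj V) :
    (famImgU u Y).obj V := ⟨(famBaseU u Y).app V ((famPrU u Y n 0).app V x), ⟨_, rfl⟩⟩

/-- chosen section -/
noncomputable def famSecU (y : (famImgU u Y).obj V) : ((pshU u (U := U)).obj (famObj Y)).obj V :=
  Classical.choose y.2

lemma famSecU_spec (y : (famImgU u Y).obj V) : (famBaseU u Y).app V (famSecU u Y V y) = y.1 :=
  Classical.choose_spec y.2

/-- add the section in front -/
noncomputable def famConsU (n : ℕ) (x : ((famNerveU u Y).obj (op ⦋n⦌)).obj V) :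
    ((famNerveU u Y).obj (op ⦋n + 1⦌)).obj V :=
  mkFamU u Y V (op ⦋n + 1⦌) (famHeadU u Y V _ x).1
    (Fin.cases (famSecU u Y V (famHeadU u Y V _ x)) fun i : Fin (n + 1) => (famPrU u Y (op ⦋n⦌) i).app V x)
    (fun i => by
      cases i using Fin.cases with
      | zero => exact famSecU_spec u Y V _
      | succ i => exact (famPrU_base u Y (op ⦋n⦌) i V x).trans (famPrU_base u Y (op ⦋n⦌) 0 V x).symm)

lemma famPrU_famConsU_zero (n : ℕ) (x : ((famNerveU u Y).obj (op ⦋n⦌)).obj V) :
    (famPrU u Y (op ⦋n + 1⦌) 0).app V (famConsU u Y V n x) = famSecU u Y V (famHeadU u Y V _ x) :=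
  famPrU_mkFamU _ _ _ _ _ _ _ _

lemma famPrU_famConsU_succ (n : ℕ) (x : ((famNerveU u Y).obj (op ⦋n⦌)).obj V) (i : Fin (n + 1)) :
    (famPrU u Y (op ⦋n + 1⦌) i.succ).app V (famConsU u Y V n x) = (famPrU u Y (op ⦋n⦌) i).app V x :=
  (famPrU_mkFamU _ _ _ _ _ _ _ _).trans rfl

lemma famHeadU_map {n m : SimplexCategoryᵒᵖ} (g : n ⟶ m) (x : ((famNerveU u Y).obj n).obj V) :
    famHeadU u Y V m (((famNerveU u Y).map g).app V x) = famHeadU u Y V n x := by
  apply Subtype.ext
  show (famBaseU u Y).app V ((famPrU u Y m 0).app V _) = (famBaseU u Y).app V ((famPrU u Y n 0).app V x)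
  rw [famPrU_map, famPrU_base, famPrU_base]

/-- the extra degeneracy -/
noncomputable def famExtraU :
    SimplicialObject.Augmented.ExtraDegeneracy
      (((SimplicialObject.Augmented.whiskering _ _).obj ((evaluation Dᵒᵖ (Type u)).obj V)).obj (famAugU u Y)) where
  s' := ↾fun y => mkFamU u Y V (op ⦋0⦌) y.1 (fun _ => famSecU u Y V y) (fun _ => famSecU_spec u Y V y)
  s n := ↾famConsU u Y V n
  s'_comp_ε := by
    ext y
    apply Subtype.ext
    show (famBaseU u Y).app V ((famPrU u Y (op ⦋0⦌) 0).app V
      (mkFamU u Y V (op ⦋0⦌) y.1 (fun _ => famSecU u Y V y) (fun _ => famSecU_spec u Y V y))) = y.1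
    rw [famPrU_mkFamU, famSecU_spec]
  s₀_comp_δ₁ := by
    ext x
    show ((famNerveU u Y).map (SimplexCategory.δ 1).op).app V (famConsU u Y V 0 x) =
      mkFamU u Y V (op ⦋0⦌) (famHeadU u Y V _ x).1 (fun _ => famSecU u Y V (famHeadU u Y V _ x))
        (fun _ => famSecU_spec u Y V _)
    refine famU_ext u Y V fun i => ?_
    rw [famPrU_map, famPrU_mkFamU]
    fin_cases i
    exact famPrU_famConsU_zero u Y V 0 x
  s_comp_δ₀ n := by
    ext x
    show ((famNerveU u Y).map (SimplexCategory.δ 0).op).app V (famConsU u Y V n x) = x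
    refine famU_ext u Y V fun i => ?_
    rw [famPrU_map]
    exact famPrU_famConsU_succ u Y V n x i
  s_comp_δ n i := by
    ext x
    show ((famNerveU u Y).map (SimplexCategory.δ i.succ).op).app V (famConsU u Y V (n + 1) x) =
      famConsU u Y V n (((famNerveU u Y).map (SimplexCategory.δ i).op).app V x)
    refine famU_ext u Y V fun j => ?_
    rw [famPrU_map]
    cases j using Fin.cases with
    | zero =>
      rw [famPrU_famConsU_zero]
      refine (congrArg (fun k => (famPrU u Y (op ⦋n + 1 + 1⦌) k).app V (famConsU u Y V (n + 1) x))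
        (Fin.succ_succAbove_zero i)).trans ((famPrU_famConsU_zero u Y V _ x).trans ?_)
      rw [famHeadU_map]
    | succ j =>
      refine Eq.trans ?_ (famPrU_famConsU_succ u Y V n _ j).symm
      rw [famPrU_map]
      refine (congrArg (fun k => (famPrU u Y (op ⦋n + 1 + 1⦌) k).app V (famConsU u Y V (n + 1) x))
        (Fin.succ_succAbove_succ i j)).trans ?_
      exact famPrU_famConsU_succ u Y V _ x _
  s_comp_σ n i := by
    ext x
    show ((famNerveU u Y).map (SimplexCategory.σ i.succ).op).app V (famConsU u Y V n x) =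
      famConsU u Y V (n + 1) (((famNerveU u Y).map (SimplexCategory.σ i).op).app V x)
    refine famU_ext u Y V fun j => ?_
    rw [famPrU_map]
    cases j using Fin.cases with
    | zero =>
      rw [famPrU_famConsU_zero]
      refine (congrArg (fun k => (famPrU u Y (op ⦋n + 1⦌) k).app V (famConsU u Y V n x))
        (show Fin.predAbove i.succ (0 : Fin (n + 1 + 1 + 1)) = 0 by simp)).trans
        ((famPrU_famConsU_zero u Y V _ x).trans ?_)
      rw [famHeadU_map]
    | succ j =>
      refine Eq.trans ?_ (famPrU_famConsU_succ u Y V (n + 1) _ j).symm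
      rw [famPrU_map]
      refine (congrArg (fun k => (famPrU u Y (op ⦋n + 1⦌) k).app V (famConsU u Y V n x))
        (Fin.succ_predAbove_succ i j)).trans ?_
      exact famPrU_famConsU_succ u Y V _ x _

variable (J : GrothendieckTopology C) (K : GrothendieckTopology D)

/-- the augmented simplicial free sheaf -/
noncomputable abbrev famFrU : SimplicialObject.Augmented (Sheaf K AddCommGrpCat.{u}) :=
  ((SimplicialObject.Augmented.whiskering _ _).obj (frP K)).obj (famAugU u Y)

/-- the free complex -/
noncomputable abbrev famCxU : ChainComplex (Sheaf K AddCommGrpCat.{u}) ℕ :=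
  (alternatingFaceMapComplex _).obj (famFrU u Y K).left

theorem quasiIso_famU : QuasiIso (AlternatingFaceMapComplex.ε.app (famFrU u Y K)) := by
  let P := ((SimplicialObject.Augmented.whiskering _ _).obj
      ((Functor.whiskeringRight Dᵒᵖ (Type u) AddCommGrpCat.{u}).obj AddCommGrpCat.free.{u})).obj (famAugU u Y)
  haveI : QuasiIso (AlternatingFaceMapComplex.ε.app P) := by
    rw [HomologicalComplex.quasiIso_iff_evaluation]
    intro V
    rw [quasiIso_map_ε_iff]
    exact inferInstanceAs (QuasiIso ((famExtraU u Y V).map AddCommGrpCat.free.{u}).homotopyEquiv.hom)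
  exact (quasiIso_map_ε_iff (presheafToSheaf K AddCommGrpCat.{u}) P).1 inferInstance

variable [u.IsContinuous J K]

omit [HasPullbacks C] [PreservesLimitsOfShape WalkingCospan u] in
/-- the unit on formal coproducts -/
def pshUnit (E : FormalCoproduct.{u} (Over U)) :
    (psh (C := C) (U := U)).obj E ⟶ u.op ⋙ (pshU u (U := U)).obj E where
  app W := ↾fun x => ⟨x.1, u.map x.2⟩
  naturality W W' g := by
    refine ConcreteCategory.hom_ext _ _ fun x => ?_
    refine Sigma.ext rfl ?_
    simp [psh, pshU]

/-- comparison of free sheaves -/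
noncomputable def kap (E : FormalCoproduct.{u} (Over U)) :
    (frP J).obj ((psh (C := C) (U := U)).obj E) ⟶ (CohSite.push K J u).obj ((frP K).obj ((pshU u (U := U)).obj E)) :=
  ((frAdj J).homEquiv _ _).symm
    (pshUnit u E ≫ Functor.whiskerLeft u.op ((frAdj K).unit.app ((pshU u (U := U)).obj E)))

lemma homEquiv_kap (E : FormalCoproduct.{u} (Over U)) {G : Sheaf K AddCommGrpCat.{u}}
    (x : (frP K).obj ((pshU u (U := U)).obj E) ⟶ G) :
    (frAdj J).homEquiv _ _ (kap u J K E ≫ (CohSite.push K J u).map x) =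
      pshUnit u E ≫ Functor.whiskerLeft u.op ((frAdj K).homEquiv _ _ x) := by
  rw [(frAdj J).homEquiv_naturality_right, kap, Equiv.apply_symm_apply, (frAdj K).homEquiv_unit]
  rfl

lemma bijective_kap (E : FormalCoproduct.{u} (Over U)) (G : Sheaf K AddCommGrpCat.{u}) :
    Function.Bijective fun x : (frP K).obj ((pshU u (U := U)).obj E) ⟶ G =>
      kap u J K E ≫ (CohSite.push K J u).map x := by
  have hb : Function.Bijective fun f : (pshU u (U := U)).obj E ⟶ (undP K).obj G =>
      pshUnit u E ≫ Functor.whiskerLeft u.op f := by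
    constructor
    · intro f g h
      ext W ⟨i, a⟩
      have e : (⟨i, a⟩ : ((pshU u (U := U)).obj E).obj W) = ((pshU u (U := U)).obj E).map a.op ⟨i, 𝟙 _⟩ :=
        Sigma.ext rfl (heq_of_eq (Category.comp_id a).symm)
      have h1 := ConcreteCategory.congr_hom (NatTrans.congr_app h (op (E.obj i).left))
        (⟨i, 𝟙 _⟩ : ((psh (C := C) (U := U)).obj E).obj _)
      have h2 : f.app (op (u.obj (E.obj i).left)) ⟨i, 𝟙 _⟩ = g.app (op (u.obj (E.obj i).left)) ⟨i, 𝟙 _⟩ := by
        rw [← u.map_id]
        exact h1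
      rw [e]
      exact (NatTrans.naturality_apply f a.op _).trans
        ((congrArg (((undP K).obj G).map a.op) h2).trans (NatTrans.naturality_apply g a.op _).symm)
    · intro g
      refine ⟨{ app := fun W => ↾fun y => ((undP K).obj G).map y.2.op (g.app (op (E.obj y.1).left) ⟨y.1, 𝟙 _⟩)
                naturality := fun W W' k => by
                  ext y
                  show ((undP K).obj G).map (k.unop ≫ y.2).op _ = ((undP K).obj G).map k (((undP K).obj G).map y.2.op _)
                  rw [op_comp]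
                  exact Functor.map_comp_apply ((undP K).obj G) y.2.op k _ }, ?_⟩
      ext W ⟨i, a⟩
      have e : (⟨i, a⟩ : ((psh (C := C) (U := U)).obj E).obj W) = ((psh (C := C) (U := U)).obj E).map a.op ⟨i, 𝟙 _⟩ :=
        Sigma.ext rfl (heq_of_eq (Category.comp_id a).symm)
      conv_rhs => rw [e]
      exact (NatTrans.naturality_apply g a.op _).symm
  constructor
  · intro x y h
    apply ((frAdj K).homEquiv _ _).injective
    apply hb.1
    have := congrArg ((frAdj J).homEquiv _ _) h
    rwa [homEquiv_kap, homEquiv_kap] at this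
  · intro z
    obtain ⟨f, hf⟩ := hb.2 ((frAdj J).homEquiv _ _ z)
    refine ⟨((frAdj K).homEquiv _ _).symm f, ((frAdj J).homEquiv _ _).injective ?_⟩
    rw [homEquiv_kap, Equiv.apply_symm_apply]
    exact hf

lemma kap_natural {E E' : FormalCoproduct.{u} (Over U)} (f : E ⟶ E') {G : Sheaf K AddCommGrpCat.{u}}
    (x : (frP K).obj ((pshU u (U := U)).obj E') ⟶ G) :
    (frP J).map ((psh (C := C) (U := U)).map f) ≫ kap u J K E' ≫ (CohSite.push K J u).map x =
      kap u J K E ≫ (CohSite.push K J u).map ((frP K).map ((pshU u (U := U)).map f) ≫ x) := by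
  apply ((frAdj J).homEquiv _ _).injective
  rw [(frAdj J).homEquiv_naturality_left, homEquiv_kap, homEquiv_kap, (frAdj K).homEquiv_naturality_left]
  ext W ⟨i, a⟩
  show ((frAdj K).homEquiv _ _ x).app _ ⟨f.f i, u.map (a ≫ (f.φ i).left)⟩ =
    ((frAdj K).homEquiv _ _ x).app _ ⟨f.f i, u.map a ≫ u.map (f.φ i).left⟩
  rw [u.map_comp]

lemma kap_d (q : ℕ) {G : Sheaf K AddCommGrpCat.{u}} (x : (famCxU u Y K).X q ⟶ G) :
    (famCx Y J).d (q + 1) q ≫ kap u J K _ ≫ (CohSite.push K J u).map x =
      kap u J K ((famObj Y).power (ToType (⦋q + 1⦌ : SimplexCategory))) ≫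
        (CohSite.push K J u).map ((famCxU u Y K).d (q + 1) q ≫ x) := by
  haveI : (CohSite.push K J u).Additive := { map_add := rfl }
  rw [alternatingFaceMapComplex_obj_d, alternatingFaceMapComplex_obj_d]
  simp only [AlternatingFaceMapComplex.objD, Preadditive.sum_comp, Preadditive.zsmul_comp]
  erw [Functor.map_sum, Preadditive.comp_sum]
  refine Finset.sum_congr rfl fun i _ => ?_
  erw [Functor.map_zsmul, Preadditive.comp_zsmul]
  exact congrArg (fun z => (-1 : ℤ) ^ (i : ℕ) • z) (kap_natural u J K ((famObj Y).cech.map (SimplexCategory.δ i).op) x)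

/-- direct images of injectives have exact Čech complexes -/
theorem homExactAt_push (I : Sheaf K AddCommGrpCat.{u}) [Injective I] (q : ℕ) :
    HomExactAt (famCx Y J) ((CohSite.push K J u).obj I) q := fun x hx => by
  haveI : (CohSite.push K J u).Additive := { map_add := rfl }
  haveI := quasiIso_famU u Y K
  obtain ⟨x', rfl⟩ := (bijective_kap u J K _ I).2 x
  have h' : (famCxU u Y K).d (q + 2) (q + 1) ≫ x' = 0 := by
    apply (bijective_kap u J K _ I).1
    show _ = kap u J K _ ≫ (CohSite.push K J u).map 0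
    rw [CategoryTheory.Functor.map_zero, comp_zero]
    exact (kap_d u Y J K (q + 1) x').symm.trans hx
  obtain ⟨y, rfl⟩ := homExactAt_injective (AlternatingFaceMapComplex.ε.app (famFrU u Y K)) I q x' h'
  exact ⟨_, kap_d u Y J K q y⟩

omit Y

/-- direct images of injectives are acyclic on objects -/
theorem subsingleton_HU_push_injective (I : Sheaf K AddCommGrpCat.{u}) [Injective I] (V : C) (p : ℕ) :
    Subsingleton (CohSite.HU ((CohSite.push K J u).obj I) (p + 1) V) :=
  subsingleton_HU_of_cech Set.univ
    (fun U _ Y => Sieve.ofArrows (fun i => (Y i).left) (fun i => (Y i).hom) ∈ J U)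
    (fun _ _ _ h => ⟨trivial, h, fun _ _ => trivial⟩)
    (fun U _ T hT => ⟨Σ V : C, {f : V ⟶ U // T f}, fun a => Over.mk a.2.1,
      J.superset_covering (fun V f hf => Sieve.ofArrows_mk (fun a : Σ V : C, {f : V ⟶ U // T f} => a.1)
        (fun a => a.2.1) ⟨V, f, hf⟩) hT, fun a => a.2.2⟩)
    p _ (fun _ _ Y _ q => homExactAt_push u Y J K I q) V trivial

/-- cohomology of a restriction along a continuous and cocontinuous functor -/
theorem nonempty_pushEquiv [u.IsCocontinuous J K] (F : Sheaf K AddCommGrpCat.{u}) (V : C) (p : ℕ) :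
    Nonempty (CohSite.HU F p (u.obj V) ≃+ CohSite.HU ((CohSite.push K J u).obj F) p V) := by
  haveI : (CohSite.push K J u).Additive := { map_add := rfl }
  haveI : PreservesFiniteLimits (CohSite.push K J u) :=
    haveI := (u.sheafAdjunctionContinuous AddCommGrpCat.{u} J K).isRightAdjoint
    inferInstance
  haveI : PreservesFiniteColimits (CohSite.push K J u) :=
    haveI := (u.sheafAdjunctionCocontinuous AddCommGrpCat.{u} J K).isLeftAdjoint
    inferInstance
  have key : ∀ (W : Sheaf K AddCommGrpCat.{u}) (s : W.obj.obj (op (u.obj V))) (G : Sheaf K AddCommGrpCat.{u}) (f : W ⟶ G),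
      (secEquiv V ((CohSite.push K J u).obj W)).symm s ≫ (CohSite.push K J u).map f =
        (secEquiv V ((CohSite.push K J u).obj G)).symm (f.hom.app (op (u.obj V)) s) :=
    fun W s G f => secEquiv_symm_comp V (F := (CohSite.push K J u).obj W) (G := (CohSite.push K J u).obj G) s ((CohSite.push K J u).map f)
  obtain ⟨s, hs⟩ : ∃ s, s = secEquiv (u.obj V) (fr K (u.obj V)) (𝟙 _) := ⟨_, rfl⟩
  have h0 : ∀ G, Function.Bijective fun f : fr K (u.obj V) ⟶ G =>
      (secEquiv V ((CohSite.push K J u).obj (fr K (u.obj V)))).symm s ≫ (CohSite.push K J u).map f := fun G => by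
    have hf : ∀ f : fr K (u.obj V) ⟶ G, f.hom.app (op (u.obj V)) s = secEquiv (u.obj V) G f := fun f => by
      rw [hs, ← secEquiv_comp, Category.id_comp]
    have e : (fun f : fr K (u.obj V) ⟶ G =>
        (secEquiv V ((CohSite.push K J u).obj (fr K (u.obj V)))).symm s ≫ (CohSite.push K J u).map f) =
        fun f => (secEquiv V ((CohSite.push K J u).obj G)).symm (secEquiv (u.obj V) G f) :=
      funext fun f => by rw [key, hf]
    rw [e]
    exact ((secEquiv V ((CohSite.push K J u).obj G)).symm.bijective).comp (secEquiv (u.obj V) G).bijective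
  exact ⟨AddEquiv.ofBijective _ (bijective_extCompHom (R := CohSite.push K J u) _ h0
    (fun I hI k => subsingleton_HU_push_injective u J K I V k) p F)⟩

end Groth.Agent.SiteCoh
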