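import Groth.Agent.Lib.SiteCoh.InjModule
import Mathlib.CategoryTheory.Limits.Constructions.Over.Connected
import Mathlib.CategoryTheory.Limits.Constructions.FiniteProductsOfBinaryProducts

/-! Čech nerves under functors preserving fibre products. -/

universe w v v' u u'

open CategoryTheory CategoryTheory.Functor CategoryTheory.Limits Opposite Abelian AlgebraicTopology Simplicial

set_option linter.style.haveILetI false
set_option backward.isDefEq.respectTransparency false
set_option backward.isDefEq.respectTransparency.types false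

namespace Groth.Agent.SiteCoh

section Nerve

variable {A : Type u} [Category.{v} A] {B : Type u'} [Category.{v'} B] [HasPullbacks A]
  (F : A ⥤ B) [PreservesLimitsOfShape WalkingCospan F]

lemma preservesFiniteLimits_overPost (X : A) :
    PreservesFiniteLimits (Over.post (X := X) F : Over X ⥤ Over (F.obj X)) := by
  haveI : PreservesLimitsOfShape WalkingCospan ((Over.post (X := X) F) ⋙ Over.forget (F.obj X)) :=
    inferInstanceAs (PreservesLimitsOfShape WalkingCospan (Over.forget X ⋙ F))
  haveI : PreservesLimitsOfShape WalkingCospan (Over.post (X := X) F) :=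
    preservesLimitsOfShape_of_reflects_of_preserves _ (Over.forget (F.obj X))
  haveI : PreservesLimit (Functor.empty.{0} (Over X)) (Over.post (X := X) F) :=
    preservesLimit_of_preserves_limit_cone Over.mkIdTerminal
      (isLimitChangeEmptyCone _ (Over.mkIdTerminal (X := F.obj X)) _
        (Over.isoMk (Iso.refl _) (by simp [Over.post])))
  haveI := preservesLimitsOfShape_pempty_of_preservesTerminal (Over.post (X := X) F)
  exact preservesFiniteLimits_of_preservesTerminal_and_pullbacks _

variable (f : Arrow A) [∀ n : ℕ, HasWidePullback.{0} f.right (fun _ : Fin (n + 1) => f.left) fun _ => f.hom]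
  [∀ n : ℕ, HasWidePullback.{0} (F.mapArrow.obj f).right (fun _ : Fin (n + 1) => (F.mapArrow.obj f).left)
    fun _ => (F.mapArrow.obj f).hom]

/-- the comparison map -/
noncomputable def nerveComp (n : ℕ) :
    F.obj (widePullback.{0} f.right (fun _ : Fin (n + 1) => f.left) fun _ => f.hom) ⟶
      widePullback.{0} (F.mapArrow.obj f).right (fun _ : Fin (n + 1) => (F.mapArrow.obj f).left)
        fun _ => (F.mapArrow.obj f).hom :=
  WidePullback.lift (F.map (WidePullback.base _)) (fun i => F.map (WidePullback.π _ i)) fun i => by
    show F.map (WidePullback.π (objs := fun _ : Fin (n + 1) => f.left) (fun _ => f.hom) i) ≫ F.map f.hom = _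
    rw [← F.map_comp]
    exact congrArg F.map (WidePullback.π_arrow (objs := fun _ : Fin (n + 1) => f.left) (fun _ => f.hom) i)

lemma isIso_nerveComp (n : ℕ) : IsIso (nerveComp F f n) := by
  let G : Fin (n + 1) → Over f.right := fun _ => Over.mk f.hom
  let P : Over f.right := Over.mk (WidePullback.base (objs := fun _ : Fin (n + 1) => f.left) fun _ => f.hom)
  let π : ∀ i, P ⟶ G i := fun i =>
    Over.homMk (WidePullback.π (objs := fun _ : Fin (n + 1) => f.left) (fun _ => f.hom) i)
      (WidePullback.π_arrow (objs := fun _ : Fin (n + 1) => f.left) (fun _ => f.hom) i)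
  let hP : IsLimit (Fan.mk P π) := Fan.IsLimit.mk _
    (fun s => Over.homMk (WidePullback.lift (objs := fun _ : Fin (n + 1) => f.left) (arrows := fun _ => f.hom)
      s.pt.hom (fun i => (s.proj i).left) (fun i => Over.w (s.proj i))) (WidePullback.lift_base _ _ _ _))
    (fun s i => Over.OverMorphism.ext (WidePullback.lift_π _ _ _ _ i))
    (fun s m hm => Over.OverMorphism.ext (WidePullback.hom_ext _ _ _
      (fun i => Eq.trans (congrArg CommaMorphism.left (hm i)) (by
        simp))
      ((Over.w m).trans (WidePullback.lift_base _ _ _ _).symm)))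
  haveI := preservesFiniteLimits_overPost F f.right
  let hQ : IsLimit (Fan.mk ((Over.post (X := f.right) F).obj P) fun i => (Over.post (X := f.right) F).map (π i)) :=
    isLimitFanMkObjOfIsLimit (Over.post (X := f.right) F) _ _ hP
  let g := fun i => (Over.homMk (WidePullback.π (objs := fun _ : Fin (n + 1) => (F.mapArrow.obj f).left)
      (fun _ => (F.mapArrow.obj f).hom) i) (WidePullback.π_arrow _ i) :
    Over.mk (WidePullback.base (objs := fun _ : Fin (n + 1) => (F.mapArrow.obj f).left) fun _ => (F.mapArrow.obj f).hom) ⟶
      (Over.post (X := f.right) F).obj (G i))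
  let l := Fan.IsLimit.lift hQ g
  let e : (Over.post (X := f.right) F).obj P ⟶ Over.mk (WidePullback.base (objs := fun _ : Fin (n + 1) =>
      (F.mapArrow.obj f).left) fun _ => (F.mapArrow.obj f).hom) :=
    Over.homMk (nerveComp F f n) (by
      show nerveComp F f n ≫ WidePullback.base _ = F.map _
      exact WidePullback.lift_base _ _ _ _)
  have h1 : ∀ i, e ≫ g i = (Over.post (X := f.right) F).map (π i) := fun i =>
    Over.OverMorphism.ext (WidePullback.lift_π _ _ _ _ i)
  refine ⟨l.left, ?_, ?_⟩
  · have : e ≫ l = 𝟙 _ := Fan.IsLimit.hom_ext hQ _ _ fun i => by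
      rw [Category.id_comp, Category.assoc]
      exact (congrArg (e ≫ ·) (Fan.IsLimit.fac hQ g i)).trans (h1 i)
    exact congrArg CommaMorphism.left this
  · refine WidePullback.hom_ext _ _ _ (fun i => ?_) ?_
    · rw [Category.id_comp, Category.assoc]
      exact (congrArg (l.left ≫ ·) (WidePullback.lift_π _ _ _ _ i)).trans
        (congrArg CommaMorphism.left (Fan.IsLimit.fac hQ g i))
    · rw [Category.id_comp, Category.assoc]
      exact (congrArg (l.left ≫ ·) (WidePullback.lift_base _ _ _ _)).trans (Over.w l)

/-- functors preserving fibre products commute with augmented Čech nerves -/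
noncomputable def nerveCompIso :
    ((SimplicialObject.Augmented.whiskering A B).obj F).obj f.augmentedCechNerve ≅
      (F.mapArrow.obj f).augmentedCechNerve :=
  Comma.isoMk
    (NatIso.ofComponents (fun n => haveI := isIso_nerveComp F f n.unop.len; asIso (nerveComp F f n.unop.len))
      (fun {n m} g => by
        refine WidePullback.hom_ext _ _ _ (fun i => ?_) ?_
        · show (F.map (f.cechNerve.map g) ≫ nerveComp F f m.unop.len) ≫ _ =
            (nerveComp F f n.unop.len ≫ (F.mapArrow.obj f).cechNerve.map g) ≫ _
          simp [nerveComp, Arrow.cechNerve, ← F.map_comp]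
        · show (F.map (f.cechNerve.map g) ≫ nerveComp F f m.unop.len) ≫ _ =
            (nerveComp F f n.unop.len ≫ (F.mapArrow.obj f).cechNerve.map g) ≫ _
          simp [nerveComp, Arrow.cechNerve, ← F.map_comp]))
    (Iso.refl _) (by
      apply NatTrans.ext
      funext n
      simp [nerveComp]
      exact (Category.comp_id _).symm)

end Nerve

variable {C : Type w} [SmallCategory C] {J : GrothendieckTopology C}

section Criterion

variable {A : Type u} [Category.{v} A] [Abelian A] (T : Sheaf J (Type w) ⥤ A) {M : Sheaf J AddCommGrpCat.{w}}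
  {I : A} [Injective I] (e : ∀ K, (T.obj K ⟶ I) ≃+ ((frP J).obj K.obj ⟶ M))
  (he : ∀ {K L : Sheaf J (Type w)} (η : K ⟶ L) (x : T.obj L ⟶ I), e K (T.map η ≫ x) = (frP J).map η.hom ≫ e L x)

include e he in
/-- a sheaf represented on sheaves of sets by an injective object is totally acyclic -/
theorem isTotallyAcyclic_of_sheafEquiv
    (hres : ∀ (K' K : Sheaf J (Type w)) (f : K' ⟶ K), Epi f →
      QuasiIso (AlternatingFaceMapComplex.ε.app (((SimplicialObject.Augmented.whiskering _ _).obj T).obj
        (Arrow.mk f).augmentedCechNerve))) :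
    CohCx.IsTotallyAcyclic M := fun K p => by
  refine isTotallyAcyclic_of_homExactAt p M (fun K' K f hf q => ?_) K
  haveI := hres K' K f hf
  let X := ((SimplicialObject.Augmented.whiskering _ _).obj T).obj (Arrow.mk f).augmentedCechNerve
  let L := (alternatingFaceMapComplex A).obj X.left
  have hd : ∀ (n : ℕ) (x : L.X n ⟶ I), e _ (L.d (n + 1) n ≫ x) = (frCx f).d (n + 1) n ≫ e _ x := fun n x => by
    rw [alternatingFaceMapComplex_obj_d, alternatingFaceMapComplex_obj_d]
    simp only [AlternatingFaceMapComplex.objD, Preadditive.sum_comp, Preadditive.zsmul_comp]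
    erw [_root_.map_sum]
    refine Finset.sum_congr rfl fun i _ => ?_
    erw [_root_.map_zsmul]
    exact congrArg (fun z => (-1 : ℤ) ^ (i : ℕ) • z) (he ((Arrow.mk f).cechNerve.δ i) x)
  intro x hx
  obtain ⟨y, hy⟩ := homExactAt_injective (AlternatingFaceMapComplex.ε.app X) I q ((e _).symm x)
    ((e _).injective (by
      refine (hd (q + 1) ((e _).symm x)).trans ?_
      erw [AddEquiv.apply_symm_apply, _root_.map_zero]
      exact hx))
  exact ⟨e _ y, (hd q y).symm.trans ((congrArg (e _) hy).trans ((e _).apply_symm_apply x))⟩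

end Criterion

variable (R : Sheaf J RingCat.{w})

/-- free modules of sheaves of sets resolve along Čech nerves of epimorphisms -/
theorem quasiIso_frM_cech {K' K : Sheaf J (Type w)} (f : K' ⟶ K) [Epi f] :
    QuasiIso (AlternatingFaceMapComplex.ε.app (((SimplicialObject.Augmented.whiskering _ _).obj
      (sheafToPresheaf J (Type w) ⋙ frM R)).obj (Arrow.mk f).augmentedCechNerve)) := by
  haveI := isIso_img f
  haveI := quasiIso_frM_augP R f
  haveI : IsIso ((frM R).map (Subfunctor.range f.hom).ι) := by
    refine isIso_of_coyoneda_map_bijective _ fun Y => ?_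
    have e : (fun x : (frM R).obj K.obj ⟶ Y => (frM R).map (Subfunctor.range f.hom).ι ≫ x) =
        fun x => (frMEquiv R _ Y).symm ((frP J).map (Subfunctor.range f.hom).ι ≫ frMEquiv R _ Y x) :=
      funext fun x => by rw [← frMEquiv_natural, AddEquiv.symm_apply_apply]
    have hb : Function.Bijective fun z : (frP J).obj K.obj ⟶ (SheafOfModules.toSheaf R).obj Y =>
        (frP J).map (Subfunctor.range f.hom).ι ≫ z :=
      ⟨fun a b h => (cancel_epi _).1 h,
        fun z => ⟨inv ((frP J).map (Subfunctor.range f.hom).ι) ≫ z, IsIso.hom_inv_id_assoc _ _⟩⟩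
    rw [show (fun x : (frM R).obj K.obj ⟶ Y => (frM R).map (Subfunctor.range f.hom).ι ≫ x) = _ from e]
    exact (frMEquiv R _ Y).symm.bijective.comp (hb.comp (frMEquiv R _ Y).bijective)
  refine quasiIso_ε_of_iso (X := ((SimplicialObject.Augmented.whiskering _ _).obj (frM R)).obj (augP f))
    (Comma.isoMk (Iso.refl _) (asIso ((frM R).map (Subfunctor.range f.hom).ι)) ?_)
  apply NatTrans.ext
  funext n
  show 𝟙 _ ≫ (frM R).map (baseP f n) =
    (frM R).map (prP f n 0 ≫ Subfunctor.toRange f.hom) ≫ (frM R).map (Subfunctor.range f.hom).ι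
  rw [Category.id_comp, ← CategoryTheory.Functor.map_comp, Category.assoc, Subfunctor.toRange_ι, prP_comp]

end Groth.Agent.SiteCoh
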