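import Groth.Agent.Lib.SiteCoh.Free
import Mathlib.AlgebraicTopology.ExtraDegeneracy
import Mathlib.AlgebraicTopology.AlternatingFaceMapComplex
import Mathlib.Algebra.Homology.Functor
import Mathlib.Algebra.Homology.Additive
import Mathlib.CategoryTheory.Subfunctor.Image
import Mathlib.CategoryTheory.Sites.LocallyBijective
import Mathlib.CategoryTheory.Sites.EpiMono
import Mathlib.CategoryTheory.Sites.Limits

/-! The free abelian sheaves on the Čech nerve of an epimorphism form a resolution. -/

universe u

open CategoryTheory CategoryTheory.Functor CategoryTheory.Limits Opposite AlgebraicTopology Simplicial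

set_option linter.style.haveILetI false
set_option backward.isDefEq.respectTransparency false
set_option backward.isDefEq.respectTransparency.types false

namespace Groth.Agent.SiteCoh

section General

variable {A B : Type*} [Category* A] [Category* B] [Abelian A] [Abelian B] (F : A ⥤ B) [F.Additive]

/-- additive functors commute with the alternating face map complex of an augmented object -/
noncomputable def mapεIso (X : SimplicialObject.Augmented A) :
    Arrow.mk ((F.mapHomologicalComplex (ComplexShape.down ℕ)).map (AlternatingFaceMapComplex.ε.app X)) ≅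
      Arrow.mk (AlternatingFaceMapComplex.ε.app (((SimplicialObject.Augmented.whiskering A B).obj F).obj X)) :=
  Arrow.isoMk ((eqToIso (map_alternatingFaceMapComplex F)).app X.left)
    ((HomologicalComplex.singleMapHomologicalComplex F (ComplexShape.down ℕ) 0).app X.right) (by
    apply HomologicalComplex.to_single_hom_ext
    dsimp
    simp [eqToHom_app, HomologicalComplex.eqToHom_f, HomologicalComplex.singleObjXSelf,
      HomologicalComplex.singleObjXIsoOfEq, SimplicialObject.Augmented.whiskering, SimplicialObject.Augmented.whiskeringObj]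
    exact (Category.comp_id _).symm)

lemma quasiIso_map_ε_iff (X : SimplicialObject.Augmented A) :
    QuasiIso ((F.mapHomologicalComplex (ComplexShape.down ℕ)).map (AlternatingFaceMapComplex.ε.app X)) ↔
      QuasiIso (AlternatingFaceMapComplex.ε.app (((SimplicialObject.Augmented.whiskering A B).obj F).obj X)) :=
  quasiIso_iff_of_arrow_mk_iso _ _ (mapεIso F X)

lemma quasiIso_ε_of_iso {X Y : SimplicialObject.Augmented A} (e : X ≅ Y)
    [QuasiIso (AlternatingFaceMapComplex.ε.app X)] : QuasiIso (AlternatingFaceMapComplex.ε.app Y) :=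
  quasiIso_of_arrow_mk_iso (AlternatingFaceMapComplex.ε.app X) _
    (Arrow.isoMk ((SimplicialObject.Augmented.drop ⋙ alternatingFaceMapComplex A).mapIso e)
      ((SimplicialObject.Augmented.point ⋙ ChainComplex.single₀ A).mapIso e)
      (AlternatingFaceMapComplex.ε.naturality e.hom))

end General

variable {C : Type u} [SmallCategory C] {J : GrothendieckTopology C} {K' K : Sheaf J (Type u)} (f : K' ⟶ K)

/-- the Čech nerve in presheaves -/
noncomputable abbrev nerveP : SimplicialObject (Cᵒᵖ ⥤ Type u) :=
  (Arrow.mk f).cechNerve ⋙ sheafToPresheaf J (Type u)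

/-- projections of the nerve -/
noncomputable abbrev prP (n : SimplexCategoryᵒᵖ) (i : Fin (n.unop.len + 1)) :
    (nerveP f).obj n ⟶ K'.obj :=
  (WidePullback.π (objs := fun _ : Fin (n.unop.len + 1) => (Arrow.mk f).left)
    (fun _ => (Arrow.mk f).hom) i).hom

/-- base of the nerve -/
noncomputable abbrev baseP (n : SimplexCategoryᵒᵖ) : (nerveP f).obj n ⟶ K.obj :=
  (WidePullback.base (objs := fun _ : Fin (n.unop.len + 1) => (Arrow.mk f).left) (fun _ => (Arrow.mk f).hom)).hom

lemma prP_comp (n : SimplexCategoryᵒᵖ) (i : Fin (n.unop.len + 1)) : prP f n i ≫ f.hom = baseP f n :=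
  congrArg (fun g : (Arrow.mk f).cechNerve.obj n ⟶ K => g.hom)
    (WidePullback.π_arrow (objs := fun _ : Fin (n.unop.len + 1) => (Arrow.mk f).left) (fun _ => (Arrow.mk f).hom) i)

lemma baseP_map {n m : SimplexCategoryᵒᵖ} (g : n ⟶ m) : (nerveP f).map g ≫ baseP f m = baseP f n :=
  congrArg (fun g : (Arrow.mk f).cechNerve.obj n ⟶ K => g.hom)
    (show (Arrow.mk f).cechNerve.map g ≫ WidePullback.base (objs := fun _ : Fin (m.unop.len + 1) => (Arrow.mk f).left)
        (fun _ => (Arrow.mk f).hom) =
      WidePullback.base (objs := fun _ : Fin (n.unop.len + 1) => (Arrow.mk f).left) (fun _ => (Arrow.mk f).hom) by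
      simp [Arrow.cechNerve])

lemma prP_map {n m : SimplexCategoryᵒᵖ} (g : n ⟶ m) (i : Fin (m.unop.len + 1)) :
    (nerveP f).map g ≫ prP f m i = prP f n (g.unop.toOrderHom i) :=
  congrArg (fun g : (Arrow.mk f).cechNerve.obj n ⟶ K' => g.hom)
    (show (Arrow.mk f).cechNerve.map g ≫ WidePullback.π (objs := fun _ : Fin (m.unop.len + 1) => (Arrow.mk f).left)
        (fun _ => (Arrow.mk f).hom) i =
      WidePullback.π (objs := fun _ : Fin (n.unop.len + 1) => (Arrow.mk f).left) (fun _ => (Arrow.mk f).hom)
        (g.unop.toOrderHom i) by simp [Arrow.cechNerve])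

/-- the image of the morphism -/
abbrev imgP : Cᵒᵖ ⥤ Type u := (Subfunctor.range f.hom).toFunctor

/-- the nerve augmented to the image -/
noncomputable def augP : SimplicialObject.Augmented (Cᵒᵖ ⥤ Type u) where
  left := nerveP f
  right := imgP f
  hom :=
    { app := fun n => prP f n 0 ≫ Subfunctor.toRange f.hom
      naturality := fun n m g => by
        rw [← cancel_mono (Subfunctor.range f.hom).ι]
        simp only [Category.assoc, Subfunctor.toRange_ι, prP_comp]
        show (nerveP f).map g ≫ baseP f m = prP f n 0 ≫ Subfunctor.toRange f.hom ≫ 𝟙 _ ≫ (Subfunctor.range f.hom).ι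
        rw [baseP_map, Category.id_comp, Subfunctor.toRange_ι, prP_comp] }

variable (c : Cᵒᵖ)

/-- elements of the nerve as a cone -/
noncomputable def nerveEquiv (n : SimplexCategoryᵒᵖ) :=
  Types.isLimitEquivSections (isLimitOfPreserves (sheafToPresheaf J (Type u) ⋙ (evaluation Cᵒᵖ (Type u)).obj c)
    (limit.isLimit (WidePullbackShape.wideCospan (Arrow.mk f).right (fun _ : Fin (n.unop.len + 1) => (Arrow.mk f).left)
      (fun _ => (Arrow.mk f).hom))))

lemma nerve_ext {n : SimplexCategoryᵒᵖ} {x y : ((nerveP f).obj n).obj c}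
    (hb : (baseP f n).app c x = (baseP f n).app c y) (h : ∀ i, (prP f n i).app c x = (prP f n i).app c y) : x = y := by
  apply (nerveEquiv f c n).injective
  ext o
  rcases o with _ | i
  · exact hb
  · exact h i

lemma exists_nerve (n : SimplexCategoryᵒᵖ) (b : K.obj.obj c) (t : Fin (n.unop.len + 1) → K'.obj.obj c)
    (h : ∀ i, f.hom.app c (t i) = b) :
    ∃ x : ((nerveP f).obj n).obj c, (baseP f n).app c x = b ∧ ∀ i, (prP f n i).app c x = t i := by
  refine ⟨(nerveEquiv f c n).symm ⟨fun (o : WidePullbackShape (Fin (n.unop.len + 1))) => match o with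
      | none => b
      | some i => t i, fun {o o' : WidePullbackShape (Fin (n.unop.len + 1))} g => ?_⟩, ?_, fun i => ?_⟩
  · rcases g with _ | i
    · cases o <;> rfl
    · exact h i
  · exact congrFun (congrArg Subtype.val ((nerveEquiv f c n).apply_symm_apply _)) none
  · exact congrFun (congrArg Subtype.val ((nerveEquiv f c n).apply_symm_apply _)) (some i)

variable {f} {c}

noncomputable def mkNerve (n : SimplexCategoryᵒᵖ) (b : K.obj.obj c) (t : Fin (n.unop.len + 1) → K'.obj.obj c)
    (h : ∀ i, f.hom.app c (t i) = b) : ((nerveP f).obj n).obj c := (exists_nerve f c n b t h).choose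

@[simp] lemma baseP_mkNerve (n : SimplexCategoryᵒᵖ) (b : K.obj.obj c) (t : Fin (n.unop.len + 1) → K'.obj.obj c)
    (h : ∀ i, f.hom.app c (t i) = b) : (baseP f n).app c (mkNerve n b t h) = b :=
  (exists_nerve f c n b t h).choose_spec.1

@[simp] lemma prP_mkNerve (n : SimplexCategoryᵒᵖ) (b : K.obj.obj c) (t : Fin (n.unop.len + 1) → K'.obj.obj c)
    (h : ∀ i, f.hom.app c (t i) = b) (i : Fin (n.unop.len + 1)) : (prP f n i).app c (mkNerve n b t h) = t i :=
  (exists_nerve f c n b t h).choose_spec.2 i

variable (f) (c)

/-- a section over the image -/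
noncomputable def secImg (y : (imgP f).obj c) : K'.obj.obj c := Classical.choose y.2

lemma secImg_spec (y : (imgP f).obj c) : f.hom.app c (secImg f c y) = y.1 := Classical.choose_spec y.2

lemma base_mem (n : SimplexCategoryᵒᵖ) (x : ((nerveP f).obj n).obj c) :
    (baseP f n).app c x ∈ (Subfunctor.range f.hom).obj c :=
  ⟨(prP f n 0).app c x, ConcreteCategory.congr_hom (NatTrans.congr_app (prP_comp f n 0) c) x⟩

lemma f_prP (n : SimplexCategoryᵒᵖ) (x : ((nerveP f).obj n).obj c) (i : Fin (n.unop.len + 1)) :
    f.hom.app c ((prP f n i).app c x) = (baseP f n).app c x :=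
  ConcreteCategory.congr_hom (NatTrans.congr_app (prP_comp f n i) c) x

/-- the section attached to an element -/
noncomputable def headSec (n : SimplexCategoryᵒᵖ) (x : ((nerveP f).obj n).obj c) : K'.obj.obj c :=
  secImg f c ⟨(baseP f n).app c x, base_mem f c n x⟩

lemma headSec_congr {n m : SimplexCategoryᵒᵖ} {x : ((nerveP f).obj n).obj c} {y : ((nerveP f).obj m).obj c}
    (h : (baseP f n).app c x = (baseP f m).app c y) : headSec f c n x = headSec f c m y := by
  unfold headSec
  congr 2

/-- add the section in front -/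
noncomputable def consSec (n : ℕ) (x : ((nerveP f).obj (op ⦋n⦌)).obj c) : ((nerveP f).obj (op ⦋n + 1⦌)).obj c :=
  mkNerve (op ⦋n + 1⦌) ((baseP f _).app c x)
    (Fin.cases (headSec f c _ x) fun i : Fin (n + 1) => (prP f (op ⦋n⦌) i).app c x)
    (fun i => by
      cases i using Fin.cases with
      | zero => exact secImg_spec f c _
      | succ i => exact f_prP f c _ x i)

lemma baseP_consSec (n : ℕ) (x : ((nerveP f).obj (op ⦋n⦌)).obj c) :
    (baseP f _).app c (consSec f c n x) = (baseP f _).app c x := baseP_mkNerve _ _ _ _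

lemma prP_consSec_zero (n : ℕ) (x : ((nerveP f).obj (op ⦋n⦌)).obj c) :
    (prP f (op ⦋n + 1⦌) 0).app c (consSec f c n x) = headSec f c _ x := prP_mkNerve _ _ _ _ _

lemma prP_consSec_succ (n : ℕ) (x : ((nerveP f).obj (op ⦋n⦌)).obj c) (i : Fin (n + 1)) :
    (prP f (op ⦋n + 1⦌) i.succ).app c (consSec f c n x) = (prP f (op ⦋n⦌) i).app c x :=
  (prP_mkNerve _ _ _ _ _).trans rfl

lemma baseP_mapApp {n m : SimplexCategoryᵒᵖ} (g : n ⟶ m) (x : ((nerveP f).obj n).obj c) :
    (baseP f m).app c (((nerveP f).map g).app c x) = (baseP f n).app c x :=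
  ConcreteCategory.congr_hom (NatTrans.congr_app (baseP_map f g) c) x

lemma prP_mapApp {n m : SimplexCategoryᵒᵖ} (g : n ⟶ m) (i : Fin (m.unop.len + 1)) (x : ((nerveP f).obj n).obj c) :
    (prP f m i).app c (((nerveP f).map g).app c x) = (prP f n (g.unop.toOrderHom i)).app c x :=
  ConcreteCategory.congr_hom (NatTrans.congr_app (prP_map f g i) c) x

/-- the extra degeneracy over a fixed object -/
noncomputable def extraAt :
    SimplicialObject.Augmented.ExtraDegeneracy
      (((SimplicialObject.Augmented.whiskering _ _).obj ((evaluation Cᵒᵖ (Type u)).obj c)).obj (augP f)) where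
  s' := ↾fun y => mkNerve (op ⦋0⦌) y.1 (fun _ => secImg f c y) (fun _ => secImg_spec f c y)
  s n := ↾consSec f c n
  s'_comp_ε := by
    ext y
    apply Subtype.ext
    show f.hom.app c ((prP f (op ⦋0⦌) 0).app c (mkNerve (op ⦋0⦌) y.1 (fun _ => secImg f c y) (fun _ => secImg_spec f c y))) = y.1
    rw [prP_mkNerve, secImg_spec]
  s₀_comp_δ₁ := by
    ext x
    show ((nerveP f).map (SimplexCategory.δ 1).op).app c (consSec f c 0 x) =
      mkNerve (op ⦋0⦌) (f.hom.app c ((prP f (op ⦋0⦌) 0).app c x))
        (fun _ => secImg f c ⟨f.hom.app c ((prP f (op ⦋0⦌) 0).app c x), ⟨_, rfl⟩⟩) (fun _ => secImg_spec f c _)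
    refine nerve_ext f c ?_ fun i => ?_
    · rw [baseP_mapApp, baseP_consSec, baseP_mkNerve, f_prP]
    · rw [prP_mapApp, prP_mkNerve]
      fin_cases i
      refine (prP_consSec_zero f c 0 x).trans ?_
      unfold headSec
      congr 2
      exact (f_prP f c _ x _).symm
  s_comp_δ₀ n := by
    ext x
    show ((nerveP f).map (SimplexCategory.δ 0).op).app c (consSec f c n x) = x
    refine nerve_ext f c ?_ fun i => ?_
    · rw [baseP_mapApp, baseP_consSec]
    · rw [prP_mapApp]
      exact prP_consSec_succ f c n x i
  s_comp_δ n i := by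
    ext x
    show ((nerveP f).map (SimplexCategory.δ i.succ).op).app c (consSec f c (n + 1) x) =
      consSec f c n (((nerveP f).map (SimplexCategory.δ i).op).app c x)
    refine nerve_ext f c ?_ fun j => ?_
    · rw [baseP_mapApp, baseP_consSec, baseP_consSec, baseP_mapApp]
    · rw [prP_mapApp]
      cases j using Fin.cases with
      | zero =>
        rw [prP_consSec_zero]
        refine (congrArg (fun k => (prP f (op ⦋n + 1 + 1⦌) k).app c (consSec f c (n + 1) x))
          (Fin.succ_succAbove_zero i)).trans ((prP_consSec_zero f c _ x).trans ?_)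
        exact headSec_congr f c (baseP_mapApp f c _ _).symm
      | succ j =>
        refine Eq.trans ?_ (prP_consSec_succ f c n _ j).symm
        rw [prP_mapApp]
        refine (congrArg (fun k => (prP f (op ⦋n + 1 + 1⦌) k).app c (consSec f c (n + 1) x))
          (Fin.succ_succAbove_succ i j)).trans ?_
        exact prP_consSec_succ f c _ x _
  s_comp_σ n i := by
    ext x
    show ((nerveP f).map (SimplexCategory.σ i.succ).op).app c (consSec f c n x) =
      consSec f c (n + 1) (((nerveP f).map (SimplexCategory.σ i).op).app c x)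
    refine nerve_ext f c ?_ fun j => ?_
    · rw [baseP_mapApp, baseP_consSec, baseP_consSec, baseP_mapApp]
    · rw [prP_mapApp]
      cases j using Fin.cases with
      | zero =>
        rw [prP_consSec_zero]
        refine (congrArg (fun k => (prP f (op ⦋n + 1⦌) k).app c (consSec f c n x))
          (show Fin.predAbove i.succ (0 : Fin (n + 1 + 1 + 1)) = 0 by simp)).trans ((prP_consSec_zero f c _ x).trans ?_)
        exact headSec_congr f c (baseP_mapApp f c _ _).symm
      | succ j =>
        refine Eq.trans ?_ (prP_consSec_succ f c (n + 1) _ j).symm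
        rw [prP_mapApp]
        refine (congrArg (fun k => (prP f (op ⦋n + 1⦌) k).app c (consSec f c n x))
          (Fin.succ_predAbove_succ i j)).trans ?_
        exact prP_consSec_succ f c _ x _

/-- the free presheaves on the nerve resolve the free presheaf on the image -/
lemma quasiIso_freeP :
    QuasiIso (AlternatingFaceMapComplex.ε.app (((SimplicialObject.Augmented.whiskering _ _).obj
      ((Functor.whiskeringRight Cᵒᵖ (Type u) AddCommGrpCat.{u}).obj AddCommGrpCat.free.{u})).obj (augP f))) := by
  rw [HomologicalComplex.quasiIso_iff_evaluation]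
  intro c
  rw [quasiIso_map_ε_iff]
  exact inferInstanceAs (QuasiIso ((extraAt f c).map AddCommGrpCat.free.{u}).homotopyEquiv.hom)

variable [Epi f]

lemma isIso_img : IsIso ((frP J).map (Subfunctor.range f.hom).ι) := by
  have hW : J.W (Subfunctor.range f.hom).ι := by
    rw [J.W_iff_isLocallyBijective]
    refine ⟨Presheaf.isLocallyInjective_of_injective J _ (fun U => Subtype.val_injective), ⟨fun {U} s => ?_⟩⟩
    haveI : Sheaf.IsLocallySurjective f := (Sheaf.isLocallySurjective_iff_epi f).2 inferInstance
    refine J.superset_covering ?_ (Presheaf.imageSieve_mem J f.hom (U := op U) s)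
    rintro V g ⟨t, ht⟩
    exact ⟨⟨f.hom.app _ t, ⟨t, rfl⟩⟩, ht⟩
  exact isIso_frP_map _ fun F => hW _ (isSheaf_undP F)

/-- the free Čech resolution -/
theorem quasiIso_cech :
    QuasiIso ((AlternatingFaceMapComplex.ε (C := Sheaf J AddCommGrpCat.{u})).app
      (((SimplicialObject.Augmented.whiskering _ _).obj (Sheaf.composeAndSheafify J AddCommGrpCat.free.{u})).obj
        (Arrow.mk f).augmentedCechNerve)) := by
  let P := ((SimplicialObject.Augmented.whiskering _ _).obj
      ((Functor.whiskeringRight Cᵒᵖ (Type u) AddCommGrpCat.{u}).obj AddCommGrpCat.free.{u})).obj (augP f)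
  haveI : (presheafToSheaf J AddCommGrpCat.{u}).Additive := presheafToSheaf_additive
  haveI := quasiIso_freeP f
  haveI : QuasiIso (AlternatingFaceMapComplex.ε.app
      (((SimplicialObject.Augmented.whiskering _ _).obj (presheafToSheaf J AddCommGrpCat.{u})).obj P)) :=
    (quasiIso_map_ε_iff _ _).1 inferInstance
  haveI := isIso_img f
  refine quasiIso_ε_of_iso (X := ((SimplicialObject.Augmented.whiskering _ _).obj
    (presheafToSheaf J AddCommGrpCat.{u})).obj P)
    (Comma.isoMk (Iso.refl _) (asIso ((frP J).map (Subfunctor.range f.hom).ι)) ?_)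
  apply NatTrans.ext
  funext n
  show 𝟙 _ ≫ (frP J).map (baseP f n) =
    (frP J).map (prP f n 0 ≫ Subfunctor.toRange f.hom) ≫ (frP J).map (Subfunctor.range f.hom).ι
  rw [Category.id_comp, ← CategoryTheory.Functor.map_comp, Category.assoc, Subfunctor.toRange_ι, prP_comp]

end Groth.Agent.SiteCoh
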