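import Groth.Agent.Lib.SiteCoh.CechFamily
import Mathlib.AlgebraicTopology.SimplicialObject.ChainHomotopy

/-! Refinement maps of Čech complexes are homotopic. -/

universe u w v

open CategoryTheory CategoryTheory.Functor CategoryTheory.Limits Opposite AlgebraicTopology Simplicial

set_option linter.style.haveILetI false
set_option backward.isDefEq.respectTransparency false
set_option backward.isDefEq.respectTransparency.types false

namespace Groth.Agent.SiteCoh

section Simplicial

local macro "fin_arith" : tactic => `(tactic|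
  (simp only [Fin.predAbove, Fin.succAbove, Fin.ext_iff, Fin.lt_def, Fin.le_def, apply_dite Fin.val, apply_ite Fin.val,
     Fin.val_castSucc, Fin.val_succ, Fin.val_last, Fin.val_pred, Fin.coe_castPred] at *
   repeat' split_ifs
   all_goals omega))

variable {A : Type u} [Category.{v} A] [HasFiniteProducts A] {X Y : FormalCoproduct.{w} A} (f g : X ⟶ Y)

lemma power_ext {T : FormalCoproduct.{w} A} {n : ℕ} {a b : T ⟶ Y.cech.obj (op ⦋n⦌)}
    (h : ∀ k : Fin (n + 1), a ≫ Y.powerπ k = b ≫ Y.powerπ k) : a = b :=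
  Fan.IsLimit.hom_ext (FormalCoproduct.isLimitPowerFan Y (Fin (n + 1))) a b h

/-- slots of the homotopy -/
noncomputable def htSlot {n : ℕ} (i : Fin (n + 1)) (k : Fin (n + 2)) : X.cech.obj (op ⦋n⦌) ⟶ Y :=
  X.powerπ (i.predAbove k) ≫ (if k ≤ i.castSucc then f else g)

/-- the homotopy -/
noncomputable def htMap {n : ℕ} (i : Fin (n + 1)) : X.cech.obj (op ⦋n⦌) ⟶ Y.cech.obj (op ⦋n + 1⦌) :=
  Fan.IsLimit.lift (FormalCoproduct.isLimitPowerFan Y (Fin (n + 2))) (htSlot f g i)

lemma htMap_π {n : ℕ} (i : Fin (n + 1)) (k : Fin (n + 2)) :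
    htMap f g i ≫ Y.powerπ k = X.powerπ (i.predAbove k) ≫ (if k ≤ i.castSucc then f else g) :=
  Fan.IsLimit.fac _ _ k

lemma cechMap_π {n : ℕ} (k : Fin (n + 1)) :
    (FormalCoproduct.cechFunctor.map f).app (op ⦋n⦌) ≫ Y.powerπ k = X.powerπ k ≫ f := by
  show FormalCoproduct.powerMap f (Fin (n + 1)) ≫ Y.powerπ k = _
  ext <;> simp [FormalCoproduct.powerMap, FormalCoproduct.powerπ]

lemma face_π (U : FormalCoproduct.{w} A) {n : ℕ} (a : Fin (n + 2)) (k : Fin (n + 1)) :
    U.cech.δ a ≫ U.powerπ k = U.powerπ (a.succAbove k) :=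
  FormalCoproduct.mapPower_π U (α := Fin (n + 1)) (β := Fin (n + 2)) _ k

lemma degen_π (U : FormalCoproduct.{w} A) {n : ℕ} (a : Fin (n + 1)) (k : Fin (n + 2)) :
    U.cech.σ a ≫ U.powerπ k = U.powerπ (a.predAbove k) :=
  FormalCoproduct.mapPower_π U (α := Fin (n + 2)) (β := Fin (n + 1)) _ k

lemma slot_congr {n : ℕ} {a b : Fin (n + 1)} {p q : Prop} [Decidable p] [Decidable q] (h : a = b) (hpq : p ↔ q) :
    (X.powerπ a ≫ if p then f else g) = X.powerπ b ≫ if q then f else g := by
  subst h
  congr 1
  exact if_congr hpq rfl rfl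

/-- any two refinements give homotopic maps of Čech objects -/
noncomputable def cechHomotopy : SimplicialObject.Homotopy (X := X.cech) (Y := Y.cech) (FormalCoproduct.cechFunctor.map f) (FormalCoproduct.cechFunctor.map g) where
  h i := htMap f g i
  h_zero_comp_δ_zero n := power_ext fun k => by
    rw [Category.assoc, face_π, htMap_π, cechMap_π, Fin.zero_succAbove, if_neg (by simp)]
    congr 2
  h_last_comp_δ_last n := power_ext fun k => by
    rw [Category.assoc, face_π, htMap_π, cechMap_π, Fin.succAbove_last, if_pos (by simp [Fin.le_last])]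
    congr 2
    fin_arith
  h_succ_comp_δ_castSucc_of_lt i j hij := power_ext fun k => by
    rw [Category.assoc, face_π, htMap_π, Category.assoc, htMap_π, ← Category.assoc, face_π]
    rw [Fin.le_def] at hij
    refine slot_congr f g ?_ ?_
    · fin_arith
    · fin_arith
  h_succ_comp_δ_castSucc_succ j := power_ext fun k => by
    rw [Category.assoc, face_π, htMap_π, Category.assoc, face_π, htMap_π]
    refine slot_congr f g ?_ ?_
    · fin_arith
    · fin_arith
  h_castSucc_comp_δ_succ_of_lt i j hji := power_ext fun k => by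
    rw [Category.assoc, face_π, htMap_π, Category.assoc, htMap_π, ← Category.assoc, face_π]
    rw [Fin.lt_def] at hji
    refine slot_congr f g ?_ ?_
    · fin_arith
    · fin_arith
  h_comp_σ_castSucc_of_le i j hij := power_ext fun k => by
    rw [Category.assoc, degen_π, htMap_π, Category.assoc, htMap_π, ← Category.assoc, degen_π]
    rw [Fin.le_def] at hij
    refine slot_congr f g ?_ ?_
    · fin_arith
    · fin_arith
  h_comp_σ_succ_of_lt i j hji := power_ext fun k => by
    rw [Category.assoc, degen_π, htMap_π, Category.assoc, htMap_π, ← Category.assoc, degen_π]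
    rw [Fin.le_def] at hji
    refine slot_congr f g ?_ ?_
    · fin_arith
    · fin_arith

end Simplicial

variable {C : Type u} [SmallCategory C] [HasPullbacks C] {J : GrothendieckTopology C} {U : C}
  {X Y : FormalCoproduct.{u} (Over U)} (F : Sheaf J AddCommGrpCat.{u})

/-- the free complex of a formal coproduct -/
noncomputable abbrev fcCx (J : GrothendieckTopology C) (X : FormalCoproduct.{u} (Over U)) :
    ChainComplex (Sheaf J AddCommGrpCat.{u}) ℕ :=
  (alternatingFaceMapComplex _).obj (((SimplicialObject.whiskering _ _).obj (psh (C := C) (U := U) ⋙ frP J)).obj X.cech)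

/-- values -/
noncomputable def fcEquiv (X : FormalCoproduct.{u} (Over U)) (n : ℕ) :
    ((fcCx J X).X n ⟶ F) ≃+ ((FormalCoproduct.cochainComplexFunctor X.cech).obj ((Over.forget U).op ⋙ F.obj)).X n :=
  AddEquiv.ofBijective (M := (fcCx J X).X n ⟶ F)
    (N := ((FormalCoproduct.cochainComplexFunctor X.cech).obj ((Over.forget U).op ⋙ F.obj)).X n)
    (famElt (F := F) (X.power (ToType (⦋n⦌ : SimplexCategory)))) (bijective_famElt _)

lemma fcEquiv_d (X : FormalCoproduct.{u} (Over U)) (q : ℕ) (x : (fcCx J X).X q ⟶ F) :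
    ((FormalCoproduct.cochainComplexFunctor X.cech).obj ((Over.forget U).op ⋙ F.obj)).d q (q + 1) (fcEquiv F X q x) =
      fcEquiv F X (q + 1) ((fcCx J X).d (q + 1) q ≫ x) :=
  famElt_d X.obj F q x

lemma fcEquiv_refine (f : X ⟶ Y) (q : ℕ) (x : (fcCx J Y).X q ⟶ F) :
    (CohCx.cechRefine F.obj f).f q (fcEquiv F Y q x) =
      fcEquiv F X q (((alternatingFaceMapComplex _).map
        (((SimplicialObject.whiskering _ _).obj (psh (C := C) (U := U) ⋙ frP J)).map
          (FormalCoproduct.cechFunctor.map f))).f q ≫ x) :=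
  (famElt_natural _ ((FormalCoproduct.cechFunctor.map f).app (op ⦋q⦌)) x).symm

/-- refinements act equally on Čech cohomology -/
theorem homologyMap_cechRefine_eq (f g : X ⟶ Y) (q : ℕ) :
    HomologicalComplex.homologyMap (CohCx.cechRefine F.obj f) q =
      HomologicalComplex.homologyMap (CohCx.cechRefine F.obj g) q := by
  let H := ((cechHomotopy f g).whiskerRight (psh (C := C) (U := U) ⋙ frP J)).toChainHomotopy
  refine Homotopy.homologyMap_eq
    { hom := fun i j => AddCommGrpCat.ofHom (AddMonoidHom.mk'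
        (fun x => fcEquiv F X j (H.hom j i ≫ (fcEquiv F Y i).symm x))
        (fun x y => by rw [_root_.map_add, Preadditive.comp_add, _root_.map_add]))
      zero := fun i j hij => by
        ext x
        show fcEquiv F X j (H.hom j i ≫ _) = 0
        rw [H.zero j i hij, zero_comp, _root_.map_zero]
      comm := fun n => ?_ } q
  ext x
  obtain ⟨x, rfl⟩ := (fcEquiv F Y n).surjective x
  have hc := congrArg (· ≫ x) (H.comm n)
  cases n with
  | zero =>
    rw [dNext_eq _ (show (ComplexShape.up ℕ).Rel 0 1 from rfl), prevD_eq_zero _ _ (by simp)]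
    rw [dNext_eq_zero _ _ (by simp), prevD_eq _ (show (ComplexShape.down ℕ).Rel 1 0 from rfl), zero_add,
      Preadditive.add_comp, Category.assoc] at hc
    simp only [AddCommGrpCat.hom_add, AddMonoidHom.add_apply, AddCommGrpCat.hom_comp, AddMonoidHom.coe_comp,
      Function.comp_apply, AddCommGrpCat.hom_ofHom, AddMonoidHom.mk'_apply, AddCommGrpCat.hom_zero,
      AddMonoidHom.zero_apply, add_zero]
    erw [fcEquiv_refine, fcEquiv_refine, fcEquiv_d]
    erw [AddEquiv.symm_apply_apply]
    rw [hc, _root_.map_add]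
  | succ n =>
    rw [dNext_eq _ (show (ComplexShape.up ℕ).Rel (n + 1) (n + 2) from rfl),
      prevD_eq _ (show (ComplexShape.up ℕ).Rel n (n + 1) from rfl)]
    rw [dNext_eq _ (show (ComplexShape.down ℕ).Rel (n + 1) n from rfl),
      prevD_eq _ (show (ComplexShape.down ℕ).Rel (n + 2) (n + 1) from rfl),
      Preadditive.add_comp, Preadditive.add_comp, Category.assoc, Category.assoc] at hc
    simp only [AddCommGrpCat.hom_add, AddMonoidHom.add_apply, AddCommGrpCat.hom_comp, AddMonoidHom.coe_comp,
      Function.comp_apply, AddCommGrpCat.hom_ofHom, AddMonoidHom.mk'_apply]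
    erw [fcEquiv_refine, fcEquiv_refine]
    rw [hc, _root_.map_add, _root_.map_add, add_comm (fcEquiv F X (n + 1) _) (fcEquiv F X (n + 1) _)]
    erw [fcEquiv_d F Y, fcEquiv_d F X, AddEquiv.symm_apply_apply, AddEquiv.symm_apply_apply]

end Groth.Agent.SiteCoh
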