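import Groth.Agent.Lib.SiteCoh.CechExt
import Groth.Agent.Lib.SiteCoh.LanMono

/-! Cohomology of covering sieves in presheaves. -/

universe u

open CategoryTheory CategoryTheory.Functor CategoryTheory.Limits Opposite Abelian

set_option linter.style.haveILetI false
set_option backward.isDefEq.respectTransparency false
set_option backward.isDefEq.respectTransparency.types false

namespace Groth.Agent.SiteCoh

/-- lifting by a pulled back extension -/
lemma exists_lift_of_pullback {A : Type*} [Category A] [Abelian A] [HasExt.{u} A] {S : ShortComplex A} [Mono S.f]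
    (hS : S.Exact) {P : A} (φ : P ⟶ S.X₃) [Epi (pullback.snd S.g φ)] (h : Subsingleton (Ext P S.X₁ 1)) :
    ∃ ψ : P ⟶ S.X₂, ψ ≫ S.g = φ := by
  let k : S.X₁ ⟶ pullback S.g φ := pullback.lift S.f 0 (by rw [S.zero, zero_comp])
  have w : k ≫ pullback.snd S.g φ = 0 := pullback.lift_snd _ _ _
  haveI : Mono k := mono_of_mono_fac (pullback.lift_fst _ _ _ : k ≫ pullback.fst S.g φ = S.f)
  have hk : IsLimit (KernelFork.ofι k w) := KernelFork.IsLimit.ofι' k w fun {T} m hm =>
    let z : {z : T ⟶ S.X₁ // z ≫ S.f = m ≫ pullback.fst S.g φ} :=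
      KernelFork.IsLimit.lift' hS.fIsKernel (m ≫ pullback.fst S.g φ)
        (by rw [Category.assoc, pullback.condition, reassoc_of% hm, zero_comp])
    ⟨z.1, pullback.hom_ext (by rw [Category.assoc, pullback.lift_fst, z.2])
      (by rw [Category.assoc, w, comp_zero, hm])⟩
  have hS' : (ShortComplex.mk k (pullback.snd S.g φ) w).ShortExact :=
    ShortComplex.ShortExact.mk' (ShortComplex.exact_of_f_is_kernel _ hk) inferInstance inferInstance
  obtain ⟨g, hg⟩ := exists_lift_of_ext P hS' h (𝟙 P)
  dsimp at hg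
  exact ⟨g ≫ pullback.fst S.g φ, by rw [Category.assoc, pullback.condition, reassoc_of% hg]⟩

variable {C : Type u} [SmallCategory C] {J : GrothendieckTopology C}

/-- sheaves as sheaves for the trivial topology -/
def toBot (J : GrothendieckTopology C) : Sheaf J AddCommGrpCat.{u} ⥤ Sheaf (⊥ : GrothendieckTopology C) AddCommGrpCat.{u} where
  obj F := ⟨F.obj, Presheaf.isSheaf_bot _⟩
  map φ := ⟨φ.hom⟩

/-- sheafification is left adjoint to `toBot` -/
noncomputable def toBotAdj (J : GrothendieckTopology C) :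
    sheafToPresheaf (⊥ : GrothendieckTopology C) AddCommGrpCat.{u} ⋙ presheafToSheaf J AddCommGrpCat.{u} ⊣ toBot J :=
  Adjunction.mkOfHomEquiv
    { homEquiv := fun P F => ((sheafificationAdjunction J AddCommGrpCat.{u}).homEquiv P.obj F).trans
        ⟨fun f => ⟨f⟩, fun f => f.hom, fun _ => rfl, fun _ => rfl⟩
      homEquiv_naturality_left_symm := fun f g =>
        (sheafificationAdjunction J AddCommGrpCat.{u}).homEquiv_naturality_left_symm f.hom g.hom
      homEquiv_naturality_right := fun f g => by
        apply Sheaf.hom_ext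
        exact (sheafificationAdjunction J AddCommGrpCat.{u}).homEquiv_naturality_right f g }

lemma injective_toBot (I : Sheaf J AddCommGrpCat.{u}) [Injective I] : Injective ((toBot J).obj I) := by
  haveI : PreservesFiniteLimits (sheafToPresheaf (⊥ : GrothendieckTopology C) AddCommGrpCat.{u}) :=
    ⟨fun _ _ _ => inferInstance⟩
  haveI : PreservesFiniteLimits (sheafToPresheaf (⊥ : GrothendieckTopology C) AddCommGrpCat.{u} ⋙
      presheafToSheaf J AddCommGrpCat.{u}) := comp_preservesFiniteLimits _ _
  exact Injective.injective_of_adjoint (toBotAdj J) I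

instance : (toBot (C := C) J).PreservesZeroMorphisms where
  map_zero _ _ := rfl

instance : PreservesFiniteLimits (toBot (C := C) J) :=
  haveI := (toBotAdj J).isRightAdjoint
  inferInstance

lemma exact_toBot {S : ShortComplex (Sheaf J AddCommGrpCat.{u})} (hS : S.ShortExact) :
    (S.map (toBot J)).Exact ∧ Mono (S.map (toBot J)).f :=
  haveI := hS.mono_f
  ⟨ShortComplex.exact_of_f_is_kernel _ (KernelFork.mapIsLimit _ hS.fIsKernel (toBot J)),
    (toBot J).map_mono S.f⟩

lemma shortExact_toBot {S : ShortComplex (Sheaf J AddCommGrpCat.{u})} (hS : S.ShortExact)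
    (h : ∀ V : C, Function.Surjective (S.g.hom.app (op V))) : (S.map (toBot J)).ShortExact :=
  ShortComplex.ShortExact.mk' (exact_toBot hS).1 (exact_toBot hS).2 (epi_of_surjective_sections _ h)

/-- extension along a covering sieve -/
lemma bijective_sieve {X : C} {R : Sieve X} (hR : R ∈ J X) (F : Sheaf J AddCommGrpCat.{u}) :
    Function.Bijective fun s : F.obj.obj (op X) =>
      (R.functorInclusion ≫ yonedaEquiv.symm s : R.functor ⟶ (undP J).obj F) := by
  have hW : J.W R.functorInclusion := by
    rw [J.W_iff_isLocallyBijective]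
    refine ⟨Presheaf.isLocallyInjective_of_injective J _ (fun U => Subtype.val_injective),
      ⟨fun {V} (g : V ⟶ X) => ?_⟩⟩
    refine J.superset_covering ?_ (J.pullback_stable g hR)
    intro W k hk
    exact ⟨⟨k ≫ g, hk⟩, rfl⟩
  exact (hW _ (isSheaf_undP F)).comp (yonedaEquiv (F := (undP J).obj F)).symm.bijective

/-- acyclic sheaves have no higher cohomology on covering sieves -/
theorem subsingleton_sieve : ∀ (q : ℕ) (F : Sheaf J AddCommGrpCat.{u}),
    (∀ (X : C) (q : ℕ), Subsingleton (CohSite.HU F (q + 1) X)) → ∀ (X : C) (R : Sieve X), R ∈ J X →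
      Subsingleton (Ext ((frP ⊥).obj R.functor) ((toBot J).obj F) (q + 1))
  | q, F, h, X, R, hR => by
    obtain ⟨I, Q, i, π, w, hI, hS⟩ := exists_injSeq F
    haveI := injective_toBot (J := J) I
    have hs : ∀ V : C, Function.Surjective (π.hom.app (op V)) := fun V => surjective_sections V hS (h V 0)
    have hS' := shortExact_toBot hS hs
    cases q with
    | zero =>
      refine ext_one_eq_zero _ hS' (fun f => ?_) (subsingleton_ext_injective _ ((toBot J).obj I) 0)
      obtain ⟨s, hs'⟩ := (bijective_sieve hR Q).2 ((frAdj ⊥).homEquiv _ _ f)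
      obtain ⟨t, rfl⟩ := hs X s
      refine ⟨((frAdj ⊥).homEquiv _ ((toBot J).obj I)).symm
        (R.functorInclusion ≫ (yonedaEquiv (F := (undP J).obj I)).symm t), ?_⟩
      refine ((frAdj ⊥).homEquiv_naturality_right_symm _ _).symm.trans ?_
      rw [Equiv.symm_apply_eq, ← hs']
      ext V g
      exact (NatTrans.naturality_apply π.hom _ t).trans rfl
    | succ q =>
      exact ext_shift₁ _ hS' (q + 1) (subsingleton_sieve q Q (fun V k => subsingleton_HU₃ V hS (k + 1)
        (subsingleton_HU_of_injective V I k) (h V (k + 1))) X R hR) (subsingleton_ext_injective _ ((toBot J).obj I) (q + 1))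

/-- vanishing first cohomology of sieves lifts sections -/
theorem surjective_of_sieve {S : ShortComplex (Sheaf J AddCommGrpCat.{u})} (hS : S.ShortExact)
    (h : ∀ (X : C) (R : Sieve X), R ∈ J X →
      Subsingleton (Ext ((frP ⊥).obj R.functor) ((toBot J).obj S.X₁) 1)) (X : C) :
    Function.Surjective (S.g.hom.app (op X)) := fun s => by
  haveI := hS.epi_g
  haveI hls : Sheaf.IsLocallySurjective S.g := (Sheaf.isLocallySurjective_iff_epi' _ S.g).2 inferInstance
  have hR : Presheaf.imageSieve S.g.hom (U := X) s ∈ J X := Presheaf.imageSieve_mem J S.g.hom (U := op X) s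
  let R := Presheaf.imageSieve S.g.hom (U := X) s
  let φ : (frP ⊥).obj R.functor ⟶ (toBot J).obj S.X₃ :=
    ((frAdj ⊥).homEquiv _ ((toBot J).obj S.X₃)).symm (R.functorInclusion ≫ (yonedaEquiv (F := (undP J).obj S.X₃)).symm s)
  haveI : Mono (S.map (toBot J)).f := (exact_toBot hS).2
  haveI : Epi (pullback.snd (S.map (toBot J)).g φ) := by
    refine Preadditive.epi_of_cancel_zero _ fun {Z} z hz => ?_
    apply ((frAdj ⊥).homEquiv _ _).injective
    ext V g
    obtain ⟨t, ht⟩ := g.2
    let x : yoneda.obj V.unop ⟶ R.functor := yonedaEquiv.symm g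
    let tt : (frP ⊥).obj (yoneda.obj V.unop) ⟶ (toBot J).obj S.X₂ :=
      ((frAdj ⊥).homEquiv _ ((toBot J).obj S.X₂)).symm ((yonedaEquiv (F := (undP J).obj S.X₂)).symm t)
    have e : tt ≫ (S.map (toBot J)).g = (frP ⊥).map x ≫ φ := by
      apply ((frAdj ⊥).homEquiv _ _).injective
      refine ((frAdj ⊥).homEquiv_naturality_right _ _).trans
        (Eq.trans ?_ ((frAdj ⊥).homEquiv_naturality_left _ _).symm)
      refine (congrArg (· ≫ _) (Equiv.apply_symm_apply _ _)).trans
        (Eq.trans ?_ (congrArg (x ≫ ·) (Equiv.apply_symm_apply _ _)).symm)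
      ext W k
      refine (NatTrans.naturality_apply S.g.hom _ t).trans ((congrArg _ ht).trans ?_)
      exact (Functor.map_comp_apply S.X₃.obj _ _ s).symm
    have e0 : (frP ⊥).map x ≫ z = (frP ⊥).map x ≫ 0 := by
      rw [comp_zero, ← pullback.lift_snd tt _ e, Category.assoc, hz, comp_zero]
    have e1 := congrArg (fun f => (((frAdj ⊥).homEquiv _ _) f).app V (𝟙 V.unop)) e0
    simp only [(frAdj ⊥).homEquiv_naturality_left] at e1
    have eg : x.app V (𝟙 V.unop) = g := yonedaEquiv.apply_symm_apply g
    rw [← eg]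
    exact e1
  obtain ⟨ψ, hψ⟩ := exists_lift_of_pullback (exact_toBot hS).1 φ (h X R hR)
  obtain ⟨t, ht⟩ := (bijective_sieve hR S.X₂).2 ((frAdj ⊥).homEquiv _ _ ψ)
  refine ⟨t, (bijective_sieve hR S.X₃).1 ?_⟩
  have e2 := congrArg ((frAdj ⊥).homEquiv _ _) hψ
  rw [(frAdj ⊥).homEquiv_naturality_right, ← ht] at e2
  erw [Equiv.apply_symm_apply] at e2
  refine Eq.trans ?_ e2
  ext V g
  exact (NatTrans.naturality_apply S.g.hom _ t).symm

/-- sheaves without higher cohomology on covering sieves are acyclic -/
theorem subsingleton_HU_of_sieve : ∀ (q : ℕ) (F : Sheaf J AddCommGrpCat.{u}),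
    (∀ (X : C) (R : Sieve X), R ∈ J X → ∀ k : ℕ,
      Subsingleton (Ext ((frP ⊥).obj R.functor) ((toBot J).obj F) (k + 1))) →
    ∀ X : C, Subsingleton (CohSite.HU F (q + 1) X)
  | q, F, h, X => by
    obtain ⟨I, Q, i, π, w, hI, hS⟩ := exists_injSeq F
    haveI := injective_toBot (J := J) I
    have hs := surjective_of_sieve hS fun Y R hR => h Y R hR 0
    cases q with
    | zero => exact subsingleton_HU_one X hS (hs X) (subsingleton_HU_of_injective X I 0)
    | succ q =>
      exact subsingleton_HU₁ X hS (q + 1) (subsingleton_HU_of_sieve q Q (fun Y R hR k =>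
        ext_shift₃ _ (shortExact_toBot hS hs) (k + 1) (subsingleton_ext_injective _ ((toBot J).obj I) k) (h Y R hR (k + 1))) X)
        (subsingleton_HU_of_injective X I (q + 1))

end Groth.Agent.SiteCoh
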